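import Groth.Agent.GrTildeLib.QCoh
import Groth.Agent.PullbackMod.Basic

/-! The twisting sheaf as the sheaf of the graded module `S`. -/

set_option autoImplicit false
set_option linter.style.haveILetI false
set_option backward.isDefEq.respectTransparency false

universe u

open CategoryTheory TopologicalSpace AlgebraicGeometry Opposite

noncomputable section

namespace Groth.Agent.GrTildeLib

variable {R A : Type u} [CommRing R] [CommRing A] [Algebra R A] (𝒜 : ℕ → Submodule R A) [GradedAlgebra 𝒜]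

theorem loc_smul_eq (x : ProjectiveSpectrum 𝒜) (c q : Twist.Loc 𝒜 x) :
    (c • q : GrTilde.LocMod 𝒜 (M := A) x) = c * q := rfl

theorem twistAt_eq (n : ℤ) (x : ProjectiveSpectrum 𝒜) (q : Twist.Loc 𝒜 x) :
    q ∈ Twist.twistAt 𝒜 n x ↔ (q : GrTilde.LocMod 𝒜 (M := A) x) ∈ GrTilde.tildeAt 𝒜 𝒜 n x := by
  constructor
  · intro hq
    induction hq using Submodule.span_induction with
    | mem q hq =>
      obtain ⟨i, j, m, s, hs, he, rfl⟩ := hq
      exact Submodule.subset_span ⟨i, j, m, s, hs, he, rfl⟩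
    | zero => exact zero_mem _
    | add a b _ _ ha hb => exact add_mem ha hb
    | smul c a _ ha =>
      have h := Submodule.smul_mem (GrTilde.tildeAt 𝒜 𝒜 n x) c ha
      exact (show c • a = _ from Algebra.smul_def c a) ▸ h
  · intro hq
    induction hq using Submodule.span_induction with
    | mem q hq =>
      obtain ⟨i, j, m, s, hs, he, rfl⟩ := hq
      exact Submodule.subset_span ⟨i, j, m, s, hs, he, rfl⟩
    | zero => exact zero_mem _
    | add a b _ _ ha hb => exact add_mem ha hb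
    | smul c a _ ha =>
      have h := Submodule.smul_mem (Twist.twistAt 𝒜 n x) c ha
      exact (show c • a = _ from Algebra.smul_def c a) ▸ h

/-- `O(n) ≅ S(n)~`. -/
def twistIso (n : ℤ) : Twist.twist 𝒜 n ≅ GrTilde.tilde 𝒜 𝒜 n :=
  @asIso _ _ _ _
    (SheafOfModules.Hom.mk <| PresheafOfModules.homMk
      { app := fun U => AddCommGrpCat.ofHom
          { toFun := fun f : Twist.sectN (𝒜 := 𝒜) n U =>
              (⟨fun x => ⟨(f.1 x).1, (twistAt_eq 𝒜 n _ _).1 (f.1 x).2⟩, f.2⟩ : GrTilde.sect 𝒜 𝒜 n U)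
            map_zero' := rfl
            map_add' := fun _ _ => rfl }
        naturality := fun U V i => rfl }
      (fun U c f => by
        refine Subtype.ext (funext fun x => Subtype.ext ?_)
        exact (Twist.coe_smul_val n x.1 (c.1 x) (f.1 x)).trans
          (GrTilde.coe_smul_val n x.1 (c.1 x) ⟨(f.1 x).1, (twistAt_eq 𝒜 n _ _).1 (f.1 x).2⟩).symm))
    (Scheme.Modules.Hom.isIso_iff_isIso_app.2 fun U => by
      rw [ConcreteCategory.isIso_iff_bijective]
      refine ⟨fun f g h => ?_, fun f => ?_⟩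
      · refine Subtype.ext (funext fun x => Subtype.ext ?_)
        exact congrArg (fun z : GrTilde.sect 𝒜 𝒜 n (op U) => (z.1 x).1) h
      · exact ⟨(⟨fun x => ⟨(f.1 x).1, (twistAt_eq 𝒜 n _ _).2 (f.1 x).2⟩, f.2⟩ :
          Twist.sectN (𝒜 := 𝒜) n (op U)), rfl⟩)

theorem isQCoh_twist (n : ℤ) : Coh.IsQCoh (Twist.twist 𝒜 n) :=
  (SheafOfModules.isQuasicoherent (Proj 𝒜).ringCatSheaf).prop_of_iso (twistIso 𝒜 n).symm
    (isQCoh_tilde (𝒜 := 𝒜) (ℳ := 𝒜) n)

end Groth.Agent.GrTildeLib
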