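import Groth.Agent.GrTildeLib.Basic
import Groth.Agent.HilbObsLib.Stalk

/-!
# Maps and exactness for the sheaves of graded modules
-/

set_option autoImplicit false
set_option linter.style.haveILetI false
set_option backward.isDefEq.respectTransparency false

universe u

open CategoryTheory CategoryTheory.Limits TopologicalSpace AlgebraicGeometry Opposite
open Groth.Agent.PullbackMod

noncomputable section

namespace Groth.Agent.GrTildeLib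

variable {R A : Type u} [CommRing R] [CommRing A] [Algebra R A] {𝒜 : ℕ → Submodule R A} [GradedAlgebra 𝒜]
variable {M : Type u} [AddCommGroup M] [Module R M] [Module A M] {ℳ : ℕ → Submodule R M}
  [SetLike.GradedSMul 𝒜 ℳ]
variable {N : Type u} [AddCommGroup N] [Module R N] [Module A N] {𝒩 : ℕ → Submodule R N}
  [SetLike.GradedSMul 𝒜 𝒩]
variable {P : Type u} [AddCommGroup P] [Module R P] [Module A P] {𝒬 : ℕ → Submodule R P}
  [SetLike.GradedSMul 𝒜 𝒬]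

variable (ℳ 𝒩) in
/-- A linear map preserving degrees. -/
def IsDeg (u : M →ₗ[A] N) : Prop := ∀ (i : ℕ), ∀ m ∈ ℳ i, u m ∈ 𝒩 i

/-- The map of localized modules. -/
abbrev locMap (u : M →ₗ[A] N) (x : ProjectiveSpectrum 𝒜) :
    GrTilde.LocMod 𝒜 (M := M) x →ₗ[Twist.Loc 𝒜 x] GrTilde.LocMod 𝒜 (M := N) x :=
  LocalizedModule.map x.asHomogeneousIdeal.toIdeal.primeCompl u

theorem locMap_mk (u : M →ₗ[A] N) (x : ProjectiveSpectrum 𝒜) (m : M)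
    (s : x.asHomogeneousIdeal.toIdeal.primeCompl) :
    locMap u x (LocalizedModule.mk m s) = LocalizedModule.mk (u m) s :=
  LocalizedModule.map_mk _ u m s

omit [SetLike.GradedSMul 𝒜 ℳ] [SetLike.GradedSMul 𝒜 𝒩] in
theorem locMap_mem (u : M →ₗ[A] N) (hu : IsDeg ℳ 𝒩 u) (n : ℤ) (x : ProjectiveSpectrum 𝒜)
    {q : GrTilde.LocMod 𝒜 (M := M) x} (hq : q ∈ GrTilde.tildeAt 𝒜 ℳ n x) :
    locMap u x q ∈ GrTilde.tildeAt 𝒜 𝒩 n x := by
  induction hq using Submodule.span_induction with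
  | mem q h =>
    obtain ⟨i, j, m, s, hs, hij, rfl⟩ := h
    rw [locMap_mk]
    exact Submodule.subset_span ⟨i, j, ⟨u m, hu i m m.2⟩, s, hs, hij, rfl⟩
  | zero => rw [map_zero]; exact zero_mem _
  | add q q' _ _ h h' => rw [map_add]; exact add_mem h h'
  | smul c q _ h =>
    rw [GrTilde.a0_smul_def, LinearMap.map_smul]
    exact Submodule.smul_mem _ c h

variable (𝒜 ℳ 𝒩) in
/-- The map on sections. -/
def tmapApp (u : M →ₗ[A] N) (hu : IsDeg ℳ 𝒩 u) (n : ℤ) (U : (Opens (ProjectiveSpectrum.top 𝒜))ᵒᵖ) :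
    GrTilde.sect 𝒜 ℳ n U →+ GrTilde.sect 𝒜 𝒩 n U where
  toFun f := ⟨fun x => ⟨locMap u x.1 (f.1 x).1, locMap_mem u hu n x.1 (f.1 x).2⟩, fun x => by
    rcases f.2 x with ⟨V, mV, iV, i, j, m, s, nin, c, w⟩
    refine ⟨V, mV, iV, i, j, ⟨u m, hu i m m.2⟩, s, nin, ?_, fun y => ?_⟩
    · rcases c with c | c
      · exact Or.inl c
      · exact Or.inr (show u (m : M) = 0 by rw [c, map_zero])
    · show locMap u y.1 (f.1 (iV y)).1 = _
      exact (congrArg (locMap u y.1) (w y)).trans (locMap_mk u y.1 _ _)⟩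
  map_zero' := Subtype.ext (funext fun x => Subtype.ext (map_zero (locMap u x.1)))
  map_add' f g := Subtype.ext (funext fun x => Subtype.ext (map_add (locMap u x.1) _ _))

variable (𝒜 ℳ 𝒩) in
/-- The morphism attached to a degree-preserving linear map. -/
def tmap (u : M →ₗ[A] N) (hu : IsDeg ℳ 𝒩 u) (n : ℤ) :
    GrTilde.tilde 𝒜 ℳ n ⟶ GrTilde.tilde 𝒜 𝒩 n :=
  ⟨PresheafOfModules.homMk
    { app := fun U => AddCommGrpCat.ofHom (tmapApp 𝒜 ℳ 𝒩 u hu n U)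
      naturality := fun _ _ _ => rfl }
    fun U r f => by
      refine Subtype.ext (funext fun x => Subtype.ext ?_)
      exact (congrArg (locMap u x.1) (GrTilde.coe_smul_val n x.1 (r.1 x) (f.1 x))).trans
        ((LinearMap.map_smul (locMap u x.1) (r.1 x).val (f.1 x).1).trans
          (GrTilde.coe_smul_val n x.1 (r.1 x)
            ⟨locMap u x.1 (f.1 x).1, locMap_mem u hu n x.1 (f.1 x).2⟩).symm)⟩

theorem valAt_tmap (u : M →ₗ[A] N) (hu : IsDeg ℳ 𝒩 u) {n : ℤ} {V : (Proj 𝒜).Opens}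
    (f : Γ(GrTilde.tilde 𝒜 ℳ n, V)) (x : V) :
    valAt ((tmap 𝒜 ℳ 𝒩 u hu n).app V f) x = locMap u x.1 (valAt f x) := rfl

theorem tmap_frac (u : M →ₗ[A] N) (hu : IsDeg ℳ 𝒩 u) {i j : ℕ} (m : ℳ i) (s : 𝒜 j) (n : ℤ)
    (h : (i : ℤ) = j + n) {V : (Proj 𝒜).Opens} (hV : V ≤ Proj.basicOpen 𝒜 s.1) :
    (tmap 𝒜 ℳ 𝒩 u hu n).app V (frac 𝒜 ℳ m s n h hV) = frac 𝒜 𝒩 ⟨u m, hu i m m.2⟩ s n h hV :=
  sect_ext fun x => locMap_mk u x.1 _ _

theorem tmap_hom_ext {n : ℤ} {a b : GrTilde.tilde 𝒜 ℳ n ⟶ GrTilde.tilde 𝒜 𝒩 n}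
    (h : ∀ (V : (Proj 𝒜).Opens) (f : Γ(GrTilde.tilde 𝒜 ℳ n, V)) (x : V),
      valAt (a.app V f) x = valAt (b.app V f) x) : a = b :=
  Scheme.Modules.hom_ext _ _ fun V => AddCommGrpCat.hom_ext (AddMonoidHom.ext fun f => sect_ext (h V f))

theorem tmap_eq_id (u : M →ₗ[A] M) (hu : IsDeg ℳ ℳ u) (n : ℤ) (h : ∀ m, u m = m) :
    tmap 𝒜 ℳ ℳ u hu n = 𝟙 _ := by
  refine tmap_hom_ext fun V f x => ?_
  rw [valAt_tmap]
  change _ = valAt f x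
  generalize valAt f x = q
  induction q using LocalizedModule.induction_on with
  | _ m s => rw [locMap_mk, h]

theorem tmap_comp (u : M →ₗ[A] N) (hu : IsDeg ℳ 𝒩 u) (v : N →ₗ[A] P) (hv : IsDeg 𝒩 𝒬 v)
    (w : M →ₗ[A] P) (hw : IsDeg ℳ 𝒬 w) (n : ℤ) (h : ∀ m, v (u m) = w m) :
    tmap 𝒜 ℳ 𝒩 u hu n ≫ tmap 𝒜 𝒩 𝒬 v hv n = tmap 𝒜 ℳ 𝒬 w hw n := by
  refine tmap_hom_ext fun V f x => ?_
  rw [valAt_tmap]
  show locMap v x.1 (locMap u x.1 (valAt f x)) = _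
  generalize valAt f x = q
  induction q using LocalizedModule.induction_on with
  | _ m s => rw [locMap_mk, locMap_mk, locMap_mk, h]

theorem tmap_comp_eq_zero (u : M →ₗ[A] N) (hu : IsDeg ℳ 𝒩 u) (v : N →ₗ[A] P) (hv : IsDeg 𝒩 𝒬 v)
    (n : ℤ) (h : ∀ m, v (u m) = 0) :
    tmap 𝒜 ℳ 𝒩 u hu n ≫ tmap 𝒜 𝒩 𝒬 v hv n = 0 := by
  refine tmap_hom_ext fun V f x => ?_
  rw [Scheme.Modules.Hom.zero_app]
  show locMap v x.1 (locMap u x.1 (valAt f x)) = 0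
  generalize valAt f x = q
  induction q using LocalizedModule.induction_on with
  | _ m s => rw [locMap_mk, locMap_mk, h, LocalizedModule.zero_mk]

theorem tmap_add_eq_id (p : M →ₗ[A] N) (hp : IsDeg ℳ 𝒩 p) (i : N →ₗ[A] M) (hi : IsDeg 𝒩 ℳ i)
    (q : M →ₗ[A] P) (hq : IsDeg ℳ 𝒬 q) (j : P →ₗ[A] M) (hj : IsDeg 𝒬 ℳ j) (n : ℤ)
    (h : ∀ m, i (p m) + j (q m) = m) :
    tmap 𝒜 ℳ 𝒩 p hp n ≫ tmap 𝒜 𝒩 ℳ i hi n + tmap 𝒜 ℳ 𝒬 q hq n ≫ tmap 𝒜 𝒬 ℳ j hj n = 𝟙 _ := by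
  refine tmap_hom_ext fun V f x => ?_
  rw [Scheme.Modules.Hom.add_app]
  show locMap i x.1 (locMap p x.1 (valAt f x)) + locMap j x.1 (locMap q x.1 (valAt f x)) = valAt f x
  generalize valAt f x = z
  induction z using LocalizedModule.induction_on with
  | _ m s =>
    rw [locMap_mk, locMap_mk, locMap_mk, locMap_mk, LocalizedModule.mk_add_mk]
    refine LocalizedModule.mk_eq.2 ⟨1, ?_⟩
    simp only [one_smul, ← smul_add, h, mul_smul]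

/-- Every germ is the germ of a fraction, or zero. -/
theorem exists_germ_frac {n : ℤ} {x : Proj 𝒜} (z : (GrTilde.tilde 𝒜 ℳ n).presheaf.stalk x) :
    z = 0 ∨ ∃ (i j : ℕ) (m : ℳ i) (s : 𝒜 j) (h : (i : ℤ) = j + n) (hs : x ∈ Proj.basicOpen 𝒜 s.1),
      z = (GrTilde.tilde 𝒜 ℳ n).presheaf.germ _ x hs (frac 𝒜 ℳ m s n h le_rfl) := by
  obtain ⟨U, hx, f, rfl⟩ := TopCat.Presheaf.exists_germ_eq (GrTilde.tilde 𝒜 ℳ n).presheaf z
  obtain ⟨V, hxV, iV, i, j, m, s, nin, c, w⟩ := (f : GrTilde.sect 𝒜 ℳ n (op U)).2 ⟨x, hx⟩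
  rcases c with c | c
  · refine Or.inr ⟨i, j, m, s, c, nin ⟨x, hxV⟩, ?_⟩
    refine TopCat.Presheaf.germ_ext _ (V ⊓ Proj.basicOpen 𝒜 s.1) ⟨hxV, nin ⟨x, hxV⟩⟩
      (homOfLE (inf_le_left.trans iV.le)) (homOfLE inf_le_right) ?_
    exact sect_ext fun y => w ⟨y.1, y.2.1⟩
  · refine Or.inl ?_
    rw [← TopCat.Presheaf.germ_res_apply (GrTilde.tilde 𝒜 ℳ n).presheaf iV x hxV f]
    refine Eq.trans (congrArg _ (sect_ext (g := 0) fun y => ?_)) (map_zero _)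
    refine (w y).trans ?_
    rw [c, LocalizedModule.zero_mk]
    rfl

variable (𝒜 ℳ) in
/-- Homogeneous elements killed outside a homogeneous prime are killed by a homogeneous element. -/
def HasHomAnn : Prop :=
  ∀ (x : ProjectiveSpectrum 𝒜) (i : ℕ) (m : ℳ i) (t : A), t ∉ x.asHomogeneousIdeal → t • m.1 = 0 →
    ∃ (e : ℕ) (c : 𝒜 e), c.1 ∉ x.asHomogeneousIdeal ∧ c.1 • m.1 = 0

theorem mk_eq_zero_of_germ_eq_zero {n : ℤ} {x : Proj 𝒜} {i j : ℕ} {m : ℳ i} {s : 𝒜 j}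
    (h : (i : ℤ) = j + n) (hs : x ∈ Proj.basicOpen 𝒜 s.1)
    (h0 : (GrTilde.tilde 𝒜 ℳ n).presheaf.germ _ x hs (frac 𝒜 ℳ m s n h le_rfl) = 0) :
    (LocalizedModule.mk m.1 ⟨s.1, hs⟩ : GrTilde.LocMod 𝒜 (M := M) x) = 0 := by
  rw [← map_zero ((GrTilde.tilde 𝒜 ℳ n).presheaf.germ _ x hs).hom] at h0
  obtain ⟨W, hxW, i₁, i₂, e⟩ := TopCat.Presheaf.germ_eq _ x hs hs _ _ h0
  exact congrArg (fun g => valAt g ⟨x, hxW⟩) e

/-- Exactness in the degrees of a sequence of graded modules gives exactness of the sheaves. -/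
theorem exact_tmap (u : M →ₗ[A] N) (hu : IsDeg ℳ 𝒩 u) (v : N →ₗ[A] P) (hv : IsDeg 𝒩 𝒬 v) (n : ℤ)
    (hann : HasHomAnn 𝒜 𝒬) (hw : ∀ m, v (u m) = 0)
    (h : ∀ i : ℕ, ∀ z ∈ 𝒩 i, v z = 0 → ∃ y ∈ ℳ i, u y = z) :
    (ShortComplex.mk (tmap 𝒜 ℳ 𝒩 u hu n) (tmap 𝒜 𝒩 𝒬 v hv n)
      (tmap_comp_eq_zero u hu v hv n hw)).Exact := by
  refine HilbObsLib.exact_of_stalk fun x z hz => ?_
  rcases exists_germ_frac z with rfl | ⟨i, j, m, s, hd, hs, rfl⟩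
  · exact ⟨0, map_zero _⟩
  erw [stalkLin_germ, tmap_frac] at hz
  obtain ⟨t, ht, htm⟩ := mk_eq_zero.1 (mk_eq_zero_of_germ_eq_zero hd hs hz)
  obtain ⟨e, c, hc, hcm⟩ := hann x i ⟨v m, hv i m m.2⟩ t ht htm
  obtain ⟨y, hy, huy⟩ := h (e + i) (c.1 • m.1) (SetLike.GradedSMul.smul_mem c.2 m.2)
    (by rw [map_smul]; exact hcm)
  let r : 𝒜 (e + j) := ⟨c.1 * s.1, SetLike.mul_mem_graded c.2 s.2⟩
  have hr : x ∈ Proj.basicOpen 𝒜 r.1 := fun hh => (x.isPrime.mem_or_mem hh).elim hc hs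
  have hrd : ((e + i : ℕ) : ℤ) = (e + j : ℕ) + n := by push_cast; omega
  refine ⟨(GrTilde.tilde 𝒜 ℳ n).presheaf.germ _ x hr (frac 𝒜 ℳ ⟨y, hy⟩ r n hrd le_rfl), ?_⟩
  erw [stalkLin_germ, tmap_frac]
  refine TopCat.Presheaf.germ_ext _ (Proj.basicOpen 𝒜 r.1) hr (𝟙 _)
    (homOfLE (Proj.basicOpen_mono 𝒜 _ _ (Dvd.intro_left c.1 rfl))) ?_
  refine sect_ext fun w => ?_
  show LocalizedModule.mk (u y) _ = LocalizedModule.mk m.1 _
  refine LocalizedModule.mk_eq.2 ⟨1, ?_⟩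
  rw [one_smul, one_smul, huy]
  show s.1 • c.1 • m.1 = (c.1 * s.1) • m.1
  rw [smul_smul, mul_comm]

/-- Surjectivity in every degree gives an epimorphism of sheaves. -/
theorem epi_tmap (u : M →ₗ[A] N) (hu : IsDeg ℳ 𝒩 u) (n : ℤ)
    (h : ∀ i : ℕ, ∀ z ∈ 𝒩 i, ∃ y ∈ ℳ i, u y = z) : Epi (tmap 𝒜 ℳ 𝒩 u hu n) := by
  refine (epi_iff_stalk _).2 fun x z => ?_
  rcases exists_germ_frac z with rfl | ⟨i, j, m, s, hd, hs, rfl⟩
  · exact ⟨0, map_zero _⟩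
  obtain ⟨y, hy, huy⟩ := h i m.1 m.2
  refine ⟨(GrTilde.tilde 𝒜 ℳ n).presheaf.germ _ x hs (frac 𝒜 ℳ ⟨y, hy⟩ s n hd le_rfl), ?_⟩
  erw [stalkLin_germ, tmap_frac]
  refine congrArg _ (sect_ext fun w => ?_)
  show LocalizedModule.mk (u y) _ = LocalizedModule.mk m.1 _
  rw [huy]

omit [Module R M] [SetLike.GradedSMul 𝒜 ℳ] in
theorem isZero_tilde_of_subsingleton [Module R M] {ℳ : ℕ → Submodule R M} [SetLike.GradedSMul 𝒜 ℳ]
    [Subsingleton M] (n : ℤ) : IsZero (GrTilde.tilde 𝒜 ℳ n) := by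
  refine (IsZero.iff_id_eq_zero _).2 (tmap_hom_ext fun V f x => ?_)
  rw [Scheme.Modules.Hom.zero_app]
  show valAt f x = 0
  generalize valAt f x = z
  induction z using LocalizedModule.induction_on with
  | _ m s => rw [Subsingleton.elim m 0, LocalizedModule.zero_mk]

section Regrade

variable {ℳ' : ℕ → Submodule R M} [SetLike.GradedSMul 𝒜 ℳ']

variable (ℳ ℳ') in
/-- Homogeneous numerators for `ℳ` in degree `n` are numerators for `ℳ'` in degree `n'`. -/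
def Regrades (n n' : ℤ) : Prop :=
  ∀ (i j : ℕ), ∀ m ∈ ℳ i, (i : ℤ) = j + n → m ≠ 0 → ∃ i' : ℕ, (i' : ℤ) = j + n' ∧ m ∈ ℳ' i'

omit [SetLike.GradedSMul 𝒜 ℳ] [SetLike.GradedSMul 𝒜 ℳ'] in
theorem Regrades.mem {n n' : ℤ} (h : Regrades ℳ ℳ' n n') {x : ProjectiveSpectrum 𝒜}
    {q : GrTilde.LocMod 𝒜 (M := M) x} (hq : q ∈ GrTilde.tildeAt 𝒜 ℳ n x) :
    q ∈ GrTilde.tildeAt 𝒜 ℳ' n' x := by
  induction hq using Submodule.span_induction with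
  | mem q hq =>
    obtain ⟨i, j, m, s, hs, he, rfl⟩ := hq
    by_cases hm : m.1 = 0
    · rw [hm, LocalizedModule.zero_mk]
      exact zero_mem _
    obtain ⟨i', he', hm'⟩ := h i j m.1 m.2 he hm
    exact Submodule.subset_span ⟨i', j, ⟨m.1, hm'⟩, s, hs, he', rfl⟩
  | zero => exact zero_mem _
  | add a b _ _ ha hb => exact add_mem ha hb
  | smul d a _ ha => exact Submodule.smul_mem _ d ha

/-- Regrading on sections. -/
def regradeApp {n n' : ℤ} (h : Regrades ℳ ℳ' n n') (U : (Opens (ProjectiveSpectrum.top 𝒜))ᵒᵖ) :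
    GrTilde.sect 𝒜 ℳ n U →+ GrTilde.sect 𝒜 ℳ' n' U where
  toFun f := ⟨fun x => ⟨(f.1 x).1, h.mem (f.1 x).2⟩, fun x => by
    rcases f.2 x with ⟨V, mV, iV, i, j, m, s, nin, c, w⟩
    by_cases hm : m.1 = 0
    · exact ⟨V, mV, iV, 0, j, 0, s, nin, Or.inr rfl, fun y => (w y).trans (by rw [hm]; rfl)⟩
    obtain ⟨i', he', hm'⟩ := h i j m.1 m.2 (c.resolve_right hm) hm
    exact ⟨V, mV, iV, i', j, ⟨m.1, hm'⟩, s, nin, Or.inl he', w⟩⟩
  map_zero' := rfl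
  map_add' _ _ := rfl

/-- Regrading as a morphism of sheaves. -/
def regradeHom {n n' : ℤ} (h : Regrades ℳ ℳ' n n') : GrTilde.tilde 𝒜 ℳ n ⟶ GrTilde.tilde 𝒜 ℳ' n' :=
  ⟨PresheafOfModules.homMk
    { app := fun U => AddCommGrpCat.ofHom (regradeApp h U)
      naturality := fun _ _ _ => rfl }
    fun U a f => by
      refine Subtype.ext (funext fun x => Subtype.ext ?_)
      exact (GrTilde.coe_smul_val n x.1 (a.1 x) (f.1 x)).trans
        (GrTilde.coe_smul_val n' x.1 (a.1 x) ⟨(f.1 x).1, h.mem (f.1 x).2⟩).symm⟩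

theorem regradeHom_comp {n n' : ℤ} (h : Regrades ℳ ℳ' n n') (h' : Regrades ℳ' ℳ n' n) :
    regradeHom (𝒜 := 𝒜) h ≫ regradeHom h' = 𝟙 _ :=
  Scheme.Modules.hom_ext _ _ fun _ => AddCommGrpCat.hom_ext (AddMonoidHom.ext fun _ => sect_ext fun _ => rfl)

/-- Two gradings with the same homogeneous numerators give the same sheaf. -/
def regradeIso {n n' : ℤ} (h : Regrades ℳ ℳ' n n') (h' : Regrades ℳ' ℳ n' n) :
    GrTilde.tilde 𝒜 ℳ n ≅ GrTilde.tilde 𝒜 ℳ' n' where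
  hom := regradeHom h
  inv := regradeHom h'
  hom_inv_id := regradeHom_comp h h'
  inv_hom_id := regradeHom_comp h' h

end Regrade

end Groth.Agent.GrTildeLib
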