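import Groth.Agent.GrTildeLib.Stalk
import Groth.Agent.ProjTwistLib.Mul

/-! The shifted module sheaf is the twist of the module sheaf. -/

set_option autoImplicit false
set_option linter.style.haveILetI false
set_option backward.isDefEq.respectTransparency false

universe u

open CategoryTheory TopologicalSpace AlgebraicGeometry Opposite
open Groth.Agent.PullbackMod Groth.Agent.DCohLib Groth.Agent.ParaFLib Groth.Agent.AmpleLib

noncomputable section

namespace Groth.Agent.GrTildeLib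

variable {R A : Type u} [CommRing R] [CommRing A] [Algebra R A] {𝒜 : ℕ → Submodule R A} [GradedAlgebra 𝒜]
variable {M : Type u} [AddCommGroup M] [Module R M] [Module A M]
  {ℳ : ℕ → Submodule R M} [DirectSum.Decomposition ℳ] [SetLike.GradedSMul 𝒜 ℳ]

omit [DirectSum.Decomposition ℳ] in
lemma smul_mem_tildeAt {x : ProjectiveSpectrum 𝒜} {m n k : ℤ} (h : m + n = k) {p : Twist.Loc 𝒜 x}
    {q : GrTilde.LocMod 𝒜 (M := M) x} (hp : p ∈ Twist.twistAt 𝒜 m x) (hq : q ∈ GrTilde.tildeAt 𝒜 ℳ n x) :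
    p • q ∈ GrTilde.tildeAt 𝒜 ℳ k x := by
  induction hp using Submodule.span_induction with
  | mem p hp =>
    obtain ⟨i, j, a, s, hs, he, rfl⟩ := hp
    obtain ⟨i', j', b, t, ht, hb, rfl⟩ := exists_rep hq
    rw [LocalizedModule.mk_smul_mk]
    rcases hb with hb | hb
    · exact Submodule.subset_span ⟨i + i', j + j', ⟨a.1 • b.1, SetLike.GradedSMul.smul_mem a.2 b.2⟩,
        ⟨s.1 * t.1, SetLike.mul_mem_graded s.2 t.2⟩, fun hm => (x.isPrime.mem_or_mem hm).elim hs ht,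
        by push_cast; omega, rfl⟩
    · rw [hb, smul_zero, LocalizedModule.zero_mk]
      exact zero_mem _
  | zero => rw [zero_smul]; exact zero_mem _
  | add p p' _ _ h₁ h₂ => rw [add_smul]; exact add_mem h₁ h₂
  | smul c p _ h₁ =>
    rw [Algebra.smul_def, mul_smul]
    exact Submodule.smul_mem _ c h₁

/-- A section of a twisting sheaf times a section of a module sheaf. -/
def actS {m n k : ℤ} (h : m + n = k) {V : (Proj 𝒜).Opens} (f : Γ(Twist.twist 𝒜 m, V))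
    (g : Γ(GrTilde.tilde 𝒜 ℳ n, V)) : Γ(GrTilde.tilde 𝒜 ℳ k, V) :=
  (⟨fun x => ⟨((f : Twist.sectN (𝒜 := 𝒜) m (op V)).1 x).1 • valAt g x,
      smul_mem_tildeAt h ((f : Twist.sectN (𝒜 := 𝒜) m (op V)).1 x).2 ((g : GrTilde.sect 𝒜 ℳ n (op V)).1 x).2⟩,
    fun x => by
    obtain ⟨V₁, hV₁, i₁, a₁, b₁, p₁, q₁, n₁, c₁, w₁⟩ := (f : Twist.sectN (𝒜 := 𝒜) m (op V)).2 x
    obtain ⟨V₂, hV₂, i₂, a₂, b₂, p₂, q₂, n₂, c₂, w₂⟩ := (g : GrTilde.sect 𝒜 ℳ n (op V)).2 x
    refine ⟨V₁ ⊓ V₂, ⟨hV₁, hV₂⟩, homOfLE (inf_le_left.trans i₁.le), a₁ + a₂, b₁ + b₂,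
      ⟨p₁.1 • p₂.1, SetLike.GradedSMul.smul_mem p₁.2 p₂.2⟩, ⟨q₁.1 * q₂.1, SetLike.mul_mem_graded q₁.2 q₂.2⟩,
      fun y hm => (y.1.isPrime.mem_or_mem hm).elim (n₁ ⟨y.1, y.2.1⟩) (n₂ ⟨y.1, y.2.2⟩), ?_, fun y => ?_⟩
    · rcases c₁ with c₁ | c₁
      · rcases c₂ with c₂ | c₂
        · exact Or.inl (by push_cast; omega)
        · exact Or.inr (show p₁.1 • p₂.1 = 0 by rw [c₂, smul_zero])
      · exact Or.inr (show p₁.1 • p₂.1 = 0 by rw [c₁, zero_smul])
    · show ((f : Twist.sectN (𝒜 := 𝒜) m (op V)).1 (i₁ ⟨y.1, y.2.1⟩)).1 •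
        ((g : GrTilde.sect 𝒜 ℳ n (op V)).1 (i₂ ⟨y.1, y.2.2⟩)).1 = _
      rw [w₁ ⟨y.1, y.2.1⟩, w₂ ⟨y.1, y.2.2⟩, LocalizedModule.mk_smul_mk]
      rfl⟩ : GrTilde.sect 𝒜 ℳ k (op V))

omit [DirectSum.Decomposition ℳ] in
lemma valAt_actS {m n k : ℤ} (h : m + n = k) {V : (Proj 𝒜).Opens} (f : Γ(Twist.twist 𝒜 m, V))
    (g : Γ(GrTilde.tilde 𝒜 ℳ n, V)) (x : V) :
    valAt (actS h f g) x = ((f : Twist.sectN (𝒜 := 𝒜) m (op V)).1 x).1 • valAt g x := rfl

variable (𝒜 ℳ) in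
/-- The action pairing `O(m) × M(n)~ → M(m + n)~`. -/
def actPairing (m n k : ℤ) (h : m + n = k) :
    ProjTwistLib.Pairing (Twist.twist 𝒜 m) (GrTilde.tilde 𝒜 ℳ n) (GrTilde.tilde 𝒜 ℳ k) where
  f V := AddMonoidHom.mk' (fun f => AddMonoidHom.mk' (fun g => actS h f g)
      fun g g' => sect_ext fun x => by rw [valAt_actS, valAt_add, smul_add]; rfl)
    fun f f' => AddMonoidHom.ext fun g => sect_ext fun x => by
      show valAt (actS h (f + f') g) x = valAt (actS h f g + actS h f' g) x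
      rw [valAt_add, valAt_actS, valAt_actS, valAt_actS]
      exact add_smul _ _ _
  smul_left V r f g := sect_ext fun x => by
    show valAt (actS h (r • f) g) x = valAt (r • actS h f g) x
    rw [valAt_smul, valAt_actS, valAt_actS, smul_smul]
    exact congrArg (· • valAt g x) (Twist.coe_smul_val m x.1 _ _)
  smul_right V r f g := sect_ext fun x => by
    show valAt (actS h f (r • g)) x = valAt (r • actS h f g) x
    rw [valAt_smul, valAt_actS, valAt_actS, valAt_smul, smul_comm]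
  fres _ _ _ := rfl

omit [DirectSum.Decomposition ℳ] in
lemma actS_frac_bijective {i j : ℕ} (a : 𝒜 i) (s : 𝒜 j) {m n k : ℤ} (h : m + n = k) (he : (i : ℤ) = j + m)
    {V : (Proj 𝒜).Opens} (hs : V ≤ Proj.basicOpen 𝒜 s.1) (ha : V ≤ Proj.basicOpen 𝒜 a.1) :
    Function.Bijective (actS (ℳ := ℳ) h (ProjTwistLib.frac 𝒜 a s m he hs)) := by
  have h' : -m + k = n := by omega
  refine Function.bijective_iff_has_inverse.2 ⟨actS h' (ProjTwistLib.frac 𝒜 s a (-m) (by omega) ha), ?_, ?_⟩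
  · intro g
    refine sect_ext fun x => ?_
    rw [valAt_actS, valAt_actS, smul_smul]
    refine (congrArg (· • valAt g x) ?_).trans (one_smul _ _)
    show Localization.mk s.1 _ * Localization.mk a.1 _ = 1
    rw [Localization.mk_mul, ← Localization.mk_one, Localization.mk_eq_mk_iff, Localization.r_iff_exists]
    exact ⟨1, by simp [mul_comm]⟩
  · intro g
    refine sect_ext fun x => ?_
    rw [valAt_actS, valAt_actS, smul_smul]
    refine (congrArg (· • valAt g x) ?_).trans (one_smul _ _)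
    show Localization.mk a.1 _ * Localization.mk s.1 _ = 1
    rw [Localization.mk_mul, ← Localization.mk_one, Localization.mk_eq_mk_iff, Localization.r_iff_exists]
    exact ⟨1, by simp [mul_comm]⟩

omit [DirectSum.Decomposition ℳ] in
theorem bijective_stalk_act {m n k : ℤ} (h : m + n = k) {x : Proj 𝒜} (hm : ProjTwistLib.HasUnit 𝒜 m x) :
    Function.Bijective (stalkLin (actPairing 𝒜 ℳ m n k h).lift x) := by
  obtain ⟨i, j, a, s, he, ha, hs⟩ := hm
  exact ProjTwistLib.Pairing.bijective_stalk_lift _ (W := Proj.basicOpen 𝒜 s.1 ⊓ Proj.basicOpen 𝒜 a.1)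
    (u := ProjTwistLib.frac 𝒜 a s m he inf_le_left) ⟨hs, ha⟩ (ProjTwistLib.gen_frac a s m he _ inf_le_right)
    fun O hO => actS_frac_bijective a s h he (hO.trans inf_le_left) (hO.trans inf_le_right)

theorem hasUnit_of_irrelevant (S : Set A) (hS : ∀ f ∈ S, f ∈ 𝒜 1)
    (h : (HomogeneousIdeal.irrelevant 𝒜).toIdeal ≤ Ideal.span S) (n : ℤ) (x : Proj 𝒜) :
    ProjTwistLib.HasUnit 𝒜 n x := by
  obtain ⟨f, hf, hfx⟩ : ∃ f ∈ S, f ∉ (x : ProjectiveSpectrum 𝒜).asHomogeneousIdeal := by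
    by_contra hne
    push Not at hne
    exact (x : ProjectiveSpectrum 𝒜).not_irrelevant_le fun z hz =>
      (Ideal.span_le.2 hne) (h hz)
  simpa using (ProjTwistLib.hasUnit_of_mem (⟨f, hS f hf⟩ : 𝒜 1) hfx).zmul n

variable (ℳ) in
omit [DirectSum.Decomposition ℳ] in
theorem nonempty_twistBy_iso (n : ℤ) (hu : ∀ x : Proj 𝒜, ProjTwistLib.HasUnit 𝒜 n x) :
    Nonempty (GrTilde.tilde 𝒜 ℳ n ≅ Twist.twistBy 𝒜 (GrTilde.tilde 𝒜 ℳ 0) n) := by
  haveI : IsIso (actPairing 𝒜 ℳ n 0 n (add_zero n)).lift :=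
    (isIso_iff_stalk _).2 fun x => bijective_stalk_act _ (hu x)
  exact ⟨((AmpleLib.comm (GrTilde.tilde 𝒜 ℳ 0) (Twist.twist 𝒜 n)) ≪≫
    asIso (actPairing 𝒜 ℳ n 0 n (add_zero n)).lift).symm⟩

end Groth.Agent.GrTildeLib
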