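import Groth.Agent.GrTildeLib.Ratio
import Groth.Agent.QCohLib.FiniteType
import Mathlib.RingTheory.IntegralClosure.IsIntegralClosure.Basic

/-! `M~` is of finite type when `M` is finite in high degrees. -/

set_option autoImplicit false
set_option linter.style.haveILetI false
set_option backward.isDefEq.respectTransparency false

universe u

open CategoryTheory TopologicalSpace AlgebraicGeometry Opposite DirectSum

noncomputable section

namespace Groth.Agent.GrTildeLib

variable {R A : Type u} [CommRing R] [CommRing A] [Algebra R A] {𝒜 : ℕ → Submodule R A} [GradedAlgebra 𝒜]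
variable {M : Type u} [AddCommGroup M] [Module R M] [Module A M]
  {ℳ : ℕ → Submodule R M} [DirectSum.Decomposition ℳ] [SetLike.GradedSMul 𝒜 ℳ]

theorem exists_homogeneous_gens (hfg : (HomogeneousIdeal.irrelevant 𝒜).toIdeal.FG) :
    ∃ G : Finset A, (∀ g ∈ G, ∃ e, 0 < e ∧ g ∈ 𝒜 e) ∧
      (HomogeneousIdeal.irrelevant 𝒜).toIdeal = Ideal.span (G : Set A) := by
  classical
  obtain ⟨s, hs⟩ := hfg
  let G : Finset A := s.biUnion fun a =>
    ((DirectSum.decompose 𝒜 a).support.erase 0).image fun e => (DirectSum.decompose 𝒜 a e : A)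
  refine ⟨G, fun g hg => ?_, le_antisymm ?_ (Ideal.span_le.2 fun g hg => ?_)⟩
  · obtain ⟨a, _, hg⟩ := Finset.mem_biUnion.1 hg
    obtain ⟨e, he, rfl⟩ := Finset.mem_image.1 hg
    exact ⟨e, Nat.pos_of_ne_zero (Finset.mem_erase.1 he).1, (DirectSum.decompose 𝒜 a e).2⟩
  · rw [← hs]
    refine Ideal.span_le.2 fun a ha => ?_
    rw [SetLike.mem_coe, ← DirectSum.sum_support_decompose 𝒜 a]
    refine Ideal.sum_mem _ fun e he => ?_
    by_cases h : e = 0
    · subst h
      rw [show (DirectSum.decompose 𝒜 a 0 : A) = 0 from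
        (HomogeneousIdeal.mem_irrelevant_iff 𝒜 a).1 (hs ▸ Ideal.subset_span ha :
          a ∈ (HomogeneousIdeal.irrelevant 𝒜).toIdeal)]
      exact zero_mem _
    · exact Ideal.subset_span (Finset.mem_biUnion.2 ⟨a, ha, Finset.mem_image.2 ⟨e, Finset.mem_erase.2 ⟨h, he⟩, rfl⟩⟩)
  · obtain ⟨a, ha, hg⟩ := Finset.mem_biUnion.1 (Finset.mem_coe.1 hg)
    obtain ⟨e, he, rfl⟩ := Finset.mem_image.1 hg
    exact HomogeneousIdeal.mem_irrelevant_of_mem 𝒜 (Nat.pos_of_ne_zero (Finset.mem_erase.1 he).1)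
      (DirectSum.decompose 𝒜 a e).2

/-- The algebra is generated in degree zero and by generators of the irrelevant ideal. -/
theorem adjoin_eq_top (G : Finset A) (hG : ∀ g ∈ G, ∃ e, 0 < e ∧ g ∈ 𝒜 e)
    (hspan : (HomogeneousIdeal.irrelevant 𝒜).toIdeal = Ideal.span (G : Set A)) (B : Subalgebra R A)
    (h0 : ∀ a ∈ 𝒜 0, a ∈ B) (hg : ∀ g ∈ G, g ∈ B) : B = ⊤ := by
  classical
  suffices h : ∀ D, ∀ a ∈ 𝒜 D, a ∈ B by
    refine eq_top_iff.2 fun a _ => ?_
    rw [← DirectSum.sum_support_decompose 𝒜 a]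
    exact Subalgebra.sum_mem _ fun e _ => h e _ (DirectSum.decompose 𝒜 a e).2
  intro D
  induction D using Nat.strong_induction_on with
  | _ D ih =>
    intro a ha
    rcases Nat.eq_zero_or_pos D with rfl | hD
    · exact h0 a ha
    have hmem : a ∈ Ideal.span (G : Set A) := hspan ▸ HomogeneousIdeal.mem_irrelevant_of_mem 𝒜 hD ha
    obtain ⟨c, hc⟩ := Submodule.mem_span_finset'.1 hmem
    rw [← DirectSum.decompose_of_mem_same 𝒜 ha, ← hc]
    let π : A →+ A := AddMonoidHom.mk' (fun z => ((DirectSum.decompose 𝒜 z D : 𝒜 D) : A)) fun y z => by simp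
    show π (∑ g, c g • g.1) ∈ B
    rw [map_sum]
    refine Subalgebra.sum_mem _ fun g _ => ?_
    obtain ⟨e, he, hge⟩ := hG g.1 g.2
    show ((DirectSum.decompose 𝒜 (c g * g.1) D : 𝒜 D) : A) ∈ B
    rw [DirectSum.coe_decompose_mul_of_right_mem 𝒜 D hge]
    split_ifs with hle
    · exact B.mul_mem (ih (D - e) (by omega) _ (DirectSum.decompose 𝒜 (c g) (D - e)).2) (hg g.1 g.2)
    · exact zero_mem _

variable (𝒜 ℳ) in
/-- The component of degree `k * d` divided by `f ^ k`, as a section over `D₊(f)`. -/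
def compFrac {d : ℕ} {f : A} (hf : f ∈ 𝒜 d) (k : ℕ) :
    M →+ Γ(GrTilde.tilde 𝒜 ℳ 0, Proj.basicOpen 𝒜 f) :=
  AddMonoidHom.mk'
    (fun m => frac 𝒜 ℳ (DirectSum.decompose ℳ m (k * d)) (⟨f ^ k, by simpa using SetLike.pow_mem_graded k hf⟩ : 𝒜 (k * d))
      0 (by simp) fun x hx hm => hx (x.isPrime.mem_of_pow_mem k hm))
    fun m m' => sect_ext fun x => by
      rw [valAt_add, valAt_frac, valAt_frac, valAt_frac, DirectSum.decompose_add, DFinsupp.add_apply,
        Submodule.coe_add]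
      exact (LocalizedModule.mk_eq.2 ⟨1, by
        simp only [one_smul, Submonoid.smul_def, smul_add, mul_smul]⟩).trans
        LocalizedModule.mk_add_mk.symm

omit [SetLike.GradedSMul 𝒜 ℳ] in
theorem decompose_smul_coe {e : ℕ} {a : A} (ha : a ∈ 𝒜 e) [SetLike.GradedSMul 𝒜 ℳ] (m : M) (D : ℕ) :
    (DirectSum.decompose ℳ (a • m) D : M) =
      if e ≤ D then a • (DirectSum.decompose ℳ m (D - e) : M) else 0 := by
  classical
  induction m using DirectSum.Decomposition.inductionOn ℳ with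
  | zero => simp
  | @homogeneous i m =>
    have hm : a • m.1 ∈ ℳ (e + i) := SetLike.GradedSMul.smul_mem ha m.2
    by_cases h : e + i = D
    · subst h
      rw [DirectSum.decompose_of_mem_same ℳ hm, if_pos (by omega), Nat.add_sub_cancel_left,
        DirectSum.decompose_of_mem_same ℳ m.2]
    · rw [DirectSum.decompose_of_mem_ne ℳ hm h]
      split_ifs with hle
      · rw [DirectSum.decompose_of_mem_ne ℳ m.2 (show i ≠ D - e by omega), smul_zero]
      · rfl
  | add m m' h h' =>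
    rw [smul_add, DirectSum.decompose_add, DFinsupp.add_apply, Submodule.coe_add, h, h']
    split_ifs with hle
    · rw [DirectSum.decompose_add, DFinsupp.add_apply, Submodule.coe_add, smul_add]
    · simp

variable {d : ℕ} {f : A} (hf : f ∈ 𝒜 d)

/-- `W` contains every `(component)/f^k` of every element. -/
def Good (W : Submodule Γ(Proj 𝒜, Proj.basicOpen 𝒜 f) Γ(GrTilde.tilde 𝒜 ℳ 0, Proj.basicOpen 𝒜 f)) (m : M) : Prop :=
  ∀ k, compFrac 𝒜 ℳ hf k m ∈ W

variable {hf} {W : Submodule Γ(Proj 𝒜, Proj.basicOpen 𝒜 f) Γ(GrTilde.tilde 𝒜 ℳ 0, Proj.basicOpen 𝒜 f)}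

theorem Good.smul_zero_deg {m : M} (h : Good hf W m) {a : A} (ha : a ∈ 𝒜 0) : Good hf W (a • m) := fun k => by
  have e : compFrac 𝒜 ℳ hf k (a • m) = fracO (⟨a, ha⟩ : 𝒜 0) ⟨1, SetLike.GradedOne.one_mem⟩
      (fun x _ => one_notMem x) • compFrac 𝒜 ℳ hf k m := sect_ext fun x => by
    rw [valAt_smul, val_fracO]
    show LocalizedModule.mk (DirectSum.decompose ℳ (a • m) (k * d) : M) _ =
      (Localization.mk a _ : Twist.Loc 𝒜 x.1) • LocalizedModule.mk (DirectSum.decompose ℳ m (k * d) : M) _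
    rw [LocalizedModule.mk_smul_mk, decompose_smul_coe ha, if_pos (Nat.zero_le _), Nat.sub_zero]
    congr 1
    exact Subtype.ext (one_mul _).symm
  rw [e]
  exact W.smul_mem _ (h k)

theorem Good.pow_smul {m : M} (h : Good hf W m) (hd : 0 < d) {e : ℕ} {g : A} (hg : g ∈ 𝒜 e) :
    Good hf W (g ^ d • m) := fun k => by
  have hgd : g ^ d ∈ 𝒜 (e * d) := by simpa [mul_comm] using SetLike.pow_mem_graded d hg
  have e1 : compFrac 𝒜 ℳ hf k (g ^ d • m) = (if e ≤ k then
      fracO (⟨g ^ d, hgd⟩ : 𝒜 (e * d)) ⟨f ^ e, by simpa using SetLike.pow_mem_graded e hf⟩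
        (show Proj.basicOpen 𝒜 f ≤ Proj.basicOpen 𝒜 (f ^ e) from
          fun x hx hm => hx (x.isPrime.mem_of_pow_mem e hm)) • compFrac 𝒜 ℳ hf (k - e) m else 0) := by
    split_ifs with hle
    · refine sect_ext fun x => ?_
      rw [valAt_smul, val_fracO]
      show LocalizedModule.mk (DirectSum.decompose ℳ (g ^ d • m) (k * d) : M) _ =
        (Localization.mk (g ^ d) _ : Twist.Loc 𝒜 x.1) • LocalizedModule.mk (DirectSum.decompose ℳ m ((k - e) * d) : M) _
      rw [LocalizedModule.mk_smul_mk, decompose_smul_coe hgd, if_pos (Nat.mul_le_mul_right d hle), show k * d - e * d = (k - e) * d from (Nat.sub_mul k e d).symm]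
      congr 1
      exact Subtype.ext (show f ^ k = f ^ e * f ^ (k - e) by rw [← pow_add, Nat.add_sub_cancel' hle])
    · refine sect_ext fun x => ?_
      show LocalizedModule.mk (DirectSum.decompose ℳ (g ^ d • m) (k * d) : M) _ = 0
      rw [decompose_smul_coe hgd, if_neg (fun hc => hle (Nat.le_of_mul_le_mul_right hc hd)), LocalizedModule.zero_mk]
  rw [e1]
  split_ifs with hle
  · exact W.smul_mem _ (h (k - e))
  · exact zero_mem _

theorem finite_sections_chart [IsScalarTower R A M] (hd : 0 < d) (hf : f ∈ 𝒜 d) (G : Finset A)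
    (hG : ∀ g ∈ G, ∃ e, 0 < e ∧ g ∈ 𝒜 e)
    (hspan : (HomogeneousIdeal.irrelevant 𝒜).toIdeal = Ideal.span (G : Set A))
    {n : ℕ} (hTF : (Submodule.span A (⋃ k ∈ Set.Ici n, (ℳ k : Set M))).FG) :
    Module.Finite Γ(Proj 𝒜, Proj.basicOpen 𝒜 f) Γ(GrTilde.tilde 𝒜 ℳ 0, Proj.basicOpen 𝒜 f) := by
  classical
  let A' : Subalgebra R A := Algebra.adjoin R ((𝒜 0 : Set A) ∪ (fun g => g ^ d) '' (G : Set A))
  have hfin : (Subalgebra.toSubmodule (Algebra.adjoin A' (G : Set A))).FG := by
    refine fg_adjoin_of_finite G.finite_toSet fun g hg => IsIntegral.of_pow hd ?_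
    exact isIntegral_algebraMap (x := (⟨g ^ d, Algebra.subset_adjoin (Or.inr ⟨g, hg, rfl⟩)⟩ : A'))
  have htop : ∀ a : A, a ∈ Algebra.adjoin A' (G : Set A) := by
    have h : (Algebra.adjoin A' (G : Set A)).restrictScalars R = ⊤ := adjoin_eq_top G hG hspan _
      (fun a ha => (Algebra.adjoin A' (G : Set A)).algebraMap_mem (⟨a, Algebra.subset_adjoin (Or.inl ha)⟩ : A'))
      fun g hg => Algebra.subset_adjoin hg
    exact fun a => (Subalgebra.mem_restrictScalars R).1 (h ▸ Algebra.mem_top : a ∈ _)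
  obtain ⟨T, hT⟩ := hfin
  obtain ⟨P, hP⟩ := hTF
  let H : Finset M := (T ×ˢ P).biUnion fun q =>
    (DirectSum.decompose ℳ (q.1 • q.2)).support.image fun i => (DirectSum.decompose ℳ (q.1 • q.2) i : M)
  -- the finitely many generators
  have hH : ∀ h ∈ H, ∃ i, h ∈ ℳ i := fun h hh => by
    obtain ⟨q, _, hq⟩ := Finset.mem_biUnion.1 hh
    obtain ⟨i, _, rfl⟩ := Finset.mem_image.1 hq
    exact ⟨i, (DirectSum.decompose ℳ _ i).2⟩
  choose! deg hdeg using hH
  let W := Submodule.span Γ(Proj 𝒜, Proj.basicOpen 𝒜 f)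
    ((H.image fun h => compFrac 𝒜 ℳ hf (deg h / d) h : Finset _) : Set Γ(GrTilde.tilde 𝒜 ℳ 0, Proj.basicOpen 𝒜 f))
  have hgood0 : ∀ h ∈ H, Good hf W h := fun h hh k => by
    by_cases hk : k * d = deg h
    · have hk' : deg h / d = k := by rw [← hk, Nat.mul_div_cancel _ hd]
      exact Submodule.subset_span (Finset.mem_coe.2 (Finset.mem_image.2 ⟨h, hh, by rw [hk']⟩))
    · have e : compFrac 𝒜 ℳ hf k h = 0 := sect_ext fun x => by
        show LocalizedModule.mk (DirectSum.decompose ℳ h (k * d) : M) _ = 0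
        rw [DirectSum.decompose_of_mem_ne ℳ (hdeg h hh) (Ne.symm hk), LocalizedModule.zero_mk]
      rw [e]
      exact zero_mem _
  let Q : AddSubgroup M :=
    { carrier := {m | Good hf W m}
      zero_mem' := fun k => by rw [map_zero]; exact zero_mem _
      add_mem' := fun h h' k => by rw [map_add]; exact add_mem (h k) (h' k)
      neg_mem' := fun h k => by rw [map_neg]; exact neg_mem (h k) }
  have hact : ∀ a ∈ A', ∀ m ∈ Q, a • m ∈ Q := by
    intro a ha
    induction ha using Algebra.adjoin_induction with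
    | mem a ha =>
      rcases ha with ha | ⟨g, hg, rfl⟩
      · exact fun m hm => Good.smul_zero_deg hm ha
      · obtain ⟨e, _, hge⟩ := hG g hg
        exact fun m hm => Good.pow_smul hm hd hge
    | algebraMap r => exact fun m hm => Good.smul_zero_deg hm (SetLike.algebraMap_mem_graded 𝒜 r)
    | add a b _ _ ha hb => exact fun m hm => by rw [add_smul]; exact add_mem (ha m hm) (hb m hm)
    | mul a b _ _ ha hb => exact fun m hm => by rw [mul_smul]; exact ha _ (hb m hm)
  have hN : ∀ m ∈ Submodule.span A (P : Set M), m ∈ Q := by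
    have key : ∀ (a : A) (p : M), p ∈ P → a • p ∈ Q := by
      intro a p hp
      have ha : a ∈ Submodule.span A' (T : Set A) := hT ▸ htop a
      induction ha using Submodule.span_induction with
      | mem t ht =>
        rw [← DirectSum.sum_support_decompose ℳ (t • p)]
        refine AddSubgroup.sum_mem _ fun i hi => hgood0 _ ?_
        exact Finset.mem_biUnion.2 ⟨(t, p), Finset.mem_product.2 ⟨ht, hp⟩, Finset.mem_image.2 ⟨i, hi, rfl⟩⟩
      | zero => rw [zero_smul]; exact zero_mem _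
      | add a b _ _ ha hb => rw [add_smul]; exact add_mem ha hb
      | smul c a _ ha =>
        rw [Subalgebra.smul_def, smul_eq_mul, mul_smul]
        exact hact c.1 c.2 _ ha
    intro m hm
    induction hm using Submodule.span_induction with
    | mem p hp => simpa using key 1 p hp
    | zero => exact zero_mem _
    | add a b _ _ ha hb => exact add_mem ha hb
    | smul c a hmem _ =>
      obtain ⟨l, rfl⟩ := Submodule.mem_span_finset'.1 hmem
      rw [Finset.smul_sum]
      refine AddSubgroup.sum_mem _ fun p _ => ?_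
      rw [smul_smul]
      exact key _ _ p.2
  refine ⟨⟨H.image fun h => compFrac 𝒜 ℳ hf (deg h / d) h, eq_top_iff.2 fun s _ => ?_⟩⟩
  obtain ⟨p, i, m, hi, hm⟩ := exists_frac_eq (ℳ := ℳ) (n := 0) hd hf s
  obtain rfl : i = p * d := by exact_mod_cast (by simpa using hi : (i : ℤ) = (p * d : ℕ))
  have hmem : f ^ n • m.1 ∈ ℳ ((n + p) * d) := by
    rw [add_mul]
    exact SetLike.GradedSMul.smul_mem (by simpa using SetLike.pow_mem_graded n hf) m.2
  have hin : f ^ n • m.1 ∈ Submodule.span A (P : Set M) := by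
    rw [hP]
    exact Submodule.subset_span (Set.mem_biUnion (x := (n + p) * d)
      (Set.mem_Ici.2 (le_trans (Nat.le_add_right n p) (Nat.le_mul_of_pos_right _ hd))) hmem)
  have hs : s = compFrac 𝒜 ℳ hf (n + p) (f ^ n • m.1) := sect_ext fun x => by
    rw [hm x]
    show _ = LocalizedModule.mk (DirectSum.decompose ℳ (f ^ n • m.1) ((n + p) * d) : M) _
    rw [DirectSum.decompose_of_mem_same ℳ hmem, LocalizedModule.mk_eq]
    refine ⟨1, ?_⟩
    simp only [one_smul]
    show f ^ (n + p) • m.1 = f ^ p • f ^ n • m.1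
    rw [smul_smul, ← pow_add, add_comm]
  rw [hs]
  exact hN _ hin (n + p)

theorem isFiniteType_tilde [IsScalarTower R A M] (hfg : (HomogeneousIdeal.irrelevant 𝒜).toIdeal.FG)
    (hTF : ∃ n : ℕ, (Submodule.span A (⋃ k ∈ Set.Ici n, (ℳ k : Set M))).FG) :
    CohB1.IsFT (GrTilde.tilde 𝒜 ℳ 0) := by
  obtain ⟨n, hn⟩ := hTF
  obtain ⟨G, hG, hspan⟩ := exists_homogeneous_gens hfg
  choose! e hpos hdeg using hG
  haveI := isQCoh_tilde (𝒜 := 𝒜) (ℳ := ℳ) 0
  refine QCohLib.isFiniteType_of_finite _ (ι := (↥G : Type u)) (fun g => Proj.basicOpen 𝒜 g.1)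
    (fun g => Proj.isAffineOpen_basicOpen 𝒜 _ (hdeg _ g.2) (hpos _ g.2)) ?_ fun g =>
      finite_sections_chart (hpos _ g.2) (hdeg _ g.2) G (fun a ha => ⟨e a, hpos a ha, hdeg a ha⟩) hspan hn
  refine eq_top_iff.2 fun x _ => Opens.mem_iSup.2 ?_
  by_contra hne
  push Not at hne
  refine (x : ProjectiveSpectrum 𝒜).not_irrelevant_le fun z hz => (Ideal.span_le.2 ?_) (hspan.le hz)
  intro g hg
  by_contra hgx
  exact hne ⟨g, hg⟩ hgx

end Groth.Agent.GrTildeLib
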