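import Groth.Agent.GrTildeLib.Map
import Groth.Agent.GrTildeLib.Twist

/-!
# The sheaf of a finite product of graded modules
-/

set_option autoImplicit false
set_option linter.style.haveILetI false
set_option backward.isDefEq.respectTransparency false

universe u

open CategoryTheory CategoryTheory.Limits TopologicalSpace AlgebraicGeometry Opposite
open Groth.Agent.PullbackMod

noncomputable section

namespace Groth.Agent.GrTildeLib

variable {R A : Type u} [CommRing R] [CommRing A] [Algebra R A] {𝒜 : ℕ → Submodule R A} [GradedAlgebra 𝒜]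
variable {M : Type u} [AddCommGroup M] [Module R M] [Module A M]
variable {ι : Type} [Fintype ι] [DecidableEq ι] {ℳ : ι → ℕ → Submodule R M} [∀ b, SetLike.GradedSMul 𝒜 (ℳ b)]

variable (ℳ) in
/-- The grading of a product. -/
def piGr : ℕ → Submodule R (ι → M) := fun i => Submodule.pi Set.univ fun b => ℳ b i

omit [Fintype ι] [DecidableEq ι] [∀ b, SetLike.GradedSMul 𝒜 (ℳ b)] in
theorem mem_piGr {i : ℕ} {v : ι → M} : v ∈ piGr ℳ i ↔ ∀ b, v b ∈ ℳ b i := by
  simp [piGr, Submodule.mem_pi]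

omit [Fintype ι] [DecidableEq ι] in
instance gradedSMul_piGr : SetLike.GradedSMul 𝒜 (piGr ℳ) :=
  ⟨by intro i j a v ha hv; exact mem_piGr.2 fun b => SetLike.GradedSMul.smul_mem ha (mem_piGr.1 hv b)⟩

omit [Fintype ι] [DecidableEq ι] [∀ b, SetLike.GradedSMul 𝒜 (ℳ b)] in
theorem isDeg_proj_piGr (b : ι) : IsDeg (piGr ℳ) (ℳ b) (LinearMap.proj b : (ι → M) →ₗ[A] M) :=
  fun _ _ hv => mem_piGr.1 hv b

omit [Fintype ι] [∀ b, SetLike.GradedSMul 𝒜 (ℳ b)] in
theorem isDeg_single_piGr (b : ι) :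
    IsDeg (ℳ b) (piGr ℳ) (LinearMap.single A (fun _ : ι => M) b) := fun i m hm => mem_piGr.2 fun c => by
  rcases eq_or_ne c b with rfl | h
  · simpa using hm
  · simp [h]

theorem tmap_sum_eq_id {N : Type u} [AddCommGroup N] [Module R N] [Module A N] {𝒩 : ℕ → Submodule R N}
    [SetLike.GradedSMul 𝒜 𝒩] (q : (b : ι) → N →ₗ[A] M) (hq : ∀ b, IsDeg 𝒩 (ℳ b) (q b))
    (j : (b : ι) → M →ₗ[A] N) (hj : ∀ b, IsDeg (ℳ b) 𝒩 (j b)) (n : ℤ) (h : ∀ v, ∑ b, j b (q b v) = v) :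
    ∑ b, tmap 𝒜 𝒩 (ℳ b) (q b) (hq b) n ≫ tmap 𝒜 (ℳ b) 𝒩 (j b) (hj b) n = 𝟙 _ := by
  refine tmap_hom_ext fun V f x => ?_
  let ev : (GrTilde.tilde 𝒜 𝒩 n ⟶ GrTilde.tilde 𝒜 𝒩 n) →+ GrTilde.LocMod 𝒜 (M := N) x.1 :=
    AddMonoidHom.mk' (fun φ => valAt (φ.app V f) x) fun φ ψ => by
      rw [Scheme.Modules.Hom.add_app]; rfl
  show ev (∑ b, _) = valAt f x
  rw [map_sum]
  show ∑ b, locMap (j b) x.1 (locMap (q b) x.1 (valAt f x)) = valAt f x
  generalize valAt f x = z
  induction z using LocalizedModule.induction_on with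
  | _ m s =>
    let mkS : N →+ GrTilde.LocMod 𝒜 (M := N) x.1 :=
      AddMonoidHom.mk' (fun v => LocalizedModule.mk v s) fun a b => by
        rw [LocalizedModule.mk_add_mk]
        exact (LocalizedModule.mk_eq.2 ⟨1, by simp only [one_smul, smul_add, mul_smul]⟩)
    simp only [locMap_mk]
    show ∑ b, mkS (j b (q b m)) = mkS m
    rw [← map_sum, h]

variable (ℳ) in
/-- The sheaf of a product is the biproduct of the sheaves. -/
def tildeBicone (n : ℤ) : Bicone (fun b => GrTilde.tilde 𝒜 (ℳ b) n) where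
  pt := GrTilde.tilde 𝒜 (piGr ℳ) n
  π b := tmap 𝒜 _ _ _ (isDeg_proj_piGr b) n
  ι b := tmap 𝒜 _ _ _ (isDeg_single_piGr b) n
  ι_π b b' := by
    split_ifs with h
    · subst h
      exact (tmap_comp _ _ _ _ LinearMap.id (fun _ _ hm => hm) n fun m => by simp).trans
        (tmap_eq_id _ _ n fun _ => rfl)
    · exact tmap_comp_eq_zero _ _ _ _ n fun m => by simp [Ne.symm h]

variable (ℳ) in
/-- The iso with the coproduct. -/
def tildePiIso (n : ℤ) : GrTilde.tilde 𝒜 (piGr ℳ) n ≅ ∐ fun b => GrTilde.tilde 𝒜 (ℳ b) n :=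
  haveI : HasFiniteBiproducts (Proj 𝒜).Modules := HasFiniteBiproducts.of_hasFiniteProducts
  biproduct.uniqueUpToIso _ (isBilimitOfTotal (tildeBicone ℳ n)
    (tmap_sum_eq_id _ _ _ _ n fun v => LinearMap.sum_single_apply (fun _ : ι => M) v)) ≪≫
    biproduct.isoCoproduct _

end Groth.Agent.GrTildeLib
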