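import Groth.Agent.GrTildeLib.CoindMap
import Groth.Agent.GrTildeLib.FiniteType

/-! The comparison map is an isomorphism. -/

set_option autoImplicit false
set_option linter.style.haveILetI false
set_option backward.isDefEq.respectTransparency false

universe u

open CategoryTheory TopologicalSpace AlgebraicGeometry Opposite DirectSum
open Groth.Agent.PullbackMod Groth.Agent.ParaFLib

noncomputable section

namespace Groth.Agent.GrTildeLib

variable {R A : Type u} [CommRing R] [CommRing A] [Algebra R A] {𝒜 : ℕ → Submodule R A} [GradedAlgebra 𝒜]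
variable {D : ℕ} {ι : Type u} {g : ι → 𝒜 D} {F : (Proj 𝒜).Modules} {S : GSys 𝒜 (Coind g F)}
variable (hD : 0 < D) (hS : Twisted S) (hcov : ∀ x : Proj 𝒜, ∃ i, x ∈ Proj.basicOpen 𝒜 (g i).1)

include hD hS hcov in
theorem RelD.unique {x : Proj 𝒜} {q : GrTilde.LocMod 𝒜 (M := S.M) x} {y y' : F.presheaf.stalk x}
    (h : RelD S q y) (h' : RelD S q y') : y = y' := by
  obtain ⟨i, hi⟩ := hcov x
  obtain ⟨n, z, t, ht, rfl, hy⟩ := h
  obtain ⟨n', z', t', ht', he, hy'⟩ := h'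
  obtain ⟨e, c, hc, hce⟩ := exists_homogeneous_of_mk_eq (𝒜 := 𝒜) (ℳ := S.grade) (m := S.homog z) (m' := S.homog z')
    (s := t) (s' := t') (add_comm n' n) ht ht' he
  rw [smul_sub, sub_eq_zero] at hce
  simp only [GSys.homog, GSys.smul_of] at hce
  have h1 : c.1 • t'.1 • z.1 = c.1 • t.1 • z'.1 := S.val_eq_of_of_eq (by omega) hce
  have key : ∀ (n : ℕ) (z : S.P n) (t : 𝒜 n) (n' : ℕ) (t' : 𝒜 n') (y : F.presheaf.stalk x),
      dGerm g (pD t D) hi • y = zGerm z.1 (t.1 ^ (D - 1)) hi →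
      zGerm (c.1 • t'.1 • z.1) ((c.1 * (t'.1 * t.1)) ^ (D - 1)) hi =
        (dGerm g (pD t D) hi * dGerm g (pD t' D) hi * dGerm g (pD c D) hi) • y := by
    intro n z t n' t' y hy
    have hb : t'.1 * (c.1 * (c.1 * (t'.1 * t.1)) ^ (D - 1)) = t.1 ^ (D - 1) * (pD t' D).1 * (pD c D).1 := by
      rw [pD_coe, pD_coe, mul_pow, mul_pow]
      conv_rhs => rw [← Nat.sub_add_cancel hD, pow_succ, pow_succ, Nat.add_sub_cancel]
      ring
    rw [zGerm, ev_smul, ev_smul, hb]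
    refine (zGerm_mul hS z _ (pD c D) hi).trans ?_
    rw [zGerm_mul hS z _ (pD t' D) hi, ← hy, smul_smul, smul_smul]
    congr 1
    ring
  have h2 := key n z t n' t' y (hy i hi)
  have h3 := key n' z' t' n t y' (hy' i hi)
  rw [← h1, mul_comm t.1 t'.1, h2, mul_comm (dGerm g (pD t' D) hi) (dGerm g (pD t D) hi)] at h3
  exact (((isUnit_dGerm (pD t D) hi fun hm => ht ((x : ProjectiveSpectrum 𝒜).isPrime.mem_of_pow_mem D hm)).mul
    (isUnit_dGerm (pD t' D) hi fun hm => ht' ((x : ProjectiveSpectrum 𝒜).isPrime.mem_of_pow_mem D hm))).mul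
    (isUnit_dGerm (pD c D) hi fun hm => hc ((x : ProjectiveSpectrum 𝒜).isPrime.mem_of_pow_mem D hm))).smul_left_cancel.1 h3

theorem le_pD {n : ℕ} {t : 𝒜 n} {V : (Proj 𝒜).Opens} (hV : V ≤ Proj.basicOpen 𝒜 t.1) :
    V ≤ Proj.basicOpen 𝒜 (pD t D).1 := fun x hx hm => hV hx (x.isPrime.mem_of_pow_mem D hm)

include hD hS in
/-- The value on a fraction given by one formula near `x`. -/
theorem relD_frac {n : ℕ} (z : S.P n) (t : 𝒜 n) (i : ι) {V : (Proj 𝒜).Opens}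
    (hV : V ≤ Proj.basicOpen 𝒜 t.1) (hi : V ≤ Proj.basicOpen 𝒜 (g i).1) {x : Proj 𝒜} (hx : x ∈ V) :
    RelD S (x := x) (LocalizedModule.mk (S.homog z).1 ⟨t.1, hV hx⟩)
      (F.presheaf.germ V x hx (fracO (gpD (g i) n) (pD t D) (le_pD hV) •
        F.presheaf.map (homOfLE hi).op (z.1.ev i (t.1 ^ (D - 1))))) := by
  refine ⟨n, z, t, hV hx, rfl, relD_all_of_one hD hS z t _ (hi hx) ?_⟩
  rw [germ_smul', smul_smul, TopCat.Presheaf.germ_res_apply, dGerm]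
  rw [← TopCat.Presheaf.germ_res_apply (Proj 𝒜).presheaf (homOfLE hi) x hx (dhD (g i) (pD t D) le_rfl), ← map_mul,
    dhD_res, dhD, fracO_mul, fracO_self _ _ _ (mul_comm _ _), map_one, one_smul]

theorem relD_zero (x : Proj 𝒜) : RelD S (x := x) 0 0 :=
  ⟨0, 0, ⟨1, SetLike.GradedOne.one_mem⟩, one_notMem (x : ProjectiveSpectrum 𝒜), by simp [GSys.homog],
    fun i hi => by
      rw [smul_zero]
      exact (map_zero _).symm⟩

include hD hS hcov in
theorem exists_relD {x : Proj 𝒜} {q : GrTilde.LocMod 𝒜 (M := S.M) x} (hq : q ∈ GrTilde.tildeAt 𝒜 S.grade 0 x) :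
    ∃ y, RelD S q y := by
  obtain ⟨i, j, m, s, hs, hm, rfl⟩ := exists_rep hq
  rcases hm with hm | hm
  · obtain rfl : i = j := by omega
    obtain ⟨_, z, rfl⟩ := m
    obtain ⟨k, hk⟩ := hcov x
    exact ⟨_, relD_frac hD hS z s k (V := Proj.basicOpen 𝒜 s.1 ⊓ Proj.basicOpen 𝒜 (g k).1) inf_le_left inf_le_right
      ⟨hs, hk⟩⟩
  · exact ⟨0, by rw [hm, LocalizedModule.zero_mk]; exact relD_zero x⟩

/-- The value of a fraction. -/
def psiD (x : Proj 𝒜) (q : GrTilde.tildeAt 𝒜 S.grade 0 x) : F.presheaf.stalk x :=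
  (exists_relD hD hS hcov q.2).choose

theorem psiD_eq {x : Proj 𝒜} {q : GrTilde.tildeAt 𝒜 S.grade 0 x} {y : F.presheaf.stalk x}
    (h : RelD S q.1 y) : psiD hD hS hcov x q = y :=
  RelD.unique hD hS hcov (exists_relD hD hS hcov q.2).choose_spec h

theorem relD_psi {x : Proj 𝒜} (q : GrTilde.tildeAt 𝒜 S.grade 0 x) : RelD S q.1 (psiD hD hS hcov x q) :=
  (exists_relD hD hS hcov q.2).choose_spec

include hD hS in
theorem relD_fracO_smul {k : ℕ} (r u : 𝒜 k) {V : (Proj 𝒜).Opens} (hV : V ≤ Proj.basicOpen 𝒜 u.1) {x : Proj 𝒜}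
    (hx : x ∈ V) {q : GrTilde.LocMod 𝒜 (M := S.M) x} {y : F.presheaf.stalk x} (h : RelD S q y) :
    RelD S ((Localization.mk r.1 ⟨u.1, hV hx⟩ : Twist.Loc 𝒜 x) • q)
      ((Proj 𝒜).presheaf.germ V x hx (fracO r u hV) • y) := by
  obtain ⟨n, z, t, ht, rfl, hy⟩ := h
  refine ⟨k + n, ⟨r.1 • z.1, S.smul_mem r z.2⟩, ⟨u.1 * t.1, SetLike.mul_mem_graded u.2 t.2⟩,
    fun hm => ((x : ProjectiveSpectrum 𝒜).isPrime.mem_or_mem hm).elim (hV hx) ht, ?_, fun i hi => ?_⟩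
  · rw [LocalizedModule.mk_smul_mk]
    congr 1
    simp only [GSys.homog]
    exact S.smul_of r z
  · have hmem : r.1 * u.1 ^ (D - 1) ∈ 𝒜 (k * D) := by
      have : k + (D - 1) * k = k * D := by
        rw [add_comm, ← Nat.succ_mul, Nat.succ_eq_add_one, Nat.sub_add_cancel hD, mul_comm]
      exact this ▸ SetLike.mul_mem_graded r.2 (by simpa using SetLike.pow_mem_graded (D - 1) u.2)
    have hz : zGerm (r.1 • z.1) ((u.1 * t.1) ^ (D - 1)) hi = dGerm g (⟨_, hmem⟩ : 𝒜 (k * D)) hi • dGerm g (pD t D) hi • y := by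
      rw [zGerm, ev_smul, mul_pow, show r.1 * (u.1 ^ (D - 1) * t.1 ^ (D - 1)) = t.1 ^ (D - 1) * (⟨_, hmem⟩ : 𝒜 (k * D)).1 from
        (mul_assoc _ _ _).symm.trans (mul_comm _ _)]
      exact (zGerm_mul hS z _ _ hi).trans (congrArg _ (hy i hi).symm)
    refine Eq.trans ?_ hz.symm
    rw [smul_smul, smul_smul, ← dGerm_mul (pD u D) (pD t D) (pD (⟨u.1 * t.1, SetLike.mul_mem_graded u.2 t.2⟩ : 𝒜 (k + n)) D)
      rfl (mul_pow _ _ _) hi, mul_right_comm]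
    congr 2
    have hxV : x ∈ V ⊓ Proj.basicOpen 𝒜 (g i).1 := ⟨hx, hi⟩
    rw [dGerm, dGerm, ← TopCat.Presheaf.germ_res_apply (Proj 𝒜).presheaf (homOfLE inf_le_right) x hxV,
      ← TopCat.Presheaf.germ_res_apply (Proj 𝒜).presheaf (homOfLE inf_le_left) x hxV,
      ← TopCat.Presheaf.germ_res_apply (Proj 𝒜).presheaf (homOfLE inf_le_right) x hxV (dhD (g i) ⟨_, hmem⟩ le_rfl),
      ← map_mul, dhD_res, dhD_res, fracO_res, dhD, dhD, fracO_mul]
    refine congrArg _ (fracO_eq _ _ _ _ _ _ ?_)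
    simp only [gpD_coe, pD_coe, ← pow_pred_mul hD u.1]
    ring

theorem exists_unique_sectionD (V : (Proj 𝒜).Opens) (σ : Γ(GrTilde.tilde 𝒜 S.grade 0, V)) :
    ∃! w : Γ(F, V), ∀ (x : Proj 𝒜) (hx : x ∈ V),
      F.presheaf.germ V x hx w = psiD hD hS hcov x ((σ : GrTilde.sect 𝒜 S.grade 0 (op V)).1 ⟨x, hx⟩) := by
  let Fs : TopCat.Sheaf Ab.{u} (Proj 𝒜) := ⟨F.presheaf, F.isSheaf⟩
  have loc : ∀ x : V, ∃ (W : (Proj 𝒜).Opens) (hW : W ≤ V) (w : Γ(F, W)), x.1 ∈ W ∧ ∀ (y : Proj 𝒜) (hy : y ∈ W),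
      F.presheaf.germ W y hy w = psiD hD hS hcov y ((σ : GrTilde.sect 𝒜 S.grade 0 (op V)).1 ⟨y, hW hy⟩) := by
    intro x
    obtain ⟨W, hxW, iW, i, j, m, s, nin, hm, hval⟩ := (σ : GrTilde.sect 𝒜 S.grade 0 (op V)).2 x
    rcases hm with hm | hm
    · obtain rfl : i = j := by omega
      obtain ⟨_, z, rfl⟩ := m
      obtain ⟨k, hk⟩ := hcov x.1
      have hWs : W ⊓ Proj.basicOpen 𝒜 (g k).1 ≤ Proj.basicOpen 𝒜 s.1 := fun w hw => nin ⟨w, hw.1⟩
      refine ⟨W ⊓ Proj.basicOpen 𝒜 (g k).1, inf_le_left.trans iW.le,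
        fracO (gpD (g k) i) (pD s D) (le_pD hWs) • F.presheaf.map (homOfLE inf_le_right).op (z.1.ev k (s.1 ^ (D - 1))),
        ⟨hxW, hk⟩, fun y hy => (psiD_eq hD hS hcov ?_).symm⟩
      rw [show ((σ : GrTilde.sect 𝒜 S.grade 0 (op V)).1 ⟨y, iW.le hy.1⟩).1 = _ from hval ⟨y, hy.1⟩]
      exact relD_frac hD hS z s k hWs inf_le_right hy
    · refine ⟨W, iW.le, 0, hxW, fun y hy => (psiD_eq hD hS hcov ?_).symm⟩
      rw [map_zero, show ((σ : GrTilde.sect 𝒜 S.grade 0 (op V)).1 ⟨y, iW.le hy⟩).1 = _ from hval ⟨y, hy⟩, hm,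
        LocalizedModule.zero_mk]
      exact relD_zero y
  choose W hW w hxW hw using loc
  have hc : TopCat.Presheaf.IsCompatible Fs.presheaf W w := fun a b =>
    TopCat.Presheaf.section_ext Fs _ _ _ fun y hy => by
      show F.presheaf.germ _ y hy (F.presheaf.map _ _) = F.presheaf.germ _ y hy (F.presheaf.map _ _)
      rw [TopCat.Presheaf.germ_res_apply, TopCat.Presheaf.germ_res_apply, hw, hw]
  obtain ⟨v, hv, huniq⟩ := Fs.existsUnique_gluing' W V (fun a => homOfLE (hW a))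
    (fun y hy => Opens.mem_iSup.2 ⟨⟨y, hy⟩, hxW _⟩) w hc
  refine ⟨v, fun x hx => ?_, fun v' hv' => huniq v' fun a => TopCat.Presheaf.section_ext Fs _ _ _ fun y hy => ?_⟩
  · rw [← hw ⟨x, hx⟩ x (hxW _), ← hv ⟨x, hx⟩]
    exact (TopCat.Presheaf.germ_res_apply F.presheaf _ x (hxW _) v).symm
  · show F.presheaf.germ _ y hy (F.presheaf.map _ v') = F.presheaf.germ _ y hy (w a)
    rw [TopCat.Presheaf.germ_res_apply, hw, hv']

/-- The section with prescribed germs. -/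
def toFD (V : (Proj 𝒜).Opens) (σ : Γ(GrTilde.tilde 𝒜 S.grade 0, V)) : Γ(F, V) :=
  (exists_unique_sectionD hD hS hcov V σ).choose

theorem germ_toFD (V : (Proj 𝒜).Opens) (σ : Γ(GrTilde.tilde 𝒜 S.grade 0, V)) {x : Proj 𝒜} (hx : x ∈ V) :
    F.presheaf.germ V x hx (toFD hD hS hcov V σ) =
      psiD hD hS hcov x ((σ : GrTilde.sect 𝒜 S.grade 0 (op V)).1 ⟨x, hx⟩) :=
  (exists_unique_sectionD hD hS hcov V σ).choose_spec.1 x hx

theorem psiD_smul {V : (Proj 𝒜).Opens} (c : Γ(Proj 𝒜, V)) (σ : Γ(GrTilde.tilde 𝒜 S.grade 0, V)) {x : Proj 𝒜}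
    (hx : x ∈ V) : psiD hD hS hcov x (((c • σ : Γ(GrTilde.tilde 𝒜 S.grade 0, V)) : GrTilde.sect 𝒜 S.grade 0 (op V)).1 ⟨x, hx⟩) =
      (Proj 𝒜).presheaf.germ V x hx c • psiD hD hS hcov x ((σ : GrTilde.sect 𝒜 S.grade 0 (op V)).1 ⟨x, hx⟩) := by
  obtain ⟨W, hxW, iW, k, r, u, nin, hc⟩ := (c : Twist.O (𝒜 := 𝒜) (op V)).2 ⟨x, hx⟩
  have e : (Proj 𝒜).presheaf.map (homOfLE iW.le).op c = fracO r u (fun y hy => nin ⟨y, hy⟩) :=
    Subtype.ext (funext fun y => hc y)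
  refine psiD_eq hD hS hcov ?_
  rw [← TopCat.Presheaf.germ_res_apply (Proj 𝒜).presheaf (homOfLE iW.le) x hxW c, e]
  convert relD_fracO_smul hD hS r u (fun y hy => nin ⟨y, hy⟩) hxW (relD_psi hD hS hcov _) using 1
  refine (valAt_smul c σ ⟨x, hx⟩).trans ?_
  congr 1
  show ((c : Twist.O (𝒜 := 𝒜) (op V)).1 ⟨x, hx⟩).val = _
  rw [show (c : Twist.O (𝒜 := 𝒜) (op V)).1 ⟨x, hx⟩ = _ from hc ⟨x, hxW⟩, HomogeneousLocalization.val_mk]

/-- The comparison map `M~ ⟶ F`. -/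
def coindHom : GrTilde.tilde 𝒜 S.grade 0 ⟶ F :=
  ⟨PresheafOfModules.homMk
    { app := fun V => AddCommGrpCat.ofHom (AddMonoidHom.mk' (toFD hD hS hcov V.unop) fun a b =>
        TopCat.Presheaf.section_ext (⟨F.presheaf, F.isSheaf⟩ : TopCat.Sheaf Ab.{u} (Proj 𝒜)) _ _ _ fun x hx => by
          show F.presheaf.germ _ x hx _ = F.presheaf.germ _ x hx (_ + _)
          rw [map_add, germ_toFD, germ_toFD, germ_toFD]
          exact psiD_eq hD hS hcov (RelD.add hD hS (relD_psi hD hS hcov _) (relD_psi hD hS hcov _)))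
      naturality := fun {V W} f => by
        refine AddCommGrpCat.hom_ext (AddMonoidHom.ext fun σ => ?_)
        refine TopCat.Presheaf.section_ext (⟨F.presheaf, F.isSheaf⟩ : TopCat.Sheaf Ab.{u} (Proj 𝒜)) _ _ _ fun x hx => ?_
        show F.presheaf.germ _ x hx (toFD hD hS hcov W.unop _) = F.presheaf.germ _ x hx (F.presheaf.map f _)
        rw [germ_toFD]
        refine Eq.trans ?_ (TopCat.Presheaf.germ_res_apply F.presheaf f.unop x hx (toFD hD hS hcov V.unop σ)).symm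
        exact (germ_toFD hD hS hcov V.unop σ (f.unop.le hx)).symm }
    fun V c σ => TopCat.Presheaf.section_ext (⟨F.presheaf, F.isSheaf⟩ : TopCat.Sheaf Ab.{u} (Proj 𝒜)) _ _ _ fun x hx => by
      show F.presheaf.germ _ x hx (toFD hD hS hcov V.unop (c • σ)) =
        F.presheaf.germ _ x hx ((show Γ(Proj 𝒜, V.unop) from c) • toFD hD hS hcov V.unop σ)
      rw [germ_smul', germ_toFD, germ_toFD]
      exact psiD_smul hD hS hcov (show Γ(Proj 𝒜, V.unop) from c) σ hx⟩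

theorem coindHom_germ {V : (Proj 𝒜).Opens} (σ : Γ(GrTilde.tilde 𝒜 S.grade 0, V)) {x : Proj 𝒜} (hx : x ∈ V) :
    stalkLin (coindHom hD hS hcov) x ((GrTilde.tilde 𝒜 S.grade 0).presheaf.germ V x hx σ) =
      psiD hD hS hcov x ((σ : GrTilde.sect 𝒜 S.grade 0 (op V)).1 ⟨x, hx⟩) := by
  rw [stalkLin_germ]
  exact germ_toFD hD hS hcov V σ hx

theorem psiD_injective [Finite ι] [Coh.IsQCoh F] {x : Proj 𝒜} (q : GrTilde.tildeAt 𝒜 S.grade 0 x)
    (h : psiD hD hS hcov x q = 0) : q = 0 := by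
  classical
  cases nonempty_fintype ι
  obtain ⟨n, z, t, ht, hq, hy⟩ := relD_psi hD hS hcov q
  obtain ⟨i, hi⟩ := hcov x
  have h0 : zGerm z.1 (t.1 ^ (D - 1)) hi = 0 := by rw [← hy i hi, h, smul_zero]
  obtain ⟨W, hxW, i₁, i₂, hres⟩ := TopCat.Presheaf.germ_eq F.presheaf x hi hi _ 0 (h0.trans (map_zero _).symm)
  rw [map_zero, show i₁ = homOfLE (leOfHom i₁) from Subsingleton.elim _ _] at hres
  obtain ⟨_, ⟨a, rfl⟩, hxa, haW⟩ := Opens.isBasis_iff_nbhd.1 (Proj.isBasis_basicOpen 𝒜)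
    (U := W ⊓ Proj.basicOpen 𝒜 (g i).1) (x := x) ⟨hxW, hi⟩
  obtain ⟨k, c₀, hc₀, hca⟩ := exists_homogeneous_notMem (x := x) (a := a) hxa
  let c : 𝒜 (k * D) := pD c₀ D
  have hxc : x ∈ Proj.basicOpen 𝒜 c.1 := fun hm => hc₀ ((x : ProjectiveSpectrum 𝒜).isPrime.mem_of_pow_mem D hm)
  have hcW : Proj.basicOpen 𝒜 c.1 ≤ W ⊓ Proj.basicOpen 𝒜 (g i).1 := fun w hw =>
    haW (hca fun hm => hw (Ideal.pow_mem_of_mem _ hm D hD))
  have hdeg : (D - 1) * n + n = n * D := by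
    rw [← Nat.succ_mul, Nat.succ_eq_add_one, Nat.sub_add_cancel hD, mul_comm]
  have hK : ∀ j, ∃ N : ℕ, dhD (g j) c le_rfl ^ N • z.1.ev j (t.1 ^ (D - 1)) = 0 := by
    intro j
    refine kill_on (Proj.isAffineOpen_basicOpen 𝒜 _ (g j).2 hD) _ _ ?_
    have hle := (Proj 𝒜).basicOpen_le (dhD (g j) c (le_refl (Proj.basicOpen 𝒜 (g j).1)))
    have hWc : (Proj 𝒜).basicOpen (dhD (g j) c (le_refl (Proj.basicOpen 𝒜 (g j).1))) ≤ W ⊓ Proj.basicOpen 𝒜 (g i).1 := by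
      rw [basicOpen_dhD]
      exact inf_le_right.trans hcW
    rw [hS.change z j i (⟨t.1 ^ (D - 1), by simpa using SetLike.pow_mem_graded (D - 1) t.2⟩ : 𝒜 ((D - 1) * n)) hdeg _
      hle (hWc.trans inf_le_right), ← res_res (L := F) (leOfHom i₁) (hWc.trans inf_le_left), hres, map_zero, smul_zero]
  choose N hN using hK
  let N₀ := Finset.univ.sup N
  -- multiplication by `t ^ D * c ^ N₀` kills the element
  have hcN : c.1 ^ N₀ ∈ 𝒜 (N₀ * k * D) := by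
    have := SetLike.pow_mem_graded N₀ c.2
    rwa [smul_eq_mul, ← mul_assoc] at this
  let b : 𝒜 (N₀ * k * D + n * D) := ⟨c.1 ^ N₀ * t.1 ^ D, SetLike.mul_mem_graded hcN (pD t D).2⟩
  have hb : b.1 • z.1 = 0 := coind_ext fun j v => by
    have key : ∀ (e : ℕ) (v : 𝒜 e), z.1.ev j (b.1 * v.1) = 0 := by
      intro e v
      by_cases he : (e + n) / D * D = e + n
      · have hv : t.1 * v.1 ∈ 𝒜 ((e + n) / D * D) := by
          rw [he, add_comm]
          exact SetLike.mul_mem_graded t.2 v.2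
        have e1 : b.1 * v.1 = t.1 ^ (D - 1) * (⟨_, hv⟩ : 𝒜 ((e + n) / D * D)).1 * (⟨_, hcN⟩ : 𝒜 (N₀ * k * D)).1 := by
          show c.1 ^ N₀ * t.1 ^ D * v.1 = _
          rw [← pow_pred_mul hD t.1]
          ring
        rw [e1, hS.mul, hS.mul, smul_comm, ← dhD_pow c N₀ _ rfl rfl,
          ← Nat.sub_add_cancel (show N j ≤ N₀ from Finset.le_sup (Finset.mem_univ j)), pow_add, mul_smul, hN,
          smul_zero, smul_zero]
      · rw [mul_comm b.1 v.1, show b.1 = (⟨_, hcN⟩ : 𝒜 (N₀ * k * D)).1 * (pD t D).1 from rfl, ← mul_assoc,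
          hS.mul, hS.mul, hS.vanish z j v he, smul_zero, smul_zero]
    induction v using DirectSum.Decomposition.inductionOn 𝒜 with
    | zero => rw [ev_map_zero, ev_zero]
    | @homogeneous e v => rw [ev_smul, ev_zero]; exact key e v
    | add v v' h h' =>
      rw [ev_smul, ev_zero] at h h' ⊢
      rw [mul_add]
      exact (map_add ((z.1 : ∀ i, A →+ _) j) _ _).trans
        ((congrArg₂ (· + ·) (show ((z.1 : ∀ i, A →+ _) j) (b.1 * v) = 0 from h) h').trans (add_zero _))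
  refine Subtype.ext (hq.trans (mk_eq_zero.2 ⟨b.1, ?_, ?_⟩))
  · exact fun hm => ((x : ProjectiveSpectrum 𝒜).isPrime.mem_or_mem hm).elim
      (fun h => hxc ((x : ProjectiveSpectrum 𝒜).isPrime.mem_of_pow_mem N₀ h))
      fun h => ht ((x : ProjectiveSpectrum 𝒜).isPrime.mem_of_pow_mem D h)
  · simp only [GSys.homog]
    rw [S.smul_of, ← map_zero (DirectSum.of (fun n => S.P n) (N₀ * k * D + n * D + n))]
    exact congrArg _ (Subtype.ext hb)

end Groth.Agent.GrTildeLib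

namespace Groth.Agent.GrTildeLib

variable {R A : Type u} [CommRing R] [CommRing A] [Algebra R A] {𝒜 : ℕ → Submodule R A} [GradedAlgebra 𝒜]
variable {D : ℕ} {ι : Type u} {g : ι → 𝒜 D} {F : (Proj 𝒜).Modules} {S : GSys 𝒜 (Coind g F)}
variable (hD : 0 < D) (hS : Twisted S) (hcov : ∀ x : Proj 𝒜, ∃ i, x ∈ Proj.basicOpen 𝒜 (g i).1)

theorem injective_coindHom [Finite ι] [Coh.IsQCoh F] (x : Proj 𝒜) :
    Function.Injective (stalkLin (coindHom hD hS hcov) x) := by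
  rw [injective_iff_map_eq_zero]
  intro q hq
  obtain ⟨V, hx, σ, rfl⟩ := TopCat.Presheaf.exists_germ_eq (GrTilde.tilde 𝒜 S.grade 0).presheaf q
  rw [coindHom_germ] at hq
  have h0 := psiD_injective hD hS hcov _ hq
  obtain ⟨W, hxW, iW, i, j, m, s, nin, hm, hval⟩ := (σ : GrTilde.sect 𝒜 S.grade 0 (op V)).2 ⟨x, hx⟩
  have h1 : (LocalizedModule.mk m.1 ⟨s.1, nin ⟨x, hxW⟩⟩ : GrTilde.LocMod 𝒜 (M := S.M) x) = 0 :=
    (hval ⟨x, hxW⟩).symm.trans (congrArg Subtype.val h0)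
  obtain ⟨c, hc, hcm⟩ := mk_eq_zero.1 h1
  have hxO : x ∈ W ⊓ Proj.basicOpen 𝒜 c := ⟨hxW, hc⟩
  have hz : (GrTilde.tilde 𝒜 S.grade 0).presheaf.map (homOfLE (inf_le_left.trans iW.le : W ⊓ Proj.basicOpen 𝒜 c ≤ V)).op σ = 0 :=
    sect_ext fun y => by
      rw [valAt_res, valAt_zero]
      exact (hval ⟨y.1, y.2.1⟩).trans (mk_eq_zero.2 ⟨c, y.2.2, hcm⟩)
  rw [← TopCat.Presheaf.germ_res_apply _ (homOfLE (inf_le_left.trans iW.le : W ⊓ Proj.basicOpen 𝒜 c ≤ V)) x hxO σ,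
    hz, map_zero]

theorem germ_mem_spanD [Finite ι] [Coh.IsQCoh F] (hD : 0 < D) {x : Proj 𝒜} {i : ι} (hi : x ∈ Proj.basicOpen 𝒜 (g i).1)
    (y : F.presheaf.stalk x) :
    ∃ (u : (Proj 𝒜).presheaf.stalk x) (z : Γ(F, Proj.basicOpen 𝒜 (g i).1)), y = u • F.presheaf.germ _ x hi z := by
  obtain ⟨W, hxW, w, rfl⟩ := TopCat.Presheaf.exists_germ_eq F.presheaf y
  obtain ⟨f, hf, hxf⟩ := (Proj.isAffineOpen_basicOpen 𝒜 _ (g i).2 hD).exists_basicOpen_le
    (V := W) ⟨x, hxW⟩ hi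
  obtain ⟨N, z, hz⟩ := extend_on (Proj.isAffineOpen_basicOpen 𝒜 _ (g i).2 hD) f (F.presheaf.map (homOfLE hf).op w)
  have h := congrArg (F.presheaf.germ _ x hxf) hz
  rw [germ_smul', TopCat.Presheaf.germ_res_apply, TopCat.Presheaf.germ_res_apply,
    TopCat.Presheaf.germ_res_apply, map_pow] at h
  obtain ⟨u, hu⟩ := ((Scheme.mem_basicOpen _ f x hi).1 hxf).pow N
  refine ⟨(↑u⁻¹ : (Proj 𝒜).presheaf.stalk x), z, ?_⟩
  rw [h, ← hu, smul_smul, Units.inv_mul, one_smul]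

theorem exists_finite_presentation [Finite ι] [Coh.IsQCoh F] (hFT : CohB1.IsFT F) (hD : 0 < D)
    (hcov : ∀ x : Proj 𝒜, ∃ i, x ∈ Proj.basicOpen 𝒜 (g i).1) :
    ∃ (S : GSys 𝒜 (Coind g F)), Module.Finite A S.M ∧ Nonempty (GrTilde.tilde 𝒜 S.grade 0 ≅ F) := by
  classical
  cases nonempty_fintype ι
  have hfin : ∀ i, Module.Finite Γ(Proj 𝒜, Proj.basicOpen 𝒜 (g i).1) Γ(F, Proj.basicOpen 𝒜 (g i).1) :=
    fun i => QCohLib.finite_sections F hFT (Proj.isAffineOpen_basicOpen 𝒜 _ (g i).2 hD)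
  choose T hT using fun i => (hfin i).fg_top
  let K := Σ i, ↥(T i)
  choose k w hwc hwcompat using fun l : K => exists_compatD hD g l.1 l.2.1
  let deg : K → ℕ := fun l => k l * D
  let S := GSys.gen 𝒜 deg fun l => hat (g := g) (w l)
  have hS : Twisted S := twisted_gen hD k w hwcompat
  refine ⟨S, GSys.finite_gen _ _, ?_⟩
  suffices hsurj : ∀ x : Proj 𝒜, Function.Surjective (stalkLin (coindHom hD hS hcov) x) by
    haveI : IsIso (coindHom hD hS hcov) :=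
      (isIso_iff_stalk _).2 fun x => ⟨injective_coindHom hD hS hcov x, hsurj x⟩
    exact ⟨asIso (coindHom hD hS hcov)⟩
  intro x y
  obtain ⟨i, hi⟩ := hcov x
  obtain ⟨u, z, rfl⟩ := germ_mem_spanD hD hi y
  let Rg := LinearMap.range (stalkLin (coindHom hD hS hcov) x)
  change _ ∈ Rg
  refine Submodule.smul_mem _ _ ?_
  have hz : z ∈ Submodule.span Γ(Proj 𝒜, Proj.basicOpen 𝒜 (g i).1) (T i : Set Γ(F, Proj.basicOpen 𝒜 (g i).1)) :=
    hT i ▸ Submodule.mem_top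
  induction hz using Submodule.span_induction with
  | mem z hz =>
    let l : K := ⟨i, z, hz⟩
    refine ⟨(GrTilde.tilde 𝒜 S.grade 0).presheaf.germ _ x hi
      (frac 𝒜 S.grade (S.homog (⟨hat (g := g) (w l), GSys.mem_gen deg (fun l => hat (g := g) (w l)) l⟩ : S.P (deg l)))
        (gpD (g i) (k l)) 0 (by simp [deg]) (le_gpD le_rfl _)), ?_⟩
    rw [coindHom_germ]
    refine psiD_eq hD hS hcov ?_
    have h1 := relD_frac hD hS (⟨hat (g := g) (w l), GSys.mem_gen deg (fun l => hat (g := g) (w l)) l⟩ : S.P (deg l))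
      (gpD (g i) (k l)) i (le_gpD le_rfl _) (le_refl _) hi
    have e1 : fracO (gpD (g i) (k l * D)) (pD (gpD (g i) (k l)) D) (le_pD (le_gpD (le_refl _) (k l))) = 1 :=
      fracO_self _ _ _ (by rw [gpD_coe, pD_coe, gpD_coe, ← pow_mul])
    have hmem : (gpD (g i) (k l)).1 ^ (D - 1) ∈ 𝒜 (k l * (D - 1) * D) := by
      rw [gpD_coe, ← pow_mul]
      exact (gpD (g i) (k l * (D - 1))).2
    rw [ev_hat, qd_eq hD _ hmem, dhD_self _ (show (gpD (g i) (k l)).1 ^ (D - 1) = (g i).1 ^ (k l * (D - 1)) from (pow_mul _ _ _).symm), one_smul, res_self] at h1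
    dsimp only [deg] at h1
    rw [e1, one_smul, hwc l] at h1
    exact h1
  | zero => rw [map_zero]; exact zero_mem _
  | add a b _ _ ha hb => rw [map_add]; exact add_mem ha hb
  | smul r a _ ha => rw [germ_smul']; exact Submodule.smul_mem _ _ ha

theorem exists_cover_same_degree {G : Finset A} (hG : ∀ a ∈ G, ∃ e, 0 < e ∧ a ∈ 𝒜 e)
    (hspan : (HomogeneousIdeal.irrelevant 𝒜).toIdeal ≤ Ideal.span (G : Set A)) :
    ∃ (D : ℕ) (g : (↥G : Type u) → 𝒜 D), 0 < D ∧ ∀ x : Proj 𝒜, ∃ i, x ∈ Proj.basicOpen 𝒜 (g i).1 := by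
  classical
  choose! e he hmem using hG
  let D := ∏ a ∈ G, e a
  have hdvd : ∀ a ∈ G, e a ∣ D := fun a ha => Finset.dvd_prod_of_mem e ha
  have hD : 0 < D := Finset.prod_pos he
  refine ⟨D, fun a => ⟨a.1 ^ (D / e a.1), ?_⟩, hD, fun x => ?_⟩
  · have := SetLike.pow_mem_graded (D / e a.1) (hmem _ a.2)
    rwa [smul_eq_mul, Nat.div_mul_cancel (hdvd _ a.2)] at this
  · by_contra hne
    push Not at hne
    refine (x : ProjectiveSpectrum 𝒜).not_irrelevant_le fun z hz => (Ideal.span_le.2 ?_) (hspan hz)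
    intro a ha
    by_contra hax
    exact hne ⟨a, ha⟩ fun hm => hax ((x : ProjectiveSpectrum 𝒜).isPrime.mem_of_pow_mem _ hm)

end Groth.Agent.GrTildeLib
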