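import Groth.Prelude.Def_GrMod2
import Mathlib.RingTheory.GradedAlgebra.Radical
import Mathlib.AlgebraicGeometry.ProjectiveSpectrum.Basic

/-!
# Sections of the sheaf of a graded module: fractions

Values, annihilators of homogeneous elements, and vanishing of fractions on a basic open.
-/

set_option autoImplicit false
set_option linter.style.haveILetI false

universe u

open CategoryTheory TopologicalSpace AlgebraicGeometry Opposite

noncomputable section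

namespace Groth.Agent.GrTildeLib

variable {R A : Type u} [CommRing R] [CommRing A] [Algebra R A] {𝒜 : ℕ → Submodule R A} [GradedAlgebra 𝒜]
variable {M : Type u} [AddCommGroup M] [Module R M] [Module A M]
  {ℳ : ℕ → Submodule R M} [DirectSum.Decomposition ℳ] [SetLike.GradedSMul 𝒜 ℳ]

omit [Algebra R A] in
lemma one_notMem {R' : Type*} [CommRing R'] [Algebra R' A] {ℬ : ℕ → Submodule R' A} [GradedAlgebra ℬ]
    (x : ProjectiveSpectrum ℬ) : (1 : A) ∉ x.asHomogeneousIdeal := fun h =>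
  x.isPrime.ne_top ((Ideal.eq_top_iff_one _).mpr h)

/-- Each homogeneous component of an element killing a homogeneous element kills it. -/
theorem decompose_smul_eq_zero {i : ℕ} {m : M} (hm : m ∈ ℳ i) {a : A} (ha : a • m = 0) (j : ℕ) :
    (DirectSum.decompose 𝒜 a j : A) • m = 0 := by
  classical
  have hmem : ∀ k, (DirectSum.decompose 𝒜 a k : A) • m ∈ ℳ (k + i) := fun k =>
    SetLike.GradedSMul.smul_mem (DirectSum.decompose 𝒜 a k).2 hm
  have h0 : ∑ k ∈ (DirectSum.decompose 𝒜 a).support, (DirectSum.decompose 𝒜 a k : A) • m = 0 := by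
    rw [← Finset.sum_smul, DirectSum.sum_support_decompose 𝒜 a, ha]
  by_cases hj : j ∈ (DirectSum.decompose 𝒜 a).support
  · let π : M →+ M := AddMonoidHom.mk' (fun z => ((DirectSum.decompose ℳ z (j + i) : ℳ (j + i)) : M))
      fun y z => by simp
    have h1 := congrArg π h0
    rw [map_sum, map_zero, Finset.sum_eq_single_of_mem (f := fun k => π ((DirectSum.decompose 𝒜 a k : A) • m)) j hj
      fun k _ hk => DirectSum.decompose_of_mem_ne ℳ (hmem k) (show k + i ≠ j + i by omega)] at h1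
    simp only [π, AddMonoidHom.mk'_apply, DirectSum.decompose_of_mem_same ℳ (hmem j)] at h1
    exact h1
  · rw [DFinsupp.notMem_support_iff.1 hj]
    simp

variable (𝒜) in
/-- The annihilator of a homogeneous element, a homogeneous ideal. -/
def annHom {i : ℕ} (m : ℳ i) : HomogeneousIdeal 𝒜 where
  toSubmodule := LinearMap.ker (LinearMap.toSpanSingleton A M m.1)
  is_homogeneous' := fun j a ha => by
    have ha' : a • m.1 = 0 := LinearMap.mem_ker.1 ha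
    exact LinearMap.mem_ker.2 (decompose_smul_eq_zero m.2 ha' j)

lemma mem_annHom {i : ℕ} {m : ℳ i} {a : A} : a ∈ annHom 𝒜 m ↔ a • m.1 = 0 := LinearMap.mem_ker

variable (𝒜) in
/-- If `f` is outside every homogeneous prime containing a homogeneous ideal in `D₊(f)`, it is in the radical. -/
theorem mem_radical_of_forall_basicOpen (I : HomogeneousIdeal 𝒜) {d : ℕ} (hd : 0 < d) {f : A} (hf : f ∈ 𝒜 d)
    (h : ∀ x : ProjectiveSpectrum 𝒜, f ∉ x.asHomogeneousIdeal → ¬ I ≤ x.asHomogeneousIdeal) :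
    f ∈ I.toIdeal.radical := by
  rw [I.isHomogeneous.radical_eq]
  refine Submodule.mem_sInf.2 fun J ⟨hJ, hIJ, hJp⟩ => ?_
  by_contra hfJ
  refine h ⟨⟨J, hJ⟩, hJp, fun hirr => hfJ (hirr ?_)⟩ hfJ hIJ
  exact HomogeneousIdeal.mem_irrelevant_of_mem 𝒜 hd hf

/-- The vanishing of a fraction at every point of `D₊(f)`. -/
theorem exists_pow_smul_eq_zero {d : ℕ} (hd : 0 < d) {f : A} (hf : f ∈ 𝒜 d) {i : ℕ} (m : ℳ i)
    (h : ∀ x : ProjectiveSpectrum 𝒜, f ∉ x.asHomogeneousIdeal →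
      ∃ t : A, t ∉ x.asHomogeneousIdeal ∧ t • m.1 = 0) :
    ∃ N : ℕ, f ^ N • m.1 = 0 := by
  obtain ⟨N, hN⟩ := mem_radical_of_forall_basicOpen 𝒜 (annHom 𝒜 m) hd hf fun x hx hle => by
    obtain ⟨t, ht, htm⟩ := h x hx
    exact ht (hle (mem_annHom.2 htm))
  exact ⟨N, mem_annHom.1 hN⟩

omit [DirectSum.Decomposition ℳ] [SetLike.GradedSMul 𝒜 ℳ] [Module R M] in
lemma mk_eq_zero {x : ProjectiveSpectrum 𝒜} {m : M} {s : x.asHomogeneousIdeal.toIdeal.primeCompl} :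
    (LocalizedModule.mk m s : GrTilde.LocMod 𝒜 (M := M) x) = 0 ↔
      ∃ t : A, t ∉ x.asHomogeneousIdeal ∧ t • m = 0 := by
  rw [← LocalizedModule.zero_mk s, LocalizedModule.mk_eq]
  constructor
  · rintro ⟨t, ht⟩
    simp only [smul_zero] at ht
    exact ⟨t.1 * s.1, fun hm => (x.isPrime.mem_or_mem hm).elim t.2 s.2, by rw [mul_smul]; exact ht⟩
  · rintro ⟨t, ht, htm⟩
    refine ⟨⟨t, ht⟩, ?_⟩
    simp only [smul_zero]
    show t • s.1 • m = 0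
    rw [smul_comm, htm, smul_zero]

theorem exists_pow_smul_eq_zero' {d : ℕ} (hd : 0 < d) {f : A} (hf : f ∈ 𝒜 d) {i : ℕ} (m : ℳ i)
    (s : ∀ x : Proj.basicOpen 𝒜 f, x.1.asHomogeneousIdeal.toIdeal.primeCompl)
    (h : ∀ x : Proj.basicOpen 𝒜 f, (LocalizedModule.mk m.1 (s x) : GrTilde.LocMod 𝒜 (M := M) x.1) = 0) :
    ∃ N : ℕ, f ^ N • m.1 = 0 :=
  exists_pow_smul_eq_zero hd hf m fun x hx => mk_eq_zero.1 (h ⟨x, hx⟩)

/-- Equality of fractions with homogeneous data is witnessed by a homogeneous element. -/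
theorem exists_homogeneous_of_mk_eq {x : ProjectiveSpectrum 𝒜} {i i' j j' : ℕ} {m : ℳ i} {m' : ℳ i'}
    {s : 𝒜 j} {s' : 𝒜 j'} (hij : j' + i = j + i') (hs : s.1 ∉ x.asHomogeneousIdeal)
    (hs' : s'.1 ∉ x.asHomogeneousIdeal)
    (h : (LocalizedModule.mk m.1 ⟨s.1, hs⟩ : GrTilde.LocMod 𝒜 (M := M) x) = LocalizedModule.mk m'.1 ⟨s'.1, hs'⟩) :
    ∃ (e : ℕ) (t : 𝒜 e), t.1 ∉ x.asHomogeneousIdeal ∧ t.1 • (s'.1 • m.1 - s.1 • m'.1) = 0 := by
  obtain ⟨⟨t, ht⟩, htm⟩ := LocalizedModule.mk_eq.1 h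
  obtain ⟨e, he⟩ : ∃ e, (DirectSum.decompose 𝒜 t e : A) ∉ x.asHomogeneousIdeal := by
    by_contra hne
    push Not at hne
    classical
    refine ht ?_
    show t ∈ x.asHomogeneousIdeal.toIdeal
    rw [← DirectSum.sum_support_decompose 𝒜 t]
    exact Ideal.sum_mem _ fun k _ => hne k
  have hmem : s'.1 • m.1 - s.1 • m'.1 ∈ ℳ (j' + i) :=
    sub_mem (SetLike.GradedSMul.smul_mem s'.2 m.2) (by rw [hij]; exact SetLike.GradedSMul.smul_mem s.2 m'.2)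
  refine ⟨e, _, he, decompose_smul_eq_zero hmem ?_ e⟩
  rw [smul_sub, sub_eq_zero]
  exact htm

/-- The value of a section at a point. -/
abbrev valAt {n : ℤ} {V : (Proj 𝒜).Opens} (f : Γ(GrTilde.tilde 𝒜 ℳ n, V)) (x : V) :
    GrTilde.LocMod 𝒜 (M := M) x.1 :=
  ((f : GrTilde.sect 𝒜 ℳ n (op V)).1 x).1

omit [DirectSum.Decomposition ℳ] in
lemma sect_ext {n : ℤ} {V : (Proj 𝒜).Opens} {f g : Γ(GrTilde.tilde 𝒜 ℳ n, V)}
    (h : ∀ x : V, valAt f x = valAt g x) : f = g :=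
  Subtype.ext (funext fun x => Subtype.ext (h x))

omit [DirectSum.Decomposition ℳ] in
lemma valAt_res {n : ℤ} {V W : (Proj 𝒜).Opens} (hW : W ≤ V) (f : Γ(GrTilde.tilde 𝒜 ℳ n, V)) (x : W) :
    valAt ((GrTilde.tilde 𝒜 ℳ n).presheaf.map (homOfLE hW).op f) x = valAt f ⟨x.1, hW x.2⟩ := rfl

omit [DirectSum.Decomposition ℳ] in
lemma valAt_smul {n : ℤ} {V : (Proj 𝒜).Opens} (c : Γ(Proj 𝒜, V)) (f : Γ(GrTilde.tilde 𝒜 ℳ n, V)) (x : V) :
    valAt (c • f) x = ((c : Twist.O (𝒜 := 𝒜) (op V)).1 x).val • valAt f x :=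
  GrTilde.coe_smul_val n x.1 _ _

omit [DirectSum.Decomposition ℳ] in
lemma valAt_zero {n : ℤ} {V : (Proj 𝒜).Opens} (x : V) : valAt (0 : Γ(GrTilde.tilde 𝒜 ℳ n, V)) x = 0 := rfl

omit [DirectSum.Decomposition ℳ] in
lemma valAt_add {n : ℤ} {V : (Proj 𝒜).Opens} (f g : Γ(GrTilde.tilde 𝒜 ℳ n, V)) (x : V) :
    valAt (f + g) x = valAt f x + valAt g x := rfl

variable (𝒜 ℳ) in
/-- The fraction `m / s` as a section. -/
def frac {i j : ℕ} (m : ℳ i) (s : 𝒜 j) (n : ℤ) (h : (i : ℤ) = j + n) {V : (Proj 𝒜).Opens}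
    (hV : V ≤ Proj.basicOpen 𝒜 s.1) : Γ(GrTilde.tilde 𝒜 ℳ n, V) :=
  (⟨fun x => ⟨LocalizedModule.mk m.1 ⟨s.1, hV x.2⟩, Submodule.subset_span ⟨i, j, m, s, hV x.2, h, rfl⟩⟩,
    fun x => ⟨V, x.2, 𝟙 _, i, j, m, s, fun y => hV y.2, Or.inl h, fun _ => rfl⟩⟩ :
      GrTilde.sect 𝒜 ℳ n (op V))

omit [DirectSum.Decomposition ℳ] in
lemma valAt_frac {i j : ℕ} (m : ℳ i) (s : 𝒜 j) (n : ℤ) (h : (i : ℤ) = j + n) {V : (Proj 𝒜).Opens}
    (hV : V ≤ Proj.basicOpen 𝒜 s.1) (x : V) :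
    valAt (frac 𝒜 ℳ m s n h hV) x = LocalizedModule.mk m.1 ⟨s.1, hV x.2⟩ := rfl

omit [DirectSum.Decomposition ℳ] in
lemma frac_res {i j : ℕ} (m : ℳ i) (s : 𝒜 j) (n : ℤ) (h : (i : ℤ) = j + n) {V W : (Proj 𝒜).Opens}
    (hV : V ≤ Proj.basicOpen 𝒜 s.1) (hW : W ≤ V) :
    (GrTilde.tilde 𝒜 ℳ n).presheaf.map (homOfLE hW).op (frac 𝒜 ℳ m s n h hV) = frac 𝒜 ℳ m s n h (hW.trans hV) := rfl

omit [DirectSum.Decomposition ℳ] in
/-- Fractions with the same values. -/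
theorem frac_eq_frac {i j i' j' : ℕ} (m : ℳ i) (s : 𝒜 j) (m' : ℳ i') (s' : 𝒜 j') (n : ℤ) (h : (i : ℤ) = j + n)
    (h' : (i' : ℤ) = j' + n) {V : (Proj 𝒜).Opens} (hV : V ≤ Proj.basicOpen 𝒜 s.1)
    (hV' : V ≤ Proj.basicOpen 𝒜 s'.1) (c : A) (hc : ∀ x ∈ V, c ∉ x.asHomogeneousIdeal)
    (e : c • s'.1 • m.1 = c • s.1 • m'.1) : frac 𝒜 ℳ m s n h hV = frac 𝒜 ℳ m' s' n h' hV' :=
  sect_ext fun x => LocalizedModule.mk_eq.2 ⟨⟨c, hc x.1 x.2⟩, e⟩

end Groth.Agent.GrTildeLib
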