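import Groth.Agent.GrTildeLib.Families
import Groth.Agent.QCohLib.Criterion
import Groth.Agent.ParaFLib.Stalk

/-! Sections over a chart extend to compatible families of high degree. -/

set_option autoImplicit false
set_option linter.style.haveILetI false
set_option backward.isDefEq.respectTransparency false

universe u

open CategoryTheory TopologicalSpace AlgebraicGeometry Opposite DirectSum
open Groth.Agent.ParaFLib

noncomputable section

namespace Groth.Agent.GrTildeLib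

variable {R A : Type u} [CommRing R] [CommRing A] [Algebra R A] {𝒜 : ℕ → Submodule R A} [GradedAlgebra 𝒜]
variable {ι : Type u} (g : ι → 𝒜 1) (F : (Proj 𝒜).Modules)

variable {g F}

theorem dh_pow_gp (f h : 𝒜 1) (N : ℕ) {V : (Proj 𝒜).Opens} (hV : V ≤ Proj.basicOpen 𝒜 f.1) :
    dh f (gp h 1) hV ^ N = dh f (gp h N) hV :=
  dh_pow _ N _ (mul_one N).symm (by simp [gp_coe]) hV

theorem gp_mul (h : 𝒜 1) (a b : ℕ) : (gp h (a + b)).1 = (gp h a).1 * (gp h b).1 := pow_add _ _ _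

theorem dh_gp_change (f h k : 𝒜 1) (N : ℕ) {V : (Proj 𝒜).Opens} (hf : V ≤ Proj.basicOpen 𝒜 f.1)
    (hh : V ≤ Proj.basicOpen 𝒜 h.1) : dh f (gp k N) hf = dh f (gp h N) hf * dh h (gp k N) hh :=
  dh_change _ _ _

theorem kill_on [Coh.IsQCoh F] {U : (Proj 𝒜).Opens} (hU : IsAffineOpen U) (c : Γ(Proj 𝒜, U)) (t : Γ(F, U))
    (h : F.presheaf.map (homOfLE ((Proj 𝒜).basicOpen_le c)).op t = 0) : ∃ N : ℕ, c ^ N • t = 0 := by
  obtain ⟨N, hN⟩ := (QCohLib.locAt F hU).kill c t h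
  refine ⟨N, ?_⟩
  rw [CohBase.sc_apply] at hN
  rwa [show (Proj 𝒜).presheaf.map (homOfLE (le_refl U)).op (c ^ N) = c ^ N from
    res_self (M := Coh.structureModule (Proj 𝒜)) le_rfl (c ^ N)] at hN

theorem extend_on [Coh.IsQCoh F] {U : (Proj 𝒜).Opens} (hU : IsAffineOpen U) (c : Γ(Proj 𝒜, U))
    (t : Γ(F, (Proj 𝒜).basicOpen c)) : ∃ (N : ℕ) (w : Γ(F, U)),
      F.presheaf.map (homOfLE ((Proj 𝒜).basicOpen_le c)).op w =
        (Proj 𝒜).presheaf.map (homOfLE ((Proj 𝒜).basicOpen_le c)).op (c ^ N) • t := by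
  obtain ⟨N, w, hw⟩ := (QCohLib.locAt F hU).extend c t
  exact ⟨N, w, by rw [hw, CohBase.sc_apply]⟩

theorem isAffineOpen_chart (f : 𝒜 1) : IsAffineOpen (Proj.basicOpen 𝒜 f.1) :=
  Proj.isAffineOpen_basicOpen 𝒜 _ f.2 one_pos

theorem isAffineOpen_chart_inf (f h : 𝒜 1) :
    IsAffineOpen (Proj.basicOpen 𝒜 f.1 ⊓ Proj.basicOpen 𝒜 h.1) := by
  rw [← Proj.basicOpen_mul]
  exact Proj.isAffineOpen_basicOpen 𝒜 _ (SetLike.mul_mem_graded f.2 h.2) (by norm_num)

theorem exists_compat [Finite ι] [Coh.IsQCoh F] (i : ι) (z : Γ(F, Proj.basicOpen 𝒜 (g i).1)) :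
    ∃ n₀ : ℕ, ∀ n, n₀ ≤ n → ∃ w ∈ compatFam g F n, w i = z := by
  classical
  cases nonempty_fintype ι
  let f : ∀ j, Γ(Proj 𝒜, Proj.basicOpen 𝒜 (g j).1) := fun j => dh (g j) (gp (g i) 1) le_rfl
  have hb : ∀ j, (Proj 𝒜).basicOpen (f j) = Proj.basicOpen 𝒜 (g j).1 ⊓ Proj.basicOpen 𝒜 (g i).1 := fun j => by
    simp only [f, basicOpen_dh, gp_coe, pow_one]
  have hle : ∀ j, (Proj 𝒜).basicOpen (f j) ≤ Proj.basicOpen 𝒜 (g i).1 := fun j => (hb j).le.trans inf_le_right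
  have hext := fun j => extend_on (isAffineOpen_chart (g j)) (f j) (F.presheaf.map (homOfLE (hle j)).op z)
  choose n₁ s hs using hext
  let N := Finset.univ.sup n₁
  obtain ⟨w, hw⟩ : ∃ w : Fams g F, ∀ (j : ι) (O : (Proj 𝒜).Opens) (hj : O ≤ Proj.basicOpen 𝒜 (g j).1)
      (hi : O ≤ Proj.basicOpen 𝒜 (g i).1),
      F.presheaf.map (homOfLE hj).op (w j) = dh (g j) (gp (g i) N) hj • F.presheaf.map (homOfLE hi).op z := by
    refine ⟨fun j => f j ^ (N - n₁ j) • s j, fun j O hj hi => ?_⟩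
    have hO : O ≤ (Proj 𝒜).basicOpen (f j) := (le_inf hj hi).trans (hb j).ge
    have h1 := congrArg (F.presheaf.map (homOfLE hO).op) (hs j)
    rw [res_res, F.map_smul, res_res] at h1
    simp only [f, map_pow, dh_res] at h1 ⊢
    rw [F.map_smul, h1, smul_smul, map_pow, dh_res, dh_pow_gp, dh_pow_gp,
      dh_mul (gp (g i) (N - n₁ j)) (gp (g i) (n₁ j)) (gp (g i) N) (by
        have : n₁ j ≤ N := Finset.le_sup (f := n₁) (Finset.mem_univ j)
        omega) (by
        rw [← gp_mul, Nat.sub_add_cancel (Finset.le_sup (f := n₁) (Finset.mem_univ j))]) hj]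
  -- discrepancies are killed by a power of `g i / g j`
  have hK : ∀ j k, ∃ K : ℕ, dh (g j) (gp (g i) 1) (inf_le_left : Proj.basicOpen 𝒜 (g j).1 ⊓ Proj.basicOpen 𝒜 (g k).1 ≤ _) ^ K •
      (F.presheaf.map (homOfLE inf_le_left).op (w j) - dh (g j) (gp (g k) N) (inf_le_left : Proj.basicOpen 𝒜 (g j).1 ⊓ Proj.basicOpen 𝒜 (g k).1 ≤ _) •
        F.presheaf.map (homOfLE inf_le_right).op (w k)) = 0 := by
    intro j k
    refine kill_on (isAffineOpen_chart_inf (g j) (g k)) _ _ ?_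
    have hB := (Proj 𝒜).basicOpen_le (dh (g j) (gp (g i) 1) (inf_le_left : Proj.basicOpen 𝒜 (g j).1 ⊓ Proj.basicOpen 𝒜 (g k).1 ≤ _))
    have hBi : (Proj 𝒜).basicOpen (dh (g j) (gp (g i) 1) (inf_le_left : Proj.basicOpen 𝒜 (g j).1 ⊓ Proj.basicOpen 𝒜 (g k).1 ≤ _)) ≤
        Proj.basicOpen 𝒜 (g i).1 := by
      rw [basicOpen_dh, gp_coe, pow_one]
      exact inf_le_right
    rw [map_sub, F.map_smul, res_res, res_res, dh_res, hw j _ (hB.trans inf_le_left) hBi, hw k _ (hB.trans inf_le_right) hBi,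
      smul_smul, ← dh_gp_change (g j) (g k) (g i) N (hB.trans inf_le_left) (hB.trans inf_le_right), sub_self]
  choose K hK using hK
  let K₀ := Finset.univ.sup fun q : ι × ι => K q.1 q.2
  refine ⟨N + K₀, fun n hn => ⟨act (gp (g i) (n - N)) w, fun j k V hj hk => ?_, ?_⟩⟩
  · have h2 : K j k ≤ n - N := by
      have : K j k ≤ K₀ := Finset.le_sup (f := fun q : ι × ι => K q.1 q.2) (Finset.mem_univ (j, k))
      omega
    have h1 : dh (g j) (gp (g i) (n - N)) hj • (F.presheaf.map (homOfLE hj).op (w j) -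
        dh (g j) (gp (g k) N) hj • F.presheaf.map (homOfLE hk).op (w k)) = 0 := by
      have h3 := congrArg (F.presheaf.map (homOfLE (le_inf hj hk)).op) (hK j k)
      rw [F.map_smul, map_sub, F.map_smul, res_res, res_res, map_pow, dh_res, dh_res, map_zero] at h3
      rw [← dh_pow_gp, ← Nat.sub_add_cancel h2, pow_add, mul_smul, h3, smul_zero]
    rw [smul_sub, sub_eq_zero] at h1
    rw [act_apply, act_apply, F.map_smul, F.map_smul, dh_res, dh_res, h1, smul_smul, smul_smul]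
    congr 1
    rw [dh_gp_change (g j) (g k) (g i) (n - N) hj hk, mul_right_comm,
      dh_mul (gp (g k) (n - N)) (gp (g k) N) (gp (g k) n) (by omega)
        (by rw [← gp_mul, Nat.sub_add_cancel (show N ≤ n by omega)]) hj]
  · rw [act_apply, dh_self _ (gp_coe _ _), one_smul]
    have h := hw i _ (le_refl _) (le_refl _)
    rwa [res_self, res_self, dh_self _ (gp_coe _ _), one_smul] at h

end Groth.Agent.GrTildeLib
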