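import Groth.Agent.GrTildeLib.Ratio
import Groth.Agent.GrTildeLib.Extend

/-! Dehomogenisation at elements of a fixed positive degree. -/

set_option autoImplicit false
set_option linter.style.haveILetI false
set_option backward.isDefEq.respectTransparency false

universe u

open CategoryTheory TopologicalSpace AlgebraicGeometry Opposite DirectSum
open Groth.Agent.ParaFLib

noncomputable section

namespace Groth.Agent.GrTildeLib

variable {R A : Type u} [CommRing R] [CommRing A] [Algebra R A] {𝒜 : ℕ → Submodule R A} [GradedAlgebra 𝒜]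
variable {D : ℕ} {f h : 𝒜 D}

/-- The power of `f`, in its degree. -/
def gpD (f : 𝒜 D) (m : ℕ) : 𝒜 (m * D) := ⟨f.1 ^ m, by simpa using SetLike.pow_mem_graded m f.2⟩

lemma gpD_coe (f : 𝒜 D) (m : ℕ) : (gpD f m).1 = f.1 ^ m := rfl

theorem le_gpD {V : (Proj 𝒜).Opens} (hV : V ≤ Proj.basicOpen 𝒜 f.1) (m : ℕ) :
    V ≤ Proj.basicOpen 𝒜 (gpD f m).1 :=
  fun x hx hm => hV hx (x.isPrime.mem_of_pow_mem m hm)

/-- `a / f ^ m`. -/
def dhD (f : 𝒜 D) {m : ℕ} (a : 𝒜 (m * D)) {V : (Proj 𝒜).Opens} (hV : V ≤ Proj.basicOpen 𝒜 f.1) : Γ(Proj 𝒜, V) :=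
  fracO a (gpD f m) (le_gpD hV m)

theorem dhD_res {m : ℕ} (a : 𝒜 (m * D)) {V W : (Proj 𝒜).Opens} (hV : V ≤ Proj.basicOpen 𝒜 f.1) (hW : W ≤ V) :
    (Proj 𝒜).presheaf.map (homOfLE hW).op (dhD f a hV) = dhD f a (hW.trans hV) := rfl

theorem dhD_congr {m m' : ℕ} (hm : m = m') (a : 𝒜 (m * D)) (a' : 𝒜 (m' * D)) (ha : a.1 = a'.1)
    {V : (Proj 𝒜).Opens} (hV : V ≤ Proj.basicOpen 𝒜 f.1) : dhD f a hV = dhD f a' hV := by
  subst hm
  rw [Subtype.ext ha]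

theorem dhD_mul {m m' k : ℕ} (a : 𝒜 (m * D)) (a' : 𝒜 (m' * D)) (b : 𝒜 (k * D)) (he : m + m' = k)
    (hb : b.1 = a.1 * a'.1) {V : (Proj 𝒜).Opens} (hV : V ≤ Proj.basicOpen 𝒜 f.1) :
    dhD f a hV * dhD f a' hV = dhD f b hV := by
  rw [dhD, dhD, fracO_mul]
  exact fracO_eq _ _ _ _ _ _ (by simp only [gpD_coe, hb, ← pow_add, he])

theorem dhD_self {m : ℕ} (a : 𝒜 (m * D)) (ha : a.1 = f.1 ^ m) {V : (Proj 𝒜).Opens}
    (hV : V ≤ Proj.basicOpen 𝒜 f.1) : dhD f a hV = 1 := fracO_self _ _ _ ha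

theorem dhD_change {m : ℕ} (a : 𝒜 (m * D)) {V : (Proj 𝒜).Opens} (hV : V ≤ Proj.basicOpen 𝒜 f.1)
    (hV' : V ≤ Proj.basicOpen 𝒜 h.1) : dhD f a hV = dhD f (gpD h m) hV * dhD h a hV' := by
  rw [dhD, dhD, dhD, fracO_mul]
  exact fracO_eq _ _ _ _ _ _ (by simp only [gpD_coe]; ring)

theorem dhD_add {m : ℕ} (a b : 𝒜 (m * D)) {V : (Proj 𝒜).Opens} (hV : V ≤ Proj.basicOpen 𝒜 f.1) :
    dhD f (a + b) hV = dhD f a hV + dhD f b hV := fracO_add _ _ _ _

theorem dhD_pow {m k : ℕ} (a : 𝒜 (m * D)) (N : ℕ) (b : 𝒜 (k * D)) (hk : k = N * m) (hb : b.1 = a.1 ^ N)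
    {V : (Proj 𝒜).Opens} (hV : V ≤ Proj.basicOpen 𝒜 f.1) : dhD f a hV ^ N = dhD f b hV := by
  induction N generalizing k with
  | zero =>
    obtain rfl : k = 0 := by simpa using hk
    rw [pow_zero]
    exact (dhD_self b (by simp [hb]) hV).symm
  | succ N ih =>
    have hmem : a.1 ^ N ∈ 𝒜 (N * m * D) := by
      have := SetLike.pow_mem_graded N a.2
      rwa [smul_eq_mul, ← mul_assoc] at this
    rw [pow_succ, ih (k := N * m) ⟨a.1 ^ N, hmem⟩ rfl rfl]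
    exact dhD_mul _ a b (by rw [hk]; ring) (by simp [hb, pow_succ]) hV

theorem dhD_pow_gp (N : ℕ) {V : (Proj 𝒜).Opens} (hV : V ≤ Proj.basicOpen 𝒜 f.1) :
    dhD f (gpD h 1) hV ^ N = dhD f (gpD h N) hV :=
  dhD_pow _ N _ (mul_one N).symm (by simp [gpD_coe]) hV

theorem basicOpen_dhD {m : ℕ} (a : 𝒜 (m * D)) {V : (Proj 𝒜).Opens} (hV : V ≤ Proj.basicOpen 𝒜 f.1) :
    (Proj 𝒜).basicOpen (dhD f a hV) = V ⊓ Proj.basicOpen 𝒜 a.1 := by
  have e : dhD f a (le_refl (Proj.basicOpen 𝒜 f.1)) =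
      Proj.awayToSection 𝒜 f.1 (HomogeneousLocalization.Away.mk 𝒜 f.2 m a.1 (by simp)) :=
    O_ext fun x => by
      rw [dhD, val_fracO, val_awayToSection]
      rfl
  have h' : (Proj 𝒜).basicOpen (dhD f a (le_refl (Proj.basicOpen 𝒜 f.1))) = Proj.basicOpen 𝒜 (f.1 * a.1) := by
    rw [e, basicOpen_awayToSection]
  rw [← dhD_res a le_rfl hV, Scheme.basicOpen_res, h', Proj.basicOpen_mul, ← inf_assoc, inf_of_le_left hV]

theorem isUnit_germ_dhD {m : ℕ} (a : 𝒜 (m * D)) {V : (Proj 𝒜).Opens} (hV : V ≤ Proj.basicOpen 𝒜 f.1) {x : Proj 𝒜}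
    (hx : x ∈ V) (ha : x ∈ Proj.basicOpen 𝒜 a.1) :
    IsUnit ((Proj 𝒜).presheaf.germ V x hx (dhD f a hV)) :=
  (Scheme.mem_basicOpen _ _ x hx).1 (by rw [basicOpen_dhD]; exact ⟨hx, ha⟩)

/-- `b ↦ b / f ^ *` on the degrees divisible by `D`, zero elsewhere. -/
def qd (f : 𝒜 D) : A →+ Γ(Proj 𝒜, Proj.basicOpen 𝒜 f.1) :=
  (DirectSum.toAddMonoid fun c => AddMonoidHom.mk'
    (fun a : 𝒜 c => if h : c / D * D = c then dhD f (⟨a.1, by rw [h]; exact a.2⟩ : 𝒜 (c / D * D)) le_rfl else 0)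
    fun a b => by
      by_cases h : c / D * D = c
      · simp only [dif_pos h]
        rw [← dhD_add]
        rfl
      · simp only [dif_neg h, add_zero]).comp (DirectSum.decomposeAddEquiv 𝒜).toAddMonoidHom

theorem qd_coe {c : ℕ} (a : 𝒜 c) :
    qd f a.1 = if h : c / D * D = c then dhD f (⟨a.1, by rw [h]; exact a.2⟩ : 𝒜 (c / D * D)) le_rfl else 0 := by
  simp only [qd, AddMonoidHom.comp_apply, AddEquiv.toAddMonoidHom_eq_coe, AddMonoidHom.coe_coe,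
    decomposeAddEquiv_apply, decompose_coe, toAddMonoid_of, AddMonoidHom.mk'_apply]

theorem qd_eq (hD : 0 < D) {m : ℕ} (a : A) (ha : a ∈ 𝒜 (m * D)) :
    qd f a = dhD f (⟨a, ha⟩ : 𝒜 (m * D)) le_rfl := by
  refine (qd_coe (⟨a, ha⟩ : 𝒜 (m * D))).trans ?_
  rw [dif_pos (by rw [Nat.mul_div_cancel _ hD])]
  exact dhD_congr (Nat.mul_div_cancel _ hD) _ _ rfl _

theorem qd_mul (hD : 0 < D) (b : A) {l : ℕ} (c : 𝒜 (l * D)) : qd f (b * c.1) = dhD f c le_rfl * qd f b := by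
  induction b using DirectSum.Decomposition.inductionOn 𝒜 with
  | zero => simp
  | @homogeneous e b =>
    have hm : b.1 * c.1 ∈ 𝒜 (e + l * D) := SetLike.mul_mem_graded b.2 c.2
    rw [show qd f (b.1 * c.1) = _ from qd_coe (⟨_, hm⟩ : 𝒜 (e + l * D)), qd_coe b]
    have hdiv : (e + l * D) / D = e / D + l := Nat.add_mul_div_right _ _ hD
    by_cases h : e / D * D = e
    · rw [dif_pos h, dif_pos (by rw [hdiv, add_mul, h])]
      exact (dhD_mul _ c _ hdiv.symm rfl le_rfl).symm.trans (mul_comm _ _)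
    · rw [dif_neg h, dif_neg (fun h' => h (by rw [hdiv, add_mul] at h'; omega)), mul_zero]
  | add b b' hb hb' => rw [add_mul, map_add, hb, hb', map_add, mul_add]

theorem exists_compatD {ι : Type u} [Finite ι] (hD : 0 < D) (g : ι → 𝒜 D) {F : (Proj 𝒜).Modules} [Coh.IsQCoh F]
    (i : ι) (z : Γ(F, Proj.basicOpen 𝒜 (g i).1)) :
    ∃ (k : ℕ) (w : ∀ j, Γ(F, Proj.basicOpen 𝒜 (g j).1)), w i = z ∧
      ∀ (j l : ι) (V : (Proj 𝒜).Opens) (hj : V ≤ Proj.basicOpen 𝒜 (g j).1) (hl : V ≤ Proj.basicOpen 𝒜 (g l).1),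
        F.presheaf.map (homOfLE hj).op (w j) = dhD (g j) (gpD (g l) k) hj • F.presheaf.map (homOfLE hl).op (w l) := by
  classical
  cases nonempty_fintype ι
  have haff : ∀ j, IsAffineOpen (Proj.basicOpen 𝒜 (g j).1) := fun j => Proj.isAffineOpen_basicOpen 𝒜 _ (g j).2 hD
  let f : ∀ j, Γ(Proj 𝒜, Proj.basicOpen 𝒜 (g j).1) := fun j => dhD (g j) (gpD (g i) 1) le_rfl
  have hb : ∀ j, (Proj 𝒜).basicOpen (f j) = Proj.basicOpen 𝒜 (g j).1 ⊓ Proj.basicOpen 𝒜 (g i).1 := fun j => by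
    simp only [f, basicOpen_dhD, gpD_coe, pow_one]
  have hle : ∀ j, (Proj 𝒜).basicOpen (f j) ≤ Proj.basicOpen 𝒜 (g i).1 := fun j => (hb j).le.trans inf_le_right
  choose n₁ s hs using fun j => extend_on (haff j) (f j) (F.presheaf.map (homOfLE (hle j)).op z)
  let N := Finset.univ.sup n₁
  obtain ⟨w, hw⟩ : ∃ w : ∀ j, Γ(F, Proj.basicOpen 𝒜 (g j).1), ∀ (j : ι) (O : (Proj 𝒜).Opens)
      (hj : O ≤ Proj.basicOpen 𝒜 (g j).1) (hi : O ≤ Proj.basicOpen 𝒜 (g i).1),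
      F.presheaf.map (homOfLE hj).op (w j) = dhD (g j) (gpD (g i) N) hj • F.presheaf.map (homOfLE hi).op z := by
    refine ⟨fun j => f j ^ (N - n₁ j) • s j, fun j O hj hi => ?_⟩
    have hO : O ≤ (Proj 𝒜).basicOpen (f j) := (le_inf hj hi).trans (hb j).ge
    have h1 := congrArg (F.presheaf.map (homOfLE hO).op) (hs j)
    rw [res_res, F.map_smul, res_res] at h1
    simp only [f, map_pow, dhD_res] at h1 ⊢
    have hle' : n₁ j ≤ N := Finset.le_sup (f := n₁) (Finset.mem_univ j)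
    rw [F.map_smul, h1, smul_smul, map_pow, dhD_res, ← pow_add, Nat.sub_add_cancel hle', dhD_pow_gp]
  have hK : ∀ j l, ∃ K : ℕ, dhD (g j) (gpD (g i) 1) (inf_le_left : Proj.basicOpen 𝒜 (g j).1 ⊓ Proj.basicOpen 𝒜 (g l).1 ≤ _) ^ K •
      (F.presheaf.map (homOfLE inf_le_left).op (w j) - dhD (g j) (gpD (g l) N) (inf_le_left : Proj.basicOpen 𝒜 (g j).1 ⊓ Proj.basicOpen 𝒜 (g l).1 ≤ _) •
        F.presheaf.map (homOfLE inf_le_right).op (w l)) = 0 := by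
    intro j l
    refine kill_on ?_ _ _ ?_
    · rw [← Proj.basicOpen_mul]
      exact Proj.isAffineOpen_basicOpen 𝒜 _ (SetLike.mul_mem_graded (g j).2 (g l).2) (by omega)
    have hB := (Proj 𝒜).basicOpen_le (dhD (g j) (gpD (g i) 1) (inf_le_left : Proj.basicOpen 𝒜 (g j).1 ⊓ Proj.basicOpen 𝒜 (g l).1 ≤ _))
    have hBi : (Proj 𝒜).basicOpen (dhD (g j) (gpD (g i) 1) (inf_le_left : Proj.basicOpen 𝒜 (g j).1 ⊓ Proj.basicOpen 𝒜 (g l).1 ≤ _)) ≤
        Proj.basicOpen 𝒜 (g i).1 := by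
      rw [basicOpen_dhD, gpD_coe, pow_one]
      exact inf_le_right
    rw [map_sub, F.map_smul, res_res, res_res, dhD_res, hw j _ (hB.trans inf_le_left) hBi,
      hw l _ (hB.trans inf_le_right) hBi, smul_smul,
      ← dhD_change (gpD (g i) N) (hB.trans inf_le_left) (hB.trans inf_le_right), sub_self]
  choose K hK using hK
  let K₀ := Finset.univ.sup fun q : ι × ι => K q.1 q.2
  refine ⟨K₀ + N, fun j => f j ^ K₀ • w j, ?_, fun j l V hj hl => ?_⟩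
  · have h := hw i _ (le_refl _) (le_refl _)
    rw [res_self, res_self, dhD_self _ (gpD_coe _ _), one_smul] at h
    show f i ^ K₀ • w i = z
    rw [h]
    simp only [f]
    rw [dhD_pow_gp, dhD_self _ (gpD_coe _ _), one_smul]
  · have hle : K j l ≤ K₀ := Finset.le_sup (f := fun q : ι × ι => K q.1 q.2) (Finset.mem_univ (j, l))
    have h1 : dhD (g j) (gpD (g i) 1) hj ^ K₀ • (F.presheaf.map (homOfLE hj).op (w j) -
        dhD (g j) (gpD (g l) N) hj • F.presheaf.map (homOfLE hl).op (w l)) = 0 := by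
      have h3 := congrArg (F.presheaf.map (homOfLE (le_inf hj hl)).op) (hK j l)
      rw [F.map_smul, map_sub, F.map_smul, res_res, res_res, map_pow, dhD_res, dhD_res, map_zero] at h3
      rw [← Nat.sub_add_cancel hle, pow_add, mul_smul, h3, smul_zero]
    rw [smul_sub, sub_eq_zero] at h1
    simp only [f]
    rw [F.map_smul, F.map_smul, map_pow, map_pow, dhD_res, dhD_res, h1, smul_smul, smul_smul]
    congr 1
    rw [dhD_pow_gp, dhD_pow_gp, dhD_change (gpD (g i) K₀) hj hl, mul_right_comm,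
      dhD_mul (gpD (g l) K₀) (gpD (g l) N) (gpD (g l) (K₀ + N)) rfl (pow_add _ _ _) hj]

end Groth.Agent.GrTildeLib
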