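import Groth.Agent.GrTildeLib.GammaMap
import Groth.Agent.GrTildeLib.Extend

/-!
# Quasi-coherent modules on `Proj` as sheaves of graded modules
-/

set_option autoImplicit false
set_option linter.style.haveILetI false
set_option backward.isDefEq.respectTransparency false

universe u

open CategoryTheory TopologicalSpace AlgebraicGeometry Opposite DirectSum
open Groth.Agent.PullbackMod Groth.Agent.ParaFLib

noncomputable section

namespace Groth.Agent.GrTildeLib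

variable {R A : Type u} [CommRing R] [CommRing A] [Algebra R A] {𝒜 : ℕ → Submodule R A} [GradedAlgebra 𝒜]
variable {ι : Type u} {g : ι → 𝒜 1} {F : (Proj 𝒜).Modules} (S : Sys g F)

omit [GradedAlgebra 𝒜] in
theorem exists_homogeneous_notMem {R' : Type u} [CommRing R'] [Algebra R' A] {ℬ : ℕ → Submodule R' A} [GradedAlgebra ℬ]
    {x : Proj ℬ} {a : A} (h : a ∉ (x : ProjectiveSpectrum ℬ).asHomogeneousIdeal) :
    ∃ (e : ℕ) (c : ℬ e), x ∈ Proj.basicOpen ℬ c.1 ∧ Proj.basicOpen ℬ c.1 ≤ Proj.basicOpen ℬ a := by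
  classical
  obtain ⟨e, he⟩ : ∃ e, (DirectSum.decompose ℬ a e : A) ∉ (x : ProjectiveSpectrum ℬ).asHomogeneousIdeal := by
    by_contra hne
    push Not at hne
    refine h ?_
    show a ∈ (x : ProjectiveSpectrum ℬ).asHomogeneousIdeal.toIdeal
    rw [← DirectSum.sum_support_decompose ℬ a]
    exact Ideal.sum_mem _ fun k _ => hne k
  exact ⟨e, DirectSum.decompose ℬ a e, he, fun y hy hy0 => hy (y.asHomogeneousIdeal.isHomogeneous e hy0)⟩

/-- A homogeneous basic neighbourhood inside a chart and an open. -/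
theorem exists_chart_nhd {x : Proj 𝒜} {W : (Proj 𝒜).Opens} (hxW : x ∈ W) {i : ι}
    (hi : x ∈ Proj.basicOpen 𝒜 (g i).1) :
    ∃ (k : ℕ) (c : 𝒜 k), x ∈ Proj.basicOpen 𝒜 c.1 ∧ Proj.basicOpen 𝒜 c.1 ≤ W ⊓ Proj.basicOpen 𝒜 (g i).1 := by
  obtain ⟨_, ⟨a, rfl⟩, hxa, haW⟩ := Opens.isBasis_iff_nbhd.1 (Proj.isBasis_basicOpen 𝒜)
    (U := W ⊓ Proj.basicOpen 𝒜 (g i).1) (x := x) ⟨hxW, hi⟩
  obtain ⟨e, c, hc, hca⟩ := exists_homogeneous_notMem (x := x) (a := a) hxa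
  exact ⟨e, c, hc, hca.trans haW⟩

variable (hcov : ∀ x : Proj 𝒜, ∃ i, x ∈ Proj.basicOpen 𝒜 (g i).1)

theorem psi_injective [Finite ι] [Coh.IsQCoh F] {x : Proj 𝒜} (q : GrTilde.tildeAt 𝒜 (grade S) 0 x)
    (h : psi S hcov x q = 0) : q = 0 := by
  classical
  cases nonempty_fintype ι
  obtain ⟨n, z, t, ht, hq, hy⟩ := rel_psi S hcov q
  obtain ⟨i, hi⟩ := hcov x
  have h0 : famGerm z.1 hi = 0 := by rw [← hy i hi, h, smul_zero]
  obtain ⟨W, hxW, i₁, i₂, hres⟩ := TopCat.Presheaf.germ_eq F.presheaf x hi hi (z.1 i) 0 (h0.trans (map_zero _).symm)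
  rw [map_zero, show i₁ = homOfLE (leOfHom i₁) from Subsingleton.elim _ _] at hres
  obtain ⟨k, c, hxc, hcW⟩ := exists_chart_nhd hxW hi
  have hK : ∀ j, ∃ N : ℕ, dh (g j) c le_rfl ^ N • z.1 j = 0 := by
    intro j
    refine kill_on (isAffineOpen_chart (g j)) _ _ ?_
    have hle := (Proj 𝒜).basicOpen_le (dh (g j) c (le_refl (Proj.basicOpen 𝒜 (g j).1)))
    have hWc : (Proj 𝒜).basicOpen (dh (g j) c (le_refl (Proj.basicOpen 𝒜 (g j).1))) ≤ W ⊓ Proj.basicOpen 𝒜 (g i).1 := by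
      rw [basicOpen_dh]
      exact inf_le_right.trans hcW
    rw [S.le n z.2 j i _ hle (hWc.trans inf_le_right),
      ← res_res (L := F) (leOfHom i₁) (hWc.trans inf_le_left), hres, map_zero, smul_zero]
  choose N hN using hK
  let N₀ := Finset.univ.sup N
  let b : 𝒜 (N₀ * k) := ⟨c.1 ^ N₀, by simpa using SetLike.pow_mem_graded N₀ c.2⟩
  have hb : act b z.1 = 0 := funext fun j => by
    rw [act_apply, ← dh_pow c N₀ b rfl rfl, ← Nat.sub_add_cancel (show N j ≤ N₀ from Finset.le_sup (Finset.mem_univ j)),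
      pow_add, mul_smul, hN, smul_zero]
    rfl
  refine Subtype.ext (hq.trans (mk_eq_zero.2 ⟨b.1, ?_, ?_⟩))
  · exact fun hm => hxc ((x : ProjectiveSpectrum 𝒜).isPrime.mem_of_pow_mem N₀ hm)
  · simp only [homog]
    rw [smul_of, ← map_zero (DirectSum.of (fun n => S.P n) (N₀ * k + n))]
    exact congrArg _ (Subtype.ext hb)

theorem psi_zero (x : Proj 𝒜) : psi S hcov x 0 = 0 := psi_eq S hcov (rel_zero S x)

theorem stalkToFiber_value {x : Proj 𝒜} (q : (GrTilde.tilde 𝒜 (grade S) 0).presheaf.stalk x) :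
    ∃ (V : (Proj 𝒜).Opens) (hx : x ∈ V) (σ : Γ(GrTilde.tilde 𝒜 (grade S) 0, V)),
      q = (GrTilde.tilde 𝒜 (grade S) 0).presheaf.germ V x hx σ := by
  obtain ⟨V, hx, σ, rfl⟩ := TopCat.Presheaf.exists_germ_eq (GrTilde.tilde 𝒜 (grade S) 0).presheaf q
  exact ⟨V, hx, σ, rfl⟩

theorem injective_gammaHom [Finite ι] [Coh.IsQCoh F] (x : Proj 𝒜) :
    Function.Injective (stalkLin (gammaHom S hcov) x) := by
  rw [injective_iff_map_eq_zero]
  intro q hq
  obtain ⟨V, hx, σ, rfl⟩ := stalkToFiber_value S q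
  rw [gammaHom_germ] at hq
  have h0 := psi_injective S hcov _ hq
  obtain ⟨W, hxW, iW, i, j, m, s, nin, hm, hval⟩ := (σ : GrTilde.sect 𝒜 (grade S) 0 (op V)).2 ⟨x, hx⟩
  have h1 : (LocalizedModule.mk m.1 ⟨s.1, nin ⟨x, hxW⟩⟩ : GrTilde.LocMod 𝒜 (M := S.M) x) = 0 :=
    (hval ⟨x, hxW⟩).symm.trans (congrArg Subtype.val h0)
  obtain ⟨c, hc, hcm⟩ := mk_eq_zero.1 h1
  have hxO : x ∈ W ⊓ Proj.basicOpen 𝒜 c := ⟨hxW, hc⟩
  have hz : (GrTilde.tilde 𝒜 (grade S) 0).presheaf.map (homOfLE (inf_le_left.trans iW.le : W ⊓ Proj.basicOpen 𝒜 c ≤ V)).op σ = 0 :=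
    sect_ext fun y => by
      rw [valAt_res, valAt_zero]
      exact (hval ⟨y.1, y.2.1⟩).trans (mk_eq_zero.2 ⟨c, y.2.2, hcm⟩)
  rw [← TopCat.Presheaf.germ_res_apply _ (homOfLE (inf_le_left.trans iW.le : W ⊓ Proj.basicOpen 𝒜 c ≤ V)) x hxO σ,
    hz, map_zero]

/-- The germs of the families span every stalk. -/
def Spans : Prop :=
  ∀ (x : Proj 𝒜) (y : F.presheaf.stalk x), y ∈ Submodule.span ((Proj 𝒜).presheaf.stalk x)
    {w | ∃ (i : ι) (hi : x ∈ Proj.basicOpen 𝒜 (g i).1) (n : ℕ) (z : S.P n), w = famGerm z.1 hi}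

theorem surjective_gammaHom (h : Spans S) (x : Proj 𝒜) : Function.Surjective (stalkLin (gammaHom S hcov) x) := by
  intro y
  refine (Submodule.span_le.2 ?_ : _ ≤ LinearMap.range (stalkLin (gammaHom S hcov) x)) (h x y)
  rintro _ ⟨i, hi, n, z, rfl⟩
  refine ⟨(GrTilde.tilde 𝒜 (grade S) 0).presheaf.germ _ x hi
    (frac 𝒜 (grade S) (homog S z) (gp (g i) n) 0 (by simp) (le_gp le_rfl n)), ?_⟩
  rw [gammaHom_germ]
  refine psi_eq S hcov ?_
  have h1 := rel_frac S z (gp (g i) n) i (le_gp le_rfl n) (le_refl _) hi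
  rw [fracO_self _ _ _ rfl, one_smul, res_self] at h1
  exact h1

theorem isIso_gammaHom [Finite ι] [Coh.IsQCoh F] (h : Spans S) : IsIso (gammaHom S hcov) :=
  (isIso_iff_stalk _).2 fun x => ⟨injective_gammaHom S hcov x, surjective_gammaHom S hcov h x⟩

/-- All compatible families. -/
def fullSys (g : ι → 𝒜 1) (F : (Proj 𝒜).Modules) : Sys g F where
  P := compatFam g F
  le _ := le_rfl
  act_mem := act_mem_compatFam

theorem germ_mem_span [Finite ι] [Coh.IsQCoh F] {x : Proj 𝒜} {i : ι} (hi : x ∈ Proj.basicOpen 𝒜 (g i).1)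
    (y : F.presheaf.stalk x) :
    ∃ (u : (Proj 𝒜).presheaf.stalk x) (z : Γ(F, Proj.basicOpen 𝒜 (g i).1)), y = u • F.presheaf.germ _ x hi z := by
  obtain ⟨W, hxW, w, rfl⟩ := TopCat.Presheaf.exists_germ_eq F.presheaf y
  obtain ⟨k, c, hxc, hcW⟩ := exists_chart_nhd hxW hi
  have hle := (Proj 𝒜).basicOpen_le (dh (g i) c (le_refl (Proj.basicOpen 𝒜 (g i).1)))
  have hW : (Proj 𝒜).basicOpen (dh (g i) c (le_refl (Proj.basicOpen 𝒜 (g i).1))) ≤ W := by
    rw [basicOpen_dh]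
    exact inf_le_right.trans (hcW.trans inf_le_left)
  obtain ⟨N, z, hz⟩ := extend_on (isAffineOpen_chart (g i)) _ (F.presheaf.map (homOfLE hW).op w)
  have hxB : x ∈ (Proj 𝒜).basicOpen (dh (g i) c (le_refl (Proj.basicOpen 𝒜 (g i).1))) := by
    rw [basicOpen_dh]
    exact ⟨hi, hxc⟩
  have h := congrArg (F.presheaf.germ _ x hxB) hz
  rw [germ_smul', TopCat.Presheaf.germ_res_apply, TopCat.Presheaf.germ_res_apply,
    TopCat.Presheaf.germ_res_apply, map_pow] at h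
  obtain ⟨u, hu⟩ := (isUnit_dhGerm c hi hxc).pow N
  refine ⟨(↑u⁻¹ : (Proj 𝒜).presheaf.stalk x), z, ?_⟩
  rw [h, ← hu, smul_smul, Units.inv_mul, one_smul]

include hcov in
theorem spans_full [Finite ι] [Coh.IsQCoh F] : Spans (fullSys g F) := by
  intro x y
  obtain ⟨i, hi⟩ := hcov x
  obtain ⟨u, z, rfl⟩ := germ_mem_span hi y
  obtain ⟨n₀, hn⟩ := exists_compat i z
  obtain ⟨w, hw, rfl⟩ := hn n₀ le_rfl
  exact Submodule.smul_mem _ _ (Submodule.subset_span ⟨i, hi, n₀, ⟨w, hw⟩, rfl⟩)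

end Groth.Agent.GrTildeLib

namespace Groth.Agent.GrTildeLib

variable {R A : Type u} [CommRing R] [CommRing A] [Algebra R A] {𝒜 : ℕ → Submodule R A} [GradedAlgebra 𝒜]

/-- The degree one generators as a family. -/
def gens (s : Finset A) (hs1 : ∀ f ∈ s, f ∈ 𝒜 1) : (↥s : Type u) → 𝒜 1 := fun f => ⟨f.1, hs1 _ f.2⟩

theorem gens_cover (s : Finset A) (hs1 : ∀ f ∈ s, f ∈ 𝒜 1)
    (hs : (HomogeneousIdeal.irrelevant 𝒜).toIdeal ≤ Ideal.span (s : Set A)) (x : Proj 𝒜) :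
    ∃ i, x ∈ Proj.basicOpen 𝒜 (gens s hs1 i).1 := by
  by_contra hne
  push Not at hne
  refine (x : ProjectiveSpectrum 𝒜).not_irrelevant_le fun z hz => (Ideal.span_le.2 ?_) (hs hz)
  intro f hf
  have := hne ⟨f, hf⟩
  by_contra hfx
  exact this hfx

end Groth.Agent.GrTildeLib
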