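import Groth.Agent.GrTildeLib.ExtGraded
import Groth.Agent.GrTildeLib.DegD
import Groth.Agent.GrTildeLib.GammaIso

/-!
# Coherent modules on a Noetherian `Proj` come from finite graded modules

For a covering by `D₊(g i)` with all `g i` of the same degree `D`, sections over the charts are coinduced
to an `A`-module of additive maps `A → Γ(F, D₊(g i))`.
-/

set_option autoImplicit false
set_option linter.style.haveILetI false
set_option backward.isDefEq.respectTransparency false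

universe u

open CategoryTheory TopologicalSpace AlgebraicGeometry Opposite DirectSum
open Groth.Agent.PullbackMod Groth.Agent.ParaFLib

noncomputable section

namespace Groth.Agent.GrTildeLib

variable {R A : Type u} [CommRing R] [CommRing A] [Algebra R A] {𝒜 : ℕ → Submodule R A} [GradedAlgebra 𝒜]
variable {D : ℕ} {ι : Type u} (g : ι → 𝒜 D) (F : (Proj 𝒜).Modules)

/-- Additive maps from `A` to sections over the charts. -/
def Coind : Type u := ∀ i, A →+ Γ(F, Proj.basicOpen 𝒜 (g i).1)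

instance : AddCommGroup (Coind g F) := inferInstanceAs (AddCommGroup (∀ i, A →+ Γ(F, Proj.basicOpen 𝒜 (g i).1)))

instance : Module A (Coind g F) where
  smul a z := fun i => (z i).comp (AddMonoidHom.mulLeft a)
  one_smul z := funext fun i => AddMonoidHom.ext fun b => congrArg (z i) (one_mul b)
  mul_smul a a' z := funext fun i => AddMonoidHom.ext fun b => congrArg (z i) (by
    show a * a' * b = a' * (a * b)
    ring)
  smul_zero a := funext fun i => AddMonoidHom.ext fun b => rfl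
  smul_add a z z' := funext fun i => AddMonoidHom.ext fun b => rfl
  add_smul a a' z := funext fun i => AddMonoidHom.ext fun b => (congrArg (z i) (add_mul a a' b)).trans (map_add (z i) _ _)
  zero_smul z := funext fun i => AddMonoidHom.ext fun b => (congrArg (z i) (zero_mul b)).trans (map_zero (z i))

variable {g F}

/-- Evaluation. -/
def Coind.ev (z : Coind g F) (i : ι) (b : A) : Γ(F, Proj.basicOpen 𝒜 (g i).1) := (z : ∀ i, A →+ _) i b

lemma ev_smul (a : A) (z : Coind g F) (i : ι) (b : A) : (a • z).ev i b = z.ev i (a * b) := rfl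
lemma ev_add (z z' : Coind g F) (i : ι) (b : A) : (z + z').ev i b = z.ev i b + z'.ev i b := rfl
lemma ev_neg (z : Coind g F) (i : ι) (b : A) : (-z).ev i b = -(z.ev i b) := rfl
lemma ev_zero (i : ι) (b : A) : (0 : Coind g F).ev i b = 0 := rfl
lemma ev_map_zero (z : Coind g F) (i : ι) : z.ev i 0 = 0 := map_zero ((z : ∀ i, A →+ _) i)

lemma coind_ext {z z' : Coind g F} (h : ∀ i b, z.ev i b = z'.ev i b) : z = z' :=
  funext fun i => AddMonoidHom.ext fun b => h i b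

/-- The coinduced element of a family. -/
def hat (w : ∀ i, Γ(F, Proj.basicOpen 𝒜 (g i).1)) : Coind g F := fun i =>
  AddMonoidHom.mk' (fun b => qd (g i) b • w i) fun b b' => by rw [map_add, add_smul]

lemma ev_hat (w : ∀ i, Γ(F, Proj.basicOpen 𝒜 (g i).1)) (i : ι) (b : A) : (hat w).ev i b = qd (g i) b • w i := rfl

/-- The properties of the elements used. -/
structure Twisted (S : GSys 𝒜 (Coind g F)) : Prop where
  mul : ∀ {n : ℕ} (z : S.P n) (i : ι) (b : A) {l : ℕ} (c : 𝒜 (l * D)),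
    z.1.ev i (b * c.1) = dhD (g i) c le_rfl • z.1.ev i b
  change : ∀ {n : ℕ} (z : S.P n) (i j : ι) {e m : ℕ} (b : 𝒜 e) (_ : e + n = m * D) (V : (Proj 𝒜).Opens)
    (hi : V ≤ Proj.basicOpen 𝒜 (g i).1) (hj : V ≤ Proj.basicOpen 𝒜 (g j).1),
    F.presheaf.map (homOfLE hi).op (z.1.ev i b.1) =
      dhD (g i) (gpD (g j) m) hi • F.presheaf.map (homOfLE hj).op (z.1.ev j b.1)
  vanish : ∀ {n : ℕ} (z : S.P n) (i : ι) {e : ℕ} (b : 𝒜 e), (e + n) / D * D ≠ e + n → z.1.ev i b.1 = 0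

theorem twisted_gen (hD : 0 < D) {κ : Type*} (k : κ → ℕ) (w : κ → ∀ i, Γ(F, Proj.basicOpen 𝒜 (g i).1))
    (hw : ∀ l (i j : ι) (V : (Proj 𝒜).Opens) (hi : V ≤ Proj.basicOpen 𝒜 (g i).1) (hj : V ≤ Proj.basicOpen 𝒜 (g j).1),
      F.presheaf.map (homOfLE hi).op (w l i) = dhD (g i) (gpD (g j) (k l)) hi • F.presheaf.map (homOfLE hj).op (w l j)) :
    Twisted (GSys.gen 𝒜 (fun l => k l * D) fun l => hat (g := g) (w l)) := by
  refine ⟨?_, ?_, ?_⟩
  · rintro n ⟨z, hz⟩ i b l c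
    induction hz using AddSubgroup.closure_induction with
    | mem z hz =>
      obtain ⟨l', e, a, rfl, rfl⟩ := hz
      simp only [ev_smul, ev_hat, ← mul_assoc, qd_mul hD, mul_smul]
    | zero => simp only [ev_zero, smul_zero]
    | add z z' _ _ h h' => simp only [ev_add] at h h' ⊢; rw [h, h', smul_add]
    | neg z _ h => simp only [ev_neg] at h ⊢; rw [h, smul_neg]
  · rintro n ⟨z, hz⟩ i j e' m b he V hi hj
    induction hz using AddSubgroup.closure_induction with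
    | mem z hz =>
      obtain ⟨l, e, a, rfl, rfl⟩ := hz
      beta_reduce at he
      have hkm : k l ≤ m := Nat.le_of_mul_le_mul_right (show k l * D ≤ m * D by omega) hD
      have hab : a.1 * b.1 ∈ 𝒜 ((m - k l) * D) := by
        have h : e + e' = (m - k l) * D := by rw [Nat.sub_mul]; omega
        exact h ▸ SetLike.mul_mem_graded a.2 b.2
      simp only [ev_smul, ev_hat]
      rw [qd_eq hD _ hab, qd_eq hD _ hab, F.map_smul, F.map_smul, dhD_res, dhD_res, hw l i j V hi hj, smul_smul,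
        smul_smul, dhD_change (f := g i) (h := g j) _ hi hj, mul_right_comm,
        dhD_mul (gpD (g j) (m - k l)) (gpD (g j) (k l)) (gpD (g j) m) (Nat.sub_add_cancel hkm)
          (by simp only [gpD_coe, ← pow_add, Nat.sub_add_cancel hkm]) hi]
    | zero => simp only [ev_zero, map_zero, smul_zero]
    | add z z' _ _ h h' => simp only [ev_add, map_add] at h h' ⊢; rw [h, h', smul_add]
    | neg z _ h => simp only [ev_neg, map_neg] at h ⊢; rw [h, smul_neg]
  · rintro n ⟨z, hz⟩ i e' b he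
    induction hz using AddSubgroup.closure_induction with
    | mem z hz =>
      obtain ⟨l, e, a, rfl, rfl⟩ := hz
      beta_reduce at he
      have hm : a.1 * b.1 ∈ 𝒜 (e + e') := SetLike.mul_mem_graded a.2 b.2
      simp only [ev_smul, ev_hat]
      rw [show qd (g i) (a.1 * b.1) = _ from qd_coe (⟨_, hm⟩ : 𝒜 (e + e')), dif_neg ?_, zero_smul]
      intro h
      apply he
      rw [show e' + (e + k l * D) = (e + e') + k l * D by omega, Nat.add_mul_div_right _ _ hD, add_mul, h]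
    | zero => exact ev_zero _ _
    | add z z' _ _ h h' => rw [ev_add, h, h', add_zero]
    | neg z _ h => rw [ev_neg, h, neg_zero]

theorem pow_pred_mul (hD : 0 < D) (a : A) : a ^ (D - 1) * a = a ^ D := by
  rw [← pow_succ, Nat.sub_add_cancel hD]

/-- `t ^ D`, in its degree. -/
def pD {n : ℕ} (t : 𝒜 n) (D : ℕ) : 𝒜 (n * D) := ⟨t.1 ^ D, by simpa [mul_comm] using SetLike.pow_mem_graded D t.2⟩

lemma pD_coe {n : ℕ} (t : 𝒜 n) (D : ℕ) : (pD t D).1 = t.1 ^ D := rfl

/-- The germ of `a / g i ^ m`. -/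
abbrev dGerm (g : ι → 𝒜 D) {m : ℕ} (a : 𝒜 (m * D)) {i : ι} {x : Proj 𝒜} (hi : x ∈ Proj.basicOpen 𝒜 (g i).1) :
    (Proj 𝒜).presheaf.stalk x :=
  (Proj 𝒜).presheaf.germ _ x hi (dhD (g i) a le_rfl)

/-- The germ of `z` at `b`. -/
abbrev zGerm (z : Coind g F) (b : A) {i : ι} {x : Proj 𝒜} (hi : x ∈ Proj.basicOpen 𝒜 (g i).1) : F.presheaf.stalk x :=
  F.presheaf.germ _ x hi (z.ev i b)

theorem isUnit_dGerm {m : ℕ} (a : 𝒜 (m * D)) {i : ι} {x : Proj 𝒜} (hi : x ∈ Proj.basicOpen 𝒜 (g i).1)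
    (ha : a.1 ∉ (x : ProjectiveSpectrum 𝒜).asHomogeneousIdeal) : IsUnit (dGerm g a hi) :=
  isUnit_germ_dhD a le_rfl hi ha

theorem dGerm_mul {m m' k : ℕ} (a : 𝒜 (m * D)) (a' : 𝒜 (m' * D)) (b : 𝒜 (k * D)) (he : m + m' = k)
    (hb : b.1 = a.1 * a'.1) {i : ι} {x : Proj 𝒜} (hi : x ∈ Proj.basicOpen 𝒜 (g i).1) :
    dGerm g a hi * dGerm g a' hi = dGerm g b hi := by
  rw [dGerm, dGerm, ← map_mul, dhD_mul a a' b he hb]

theorem dGerm_change {m : ℕ} (a : 𝒜 (m * D)) {i j : ι} {x : Proj 𝒜} (hi : x ∈ Proj.basicOpen 𝒜 (g i).1)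
    (hj : x ∈ Proj.basicOpen 𝒜 (g j).1) : dGerm g a hi = dGerm g (gpD (g j) m) hi * dGerm g a hj := by
  have h := congrArg ((Proj 𝒜).presheaf.germ _ x (⟨hi, hj⟩ : x ∈ Proj.basicOpen 𝒜 (g i).1 ⊓ Proj.basicOpen 𝒜 (g j).1))
    (dhD_change (f := g i) (h := g j) a (V := Proj.basicOpen 𝒜 (g i).1 ⊓ Proj.basicOpen 𝒜 (g j).1) inf_le_left inf_le_right)
  rw [map_mul, ← dhD_res a le_rfl inf_le_left, ← dhD_res (gpD (g j) m) le_rfl inf_le_left,
    ← dhD_res a le_rfl inf_le_right] at h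
  simp only [TopCat.Presheaf.germ_res_apply] at h
  exact h

variable {S : GSys 𝒜 (Coind g F)}

theorem zGerm_mul (hS : Twisted S) {n : ℕ} (z : S.P n) (b : A) {l : ℕ} (c : 𝒜 (l * D)) {i : ι} {x : Proj 𝒜}
    (hi : x ∈ Proj.basicOpen 𝒜 (g i).1) : zGerm z.1 (b * c.1) hi = dGerm g c hi • zGerm z.1 b hi := by
  rw [zGerm, hS.mul, germ_smul']

variable (S) in
/-- `y` is the value of the fraction `q`. -/
def RelD {x : Proj 𝒜} (q : GrTilde.LocMod 𝒜 (M := S.M) x) (y : F.presheaf.stalk x) : Prop :=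
  ∃ (n : ℕ) (z : S.P n) (t : 𝒜 n) (ht : t.1 ∉ (x : ProjectiveSpectrum 𝒜).asHomogeneousIdeal),
    q = LocalizedModule.mk (S.homog z).1 ⟨t.1, ht⟩ ∧
      ∀ (i : ι) (hi : x ∈ Proj.basicOpen 𝒜 (g i).1), dGerm g (pD t D) hi • y = zGerm z.1 (t.1 ^ (D - 1)) hi

theorem relD_all_of_one (hD : 0 < D) (hS : Twisted S) {n : ℕ} (z : S.P n) (t : 𝒜 n) {x : Proj 𝒜} (y : F.presheaf.stalk x)
    {i : ι} (hi : x ∈ Proj.basicOpen 𝒜 (g i).1) (h : dGerm g (pD t D) hi • y = zGerm z.1 (t.1 ^ (D - 1)) hi) (j : ι)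
    (hj : x ∈ Proj.basicOpen 𝒜 (g j).1) : dGerm g (pD t D) hj • y = zGerm z.1 (t.1 ^ (D - 1)) hj := by
  refine (isUnit_dGerm (gpD (g j) n) hi (le_gpD le_rfl n hj)).smul_left_cancel.1 ?_
  rw [smul_smul, ← dGerm_change (pD t D) hi hj, h]
  have hdeg : (D - 1) * n + n = n * D := by
    rw [← Nat.succ_mul, Nat.succ_eq_add_one, Nat.sub_add_cancel hD, mul_comm]
  have hc := congrArg (F.presheaf.germ _ x (⟨hi, hj⟩ : x ∈ Proj.basicOpen 𝒜 (g i).1 ⊓ Proj.basicOpen 𝒜 (g j).1))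
    (hS.change z i j (⟨t.1 ^ (D - 1), by simpa using SetLike.pow_mem_graded (D - 1) t.2⟩ : 𝒜 ((D - 1) * n)) hdeg _
      inf_le_left inf_le_right)
  rw [germ_smul', ← dhD_res (gpD (g j) n) le_rfl inf_le_left] at hc
  simp only [TopCat.Presheaf.germ_res_apply] at hc
  exact hc

theorem RelD.add (hD : 0 < D) (hS : Twisted S) {x : Proj 𝒜} {q q' : GrTilde.LocMod 𝒜 (M := S.M) x}
    {y y' : F.presheaf.stalk x} (h : RelD S q y) (h' : RelD S q' y') : RelD S (q + q') (y + y') := by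
  obtain ⟨n, z, t, ht, rfl, hy⟩ := h
  obtain ⟨n', z', t', ht', rfl, hy'⟩ := h'
  refine ⟨n' + n, ⟨t'.1 • z.1 + t.1 • z'.1, add_mem (S.smul_mem t' z.2) (add_comm n n' ▸ S.smul_mem t z'.2)⟩,
    ⟨t'.1 * t.1, SetLike.mul_mem_graded t'.2 t.2⟩,
    fun hm => ((x : ProjectiveSpectrum 𝒜).isPrime.mem_or_mem hm).elim ht' ht, ?_, fun i hi => ?_⟩
  · rw [LocalizedModule.mk_add_mk]
    congr 1
    · show t'.1 • (S.homog z).1 + t.1 • (S.homog z').1 = _
      simp only [GSys.homog]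
      rw [S.smul_of, S.smul_of, S.of_eq (add_comm n n') (z' := (⟨t.1 • z'.1, add_comm n n' ▸ S.smul_mem t z'.2⟩ : S.P (n' + n))) rfl,
        ← map_add]
      rfl
    · exact Subtype.ext (mul_comm _ _)
  · have hp : ∀ (a b : A), a * (a * b) ^ (D - 1) = b ^ (D - 1) * a ^ D := fun a b => by
      rw [mul_pow, ← mul_assoc, ← pow_succ', Nat.sub_add_cancel hD, mul_comm]
    have e1 : zGerm (t'.1 • z.1) ((t'.1 * t.1) ^ (D - 1)) hi = dGerm g (pD t' D) hi • dGerm g (pD t D) hi • y := by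
      rw [zGerm, ev_smul, hp, ← pD_coe t' D]
      exact (zGerm_mul hS z _ (pD t' D) hi).trans (congrArg _ (hy i hi).symm)
    have e2 : zGerm (t.1 • z'.1) ((t'.1 * t.1) ^ (D - 1)) hi = dGerm g (pD t D) hi • dGerm g (pD t' D) hi • y' := by
      rw [zGerm, ev_smul, mul_comm t'.1 t.1, hp, ← pD_coe t D]
      exact (zGerm_mul hS z' _ (pD t D) hi).trans (congrArg _ (hy' i hi).symm)
    have e0 : zGerm (t'.1 • z.1 + t.1 • z'.1) ((t'.1 * t.1) ^ (D - 1)) hi = zGerm (t'.1 • z.1) ((t'.1 * t.1) ^ (D - 1)) hi +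
        zGerm (t.1 • z'.1) ((t'.1 * t.1) ^ (D - 1)) hi := by simp only [zGerm, ev_add, map_add]
    refine Eq.trans ?_ e0.symm
    rw [e1, e2, smul_smul, smul_smul, smul_add, dGerm_mul (pD t' D) (pD t D) (pD (⟨t'.1 * t.1, SetLike.mul_mem_graded t'.2 t.2⟩ : 𝒜 (n' + n)) D) rfl (mul_pow _ _ _) hi,
      dGerm_mul (pD t D) (pD t' D) (pD (⟨t'.1 * t.1, SetLike.mul_mem_graded t'.2 t.2⟩ : 𝒜 (n' + n)) D) (add_comm n n')
        (by rw [pD_coe, pD_coe, pD_coe, mul_pow]; exact mul_comm _ _) hi]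

end Groth.Agent.GrTildeLib
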