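import Mathlib.Algebra.Module.GradedModule
import Mathlib.RingTheory.GradedAlgebra.Basic
import Mathlib.RingTheory.Finiteness.Basic

/-! The graded module assembled from a family of subgroups of a module. -/

set_option autoImplicit false
set_option linter.style.haveILetI false

universe u

open DirectSum

noncomputable section

namespace Groth.Agent.GrTildeLib

variable {R A : Type u} [CommRing R] [CommRing A] [Algebra R A] (𝒜 : ℕ → Submodule R A) [GradedAlgebra 𝒜]
variable (E : Type u) [AddCommGroup E] [Module A E]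

/-- Subgroups of `E` in each degree, stable under homogeneous multiplication. -/
structure GSys where
  /-- The subgroup of each degree. -/
  P : ℕ → AddSubgroup E
  smul_mem : ∀ {e n : ℕ} (a : 𝒜 e) {z : E}, z ∈ P n → a.1 • z ∈ P (e + n)

variable {𝒜 E} (S : GSys 𝒜 E)

lemma GSys.sigma_ext {n n' : ℕ} (h : n = n') {z : S.P n} {z' : S.P n'} (hz : z.1 = z'.1) :
    (GradedMonoid.mk n z : GradedMonoid fun k => S.P k) = GradedMonoid.mk n' z' := by
  subst h
  rw [Subtype.ext hz]

instance GSys.gsmul : GradedMonoid.GSMul (fun i => 𝒜 i) (fun n => S.P n) where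
  smul {e n} a z := ⟨a.1 • z.1, S.smul_mem a z.2⟩

instance GSys.gmodule : DirectSum.Gmodule (fun i => 𝒜 i) (fun n => S.P n) where
  one_smul := fun ⟨n, z⟩ => S.sigma_ext (zero_add n) (one_smul A z.1)
  mul_smul := fun ⟨e, a⟩ ⟨e', a'⟩ ⟨n, z⟩ => S.sigma_ext (add_assoc e e' n) (mul_smul a.1 a'.1 z.1)
  smul_add a z z' := Subtype.ext (smul_add a.1 z.1 z'.1)
  smul_zero a := Subtype.ext (smul_zero a.1)
  add_smul a a' z := Subtype.ext (add_smul a.1 a'.1 z.1)
  zero_smul z := Subtype.ext (zero_smul A z.1)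

/-- The graded module. -/
abbrev GSys.M : Type u := ⨁ n, S.P n

instance GSys.instModule : Module A S.M := Module.compHom _ (decomposeRingEquiv 𝒜).toRingHom

instance GSys.instModuleR : Module R S.M := Module.compHom _ (algebraMap R A)

instance GSys.isScalarTower : IsScalarTower R A S.M :=
  ⟨fun r a m => by
    show (r • a) • m = algebraMap R A r • a • m
    rw [Algebra.smul_def, mul_smul]⟩

theorem GSys.smul_of {e n : ℕ} (a : 𝒜 e) (z : S.P n) :
    a.1 • (DirectSum.of (fun n => S.P n) n z : S.M) =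
      DirectSum.of (fun n => S.P n) (e + n) ⟨a.1 • z.1, S.smul_mem a z.2⟩ := by
  show decompose 𝒜 a.1 • DirectSum.of (fun n => S.P n) n z = _
  rw [decompose_coe]
  exact DirectSum.Gmodule.of_smul_of (fun i => 𝒜 i) (fun n => S.P n) a z

theorem GSys.of_eq {n n' : ℕ} (h : n = n') {z : S.P n} {z' : S.P n'} (hz : z.1 = z'.1) :
    DirectSum.of (fun n => S.P n) n z = DirectSum.of (fun n => S.P n) n' z' := by
  subst h
  rw [Subtype.ext hz]

theorem GSys.val_eq_of_of_eq {n n' : ℕ} (h : n = n') {z : S.P n} {z' : S.P n'}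
    (hz : DirectSum.of (fun n => S.P n) n z = DirectSum.of (fun n => S.P n) n' z') : z.1 = z'.1 := by
  subst h
  rw [DirectSum.of_injective n hz]

/-- The grading. -/
def GSys.grade (n : ℕ) : Submodule R S.M where
  carrier := Set.range (DirectSum.of (fun n => S.P n) n)
  zero_mem' := ⟨0, map_zero _⟩
  add_mem' := by rintro _ _ ⟨z, rfl⟩ ⟨z', rfl⟩; exact ⟨z + z', map_add _ _ _⟩
  smul_mem' r := by
    rintro _ ⟨z, rfl⟩
    have h := S.smul_mem (⟨algebraMap R A r, SetLike.algebraMap_mem_graded 𝒜 r⟩ : 𝒜 0) z.2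
    rw [zero_add] at h
    exact ⟨⟨_, h⟩, ((S.smul_of (⟨algebraMap R A r, SetLike.algebraMap_mem_graded 𝒜 r⟩ : 𝒜 0) z).trans
      (S.of_eq (zero_add n) rfl)).symm⟩

/-- A homogeneous element. -/
def GSys.homog {n : ℕ} (z : S.P n) : S.grade n := ⟨DirectSum.of (fun n => S.P n) n z, z, rfl⟩

instance GSys.decomposition : DirectSum.Decomposition S.grade :=
  DirectSum.Decomposition.ofAddHom _
    (DirectSum.toAddMonoid fun n => (DirectSum.of (fun n => S.grade n) n).comp
      (AddMonoidHom.mk' (S.homog (n := n)) fun z z' => Subtype.ext (map_add _ z z')))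
    (DirectSum.addHom_ext fun n z => by simp [GSys.homog])
    (DirectSum.addHom_ext fun n w => by
      obtain ⟨_, z, rfl⟩ := w
      simp [GSys.homog])

instance GSys.gradedSMul : SetLike.GradedSMul 𝒜 S.grade :=
  ⟨fun {e _ a _} ha hm => by
    obtain ⟨z, rfl⟩ := hm
    exact ⟨_, (S.smul_of (⟨a, ha⟩ : 𝒜 e) z).symm⟩⟩

variable (𝒜) in
/-- The system generated by elements with prescribed degrees. -/
def GSys.gen {κ : Type*} (deg : κ → ℕ) (w : κ → E) : GSys 𝒜 E where
  P n := AddSubgroup.closure {z | ∃ (k : κ) (e : ℕ) (a : 𝒜 e), e + deg k = n ∧ z = a.1 • w k}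
  smul_mem {e n} a z hz := by
    induction hz using AddSubgroup.closure_induction with
    | mem z hz =>
      obtain ⟨k, e', a', rfl, rfl⟩ := hz
      exact AddSubgroup.subset_closure ⟨k, e + e', ⟨a.1 * a'.1, SetLike.mul_mem_graded a.2 a'.2⟩, add_assoc _ _ _,
        (mul_smul a.1 a'.1 _).symm⟩
    | zero => rw [smul_zero]; exact zero_mem _
    | add z z' _ _ h h' => rw [smul_add]; exact add_mem h h'
    | neg z _ h => rw [smul_neg]; exact neg_mem h

theorem GSys.mem_gen {κ : Type*} (deg : κ → ℕ) (w : κ → E) (k : κ) : w k ∈ (GSys.gen 𝒜 deg w).P (deg k) :=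
  AddSubgroup.subset_closure ⟨k, 0, ⟨1, SetLike.GradedOne.one_mem⟩, zero_add _, (one_smul A _).symm⟩

theorem GSys.finite_gen {κ : Type*} [Finite κ] (deg : κ → ℕ) (w : κ → E) :
    Module.Finite A (GSys.gen 𝒜 deg w).M := by
  classical
  let S := GSys.gen 𝒜 deg w
  let v : κ → S.M := fun k => DirectSum.of (fun n => S.P n) (deg k) ⟨w k, GSys.mem_gen deg w k⟩
  refine ⟨⟨(Set.finite_range v).toFinset, eq_top_iff.2 fun m hm => ?_⟩⟩
  rw [Set.Finite.coe_toFinset]
  clear hm
  induction m using DirectSum.induction_on with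
  | zero => exact zero_mem _
  | add m m' h h' => exact add_mem h h'
  | of n z =>
    obtain ⟨z, hz⟩ := z
    suffices h : ∃ hz' : z ∈ S.P n, DirectSum.of (fun n => S.P n) n ⟨z, hz'⟩ ∈ Submodule.span A (Set.range v) from h.2
    induction hz using AddSubgroup.closure_induction with
    | mem z hz =>
      obtain ⟨k, e, a, rfl, rfl⟩ := hz
      refine ⟨S.smul_mem a (GSys.mem_gen deg w k), ?_⟩
      rw [← S.smul_of a ⟨w k, GSys.mem_gen deg w k⟩]
      exact Submodule.smul_mem _ _ (Submodule.subset_span ⟨k, rfl⟩)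
    | zero => exact ⟨zero_mem _, (map_zero (DirectSum.of (fun n => S.P n) n)).symm ▸ zero_mem _⟩
    | add z z' _ _ h h' =>
      obtain ⟨h₁, h₂⟩ := h
      obtain ⟨h₁', h₂'⟩ := h'
      refine ⟨add_mem h₁ h₁', ?_⟩
      have := add_mem h₂ h₂'
      rw [← map_add] at this
      exact this
    | neg z _ h =>
      obtain ⟨h₁, h₂⟩ := h
      refine ⟨neg_mem h₁, ?_⟩
      have := neg_mem h₂
      rw [← map_neg] at this
      exact this

end Groth.Agent.GrTildeLib
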