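import Groth.Agent.GrTildeLib.Ratio
import Mathlib.Algebra.Module.GradedModule

/-!
# Graded modules of compatible families of sections

For degree one elements `g i` covering `Proj`, a compatible family of degree `n` is a collection of
sections `z i` over `D₊(g i)` glueing to a section of the twist by `n`.
-/

set_option autoImplicit false
set_option linter.style.haveILetI false
set_option backward.isDefEq.respectTransparency false

universe u

open CategoryTheory TopologicalSpace AlgebraicGeometry Opposite DirectSum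

noncomputable section

namespace Groth.Agent.GrTildeLib

variable {R A : Type u} [CommRing R] [CommRing A] [Algebra R A] {𝒜 : ℕ → Submodule R A} [GradedAlgebra 𝒜]
variable {ι : Type u} (g : ι → 𝒜 1) (F : (Proj 𝒜).Modules)

/-- Families of sections on the charts. -/
abbrev Fams : Type u := ∀ i, Γ(F, Proj.basicOpen 𝒜 (g i).1)

variable {g F}

/-- The action of `a` of degree `e` on families. -/
def act {e : ℕ} (a : 𝒜 e) (z : Fams g F) : Fams g F := fun i => dh (g i) a le_rfl • z i

lemma act_apply {e : ℕ} (a : 𝒜 e) (z : Fams g F) (i : ι) : act a z i = dh (g i) a le_rfl • z i := rfl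

lemma act_zero {e : ℕ} (a : 𝒜 e) : act a (0 : Fams g F) = 0 := funext fun _ => smul_zero _

lemma act_add {e : ℕ} (a : 𝒜 e) (z z' : Fams g F) : act a (z + z') = act a z + act a z' :=
  funext fun _ => smul_add _ _ _

lemma add_act {e : ℕ} (a b : 𝒜 e) (z : Fams g F) : act (a + b) z = act a z + act b z :=
  funext fun i => by rw [act_apply, dh_add, add_smul]; rfl

lemma zero_act {e : ℕ} (z : Fams g F) : act (0 : 𝒜 e) z = 0 := by
  have h := add_act (0 : 𝒜 e) 0 z
  rwa [add_zero, left_eq_add] at h

lemma act_act {e e' k : ℕ} (a : 𝒜 e) (a' : 𝒜 e') (b : 𝒜 k) (he : e + e' = k) (hb : b.1 = a.1 * a'.1) (z : Fams g F) :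
    act b z = act a (act a' z) :=
  funext fun i => by rw [act_apply, act_apply, act_apply, smul_smul, dh_mul a a' b he hb]

lemma act_one {e : ℕ} (a : 𝒜 e) (he : e = 0) (ha : a.1 = 1) (z : Fams g F) : act a z = z :=
  funext fun i => by
    subst he
    rw [act_apply, dh_self a (by rw [ha, pow_zero]), one_smul]

lemma act_congr {e e' : ℕ} (he : e = e') (a : 𝒜 e) (a' : 𝒜 e') (h : a.1 = a'.1) (z : Fams g F) :
    act a z = act a' z := by
  subst he
  rw [Subtype.ext h]

/-- Compatibility in degree `n`. -/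
def Compat (n : ℕ) (z : Fams g F) : Prop :=
  ∀ (i j : ι) (V : (Proj 𝒜).Opens) (hi : V ≤ Proj.basicOpen 𝒜 (g i).1) (hj : V ≤ Proj.basicOpen 𝒜 (g j).1),
    F.presheaf.map (homOfLE hi).op (z i) = dh (g i) (gp (g j) n) hi • F.presheaf.map (homOfLE hj).op (z j)

variable (g F) in
/-- Compatible families of degree `n`. -/
def compatFam (n : ℕ) : AddSubgroup (Fams g F) where
  carrier := {z | Compat n z}
  zero_mem' i j V hi hj := by
    show F.presheaf.map (homOfLE hi).op (0 : Γ(F, _)) = _ • F.presheaf.map (homOfLE hj).op (0 : Γ(F, _))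
    rw [map_zero, map_zero, smul_zero]
  add_mem' {z z'} h h' i j V hi hj := by
    show F.presheaf.map (homOfLE hi).op (z i + z' i) = _ • F.presheaf.map (homOfLE hj).op (z j + z' j)
    rw [map_add, map_add, h i j V hi hj, h' i j V hi hj, smul_add]
  neg_mem' {z} h i j V hi hj := by
    show F.presheaf.map (homOfLE hi).op (-z i) = _ • F.presheaf.map (homOfLE hj).op (-z j)
    rw [map_neg, map_neg, h i j V hi hj, smul_neg]

theorem act_mem_compatFam {e n : ℕ} (a : 𝒜 e) {z : Fams g F} (hz : z ∈ compatFam g F n) :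
    act a z ∈ compatFam g F (e + n) := fun i j V hi hj => by
  rw [act_apply, act_apply, F.map_smul, F.map_smul, dh_res, dh_res, hz i j V hi hj, smul_smul, smul_smul,
    dh_change a hi hj]
  congr 1
  rw [mul_right_comm, dh_mul (gp (g j) e) (gp (g j) n) (gp (g j) (e + n)) rfl (pow_add _ _ _) hi]

variable (g F) in
/-- A graded family of compatible families, stable under the action. -/
structure Sys where
  /-- The families of each degree. -/
  P : ℕ → AddSubgroup (Fams g F)
  le : ∀ n, P n ≤ compatFam g F n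
  act_mem : ∀ {e n : ℕ} (a : 𝒜 e) {z : Fams g F}, z ∈ P n → act a z ∈ P (e + n)

variable (S : Sys g F)

lemma sigma_ext {n n' : ℕ} (h : n = n') {z : S.P n} {z' : S.P n'} (hz : z.1 = z'.1) :
    (GradedMonoid.mk n z : GradedMonoid fun k => S.P k) = GradedMonoid.mk n' z' := by
  subst h
  rw [Subtype.ext hz]

instance gsmul : GradedMonoid.GSMul (fun i => 𝒜 i) (fun n => S.P n) where
  smul {e n} a z := ⟨act a z.1, S.act_mem a z.2⟩

instance gmodule : DirectSum.Gmodule (fun i => 𝒜 i) (fun n => S.P n) where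
  one_smul := fun ⟨n, z⟩ => sigma_ext S (zero_add n) (act_one _ rfl rfl z.1)
  mul_smul := fun ⟨e, a⟩ ⟨e', a'⟩ ⟨n, z⟩ => sigma_ext S (add_assoc e e' n) (act_act a a' _ rfl rfl z.1)
  smul_add a z z' := Subtype.ext (act_add a z.1 z'.1)
  smul_zero a := Subtype.ext (act_zero a)
  add_smul a a' z := Subtype.ext (add_act a a' z.1)
  zero_smul z := Subtype.ext (zero_act z.1)

/-- The graded module of the families. -/
abbrev Sys.M : Type u := ⨁ n, S.P n

instance instModule : Module A S.M := Module.compHom _ (decomposeRingEquiv 𝒜).toRingHom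

instance instModuleR : Module R S.M := Module.compHom _ (algebraMap R A)

instance : IsScalarTower R A S.M :=
  ⟨fun r a m => by
    show (r • a) • m = algebraMap R A r • a • m
    rw [Algebra.smul_def, mul_smul]⟩

theorem smul_of {e n : ℕ} (a : 𝒜 e) (z : S.P n) :
    a.1 • (DirectSum.of (fun n => S.P n) n z : S.M) = DirectSum.of (fun n => S.P n) (e + n) ⟨act a z.1, S.act_mem a z.2⟩ := by
  show decompose 𝒜 a.1 • DirectSum.of (fun n => S.P n) n z = _
  rw [decompose_coe]
  exact DirectSum.Gmodule.of_smul_of (fun i => 𝒜 i) (fun n => S.P n) a z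

theorem of_eq {n n' : ℕ} (h : n = n') {z : S.P n} {z' : S.P n'} (hz : z.1 = z'.1) :
    DirectSum.of (fun n => S.P n) n z = DirectSum.of (fun n => S.P n) n' z' := by
  subst h
  rw [Subtype.ext hz]

theorem val_eq_of_of_eq {n n' : ℕ} (h : n = n') {z : S.P n} {z' : S.P n'}
    (hz : DirectSum.of (fun n => S.P n) n z = DirectSum.of (fun n => S.P n) n' z') : z.1 = z'.1 := by
  subst h
  rw [DirectSum.of_injective n hz]

/-- The grading. -/
def grade (n : ℕ) : Submodule R S.M where
  carrier := Set.range (DirectSum.of (fun n => S.P n) n)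
  zero_mem' := ⟨0, map_zero _⟩
  add_mem' := by rintro _ _ ⟨z, rfl⟩ ⟨z', rfl⟩; exact ⟨z + z', map_add _ _ _⟩
  smul_mem' r := by
    rintro _ ⟨z, rfl⟩
    have h := S.act_mem (⟨algebraMap R A r, SetLike.algebraMap_mem_graded 𝒜 r⟩ : 𝒜 0) z.2
    rw [zero_add] at h
    exact ⟨⟨_, h⟩, ((smul_of S (⟨algebraMap R A r, SetLike.algebraMap_mem_graded 𝒜 r⟩ : 𝒜 0) z).trans
      (of_eq S (zero_add n) rfl)).symm⟩

theorem of_mem_grade {n : ℕ} (z : S.P n) : DirectSum.of (fun n => S.P n) n z ∈ grade S n := ⟨z, rfl⟩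

/-- A homogeneous element. -/
def homog {n : ℕ} (z : S.P n) : grade S n := ⟨_, of_mem_grade S z⟩

instance : DirectSum.Decomposition (grade S) :=
  DirectSum.Decomposition.ofAddHom _
    (DirectSum.toAddMonoid fun n => (DirectSum.of (fun n => grade S n) n).comp
      (AddMonoidHom.mk' (homog S (n := n)) fun z z' => Subtype.ext (map_add _ z z')))
    (DirectSum.addHom_ext fun n z => by simp [homog])
    (DirectSum.addHom_ext fun n w => by
      obtain ⟨_, z, rfl⟩ := w
      simp [homog])

instance : SetLike.GradedSMul 𝒜 (grade S) :=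
  ⟨fun {e n a m} ha hm => by
    obtain ⟨z, rfl⟩ := hm
    exact ⟨_, (smul_of S ⟨a, ha⟩ z).symm⟩⟩

end Groth.Agent.GrTildeLib
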