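import Groth.Agent.GrTildeLib.Tensor
import Groth.Agent.DCohLib.Restrict

/-! Epimorphisms from sums, detected on stalks. -/

set_option autoImplicit false
set_option linter.style.haveILetI false
set_option backward.isDefEq.respectTransparency false

universe u

open CategoryTheory CategoryTheory.Limits TopologicalSpace AlgebraicGeometry Opposite
open Groth.Agent.PullbackMod Groth.Agent.DCohLib Groth.Agent.ParaFLib Groth.Agent.AmpleLib

noncomputable section

namespace Groth.Agent.GrTildeLib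

variable {X : Scheme.{u}}

theorem surjective_stalk_secHom {N : X.Modules} (t : Γ(N, ⊤)) {W : X.Opens} {x : X} (hx : x ∈ W)
    (h : Gen W (N.presheaf.map (homOfLE (le_top : W ≤ ⊤)).op t)) :
    Function.Bijective (stalkLin (secHom N t) x) := by
  refine ProjCoh.stalk_bijective_of_app _ (U := W) (fun O hO => ?_) hx
  have he : ⇑((secHom N t).app O) = fun r : Γ(X, O) =>
      r • N.presheaf.map (homOfLE hO).op (N.presheaf.map (homOfLE (le_top : W ≤ ⊤)).op t) := by
    funext r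
    refine (congrArg ((secHom N t).app O) (mul_one (show Γ(X, O) from r)).symm).trans ?_
    refine (Scheme.Modules.Hom.app_smul (secHom N t) (show Γ(X, O) from r) (1 : Γ(X, O))).trans ?_
    rw [secHom_app_one]
    refine congrArg ((show Γ(X, O) from r) • ·) ?_
    exact (ParaFLib.res_res (L := N) le_top hO t).symm
  rw [he]
  exact h O hO

theorem epi_sigma_desc {ι : Type*} {F : ι → X.Modules} [HasCoproduct F] {N : X.Modules} (p : ∀ i, F i ⟶ N)
    (h : ∀ x : X, ∃ i, Function.Surjective (stalkLin (p i) x)) : Epi (Sigma.desc p) := by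
  rw [epi_iff_stalk]
  intro x z
  obtain ⟨i, hi⟩ := h x
  obtain ⟨w, hw⟩ := hi z
  refine ⟨stalkLin (Sigma.ι F i) x w, ?_⟩
  rw [← LinearMap.comp_apply, ← stalkLin_comp, Sigma.ι_desc, hw]

variable {R A : Type u} [CommRing R] [CommRing A] [Algebra R A] {𝒜 : ℕ → Submodule R A} [GradedAlgebra 𝒜]

theorem exists_epi_free (s : Finset A) (hs1 : ∀ f ∈ s, f ∈ 𝒜 1)
    (hs : (HomogeneousIdeal.irrelevant 𝒜).toIdeal ≤ Ideal.span (s : Set A)) (n : ℕ) :
    ∃ (k : ℕ) (p : FlatMod.freeMod (Proj 𝒜) k ⟶ Twist.twist 𝒜 (n : ℤ)), Epi p := by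
  let e := s.equivFin
  let g : Fin s.card → 𝒜 n := fun j =>
    ⟨(e.symm j).1 ^ n, by simpa using SetLike.pow_mem_graded n (hs1 _ (e.symm j).2)⟩
  refine ⟨s.card, Sigma.desc fun j => secHom _ (Twist.globalOf 𝒜 (g j)), epi_sigma_desc _ fun x => ?_⟩
  obtain ⟨f, hf, hfx⟩ : ∃ f ∈ s, f ∉ (x : ProjectiveSpectrum 𝒜).asHomogeneousIdeal := by
    by_contra hne
    push Not at hne
    exact (x : ProjectiveSpectrum 𝒜).not_irrelevant_le fun z hz => (Ideal.span_le.2 hne) (hs hz)
  refine ⟨e ⟨f, hf⟩, (surjective_stalk_secHom _ (W := Proj.basicOpen 𝒜 (f ^ n))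
    (fun hm => hfx ((x : ProjectiveSpectrum 𝒜).isPrime.mem_of_pow_mem n hm)) ?_).2⟩
  have hle : Proj.basicOpen 𝒜 (f ^ n) ≤ Proj.basicOpen 𝒜 (g (e ⟨f, hf⟩)).1 := by
    simp [g]
  exact ProjTwistLib.gen_frac (g (e ⟨f, hf⟩)) (⟨1, SetLike.GradedOne.one_mem⟩ : 𝒜 0) (n : ℤ) (by simp) (by simp) hle

end Groth.Agent.GrTildeLib
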