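import Groth.Agent.GrTildeLib.GammaIso
import Groth.Agent.GrTildeLib.Global
import Groth.Agent.QCohLib.FiniteType

/-!
# Finitely many families generate a quasi-coherent module of finite type
-/

set_option autoImplicit false
set_option linter.style.haveILetI false
set_option backward.isDefEq.respectTransparency false

universe u

open CategoryTheory CategoryTheory.Limits TopologicalSpace AlgebraicGeometry Opposite DirectSum
open Groth.Agent.PullbackMod Groth.Agent.ParaFLib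

noncomputable section

namespace Groth.Agent.GrTildeLib

variable {R A : Type u} [CommRing R] [CommRing A] [Algebra R A] {𝒜 : ℕ → Submodule R A} [GradedAlgebra 𝒜]
variable {ι : Type u} {g : ι → 𝒜 1} {F : (Proj 𝒜).Modules}

section GenSys

variable {κ : Type*} (deg : κ → ℕ) (w : κ → Fams g F) (hw : ∀ k, w k ∈ compatFam g F (deg k))

/-- The families generated by `w`. -/
def genSys : Sys g F where
  P n := AddSubgroup.closure {z | ∃ (k : κ) (e : ℕ) (a : 𝒜 e), e + deg k = n ∧ z = act a (w k)}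
  le n := by
    rw [AddSubgroup.closure_le]
    rintro _ ⟨k, e, a, rfl, rfl⟩
    exact act_mem_compatFam a (hw k)
  act_mem {e n} a z hz := by
    induction hz using AddSubgroup.closure_induction with
    | mem z hz =>
      obtain ⟨k, e', a', rfl, rfl⟩ := hz
      exact AddSubgroup.subset_closure ⟨k, e + e', ⟨a.1 * a'.1, SetLike.mul_mem_graded a.2 a'.2⟩, add_assoc _ _ _,
        (act_act a a' _ rfl rfl (w k)).symm⟩
    | zero => rw [act_zero]; exact zero_mem _
    | add z z' _ _ h h' => rw [act_add]; exact add_mem h h'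
    | neg z _ h =>
      have e' : act a (-z) = -act a z := funext fun i => smul_neg _ _
      rw [e']
      exact neg_mem h

theorem mem_genSys (k : κ) : w k ∈ (genSys deg w hw).P (deg k) :=
  AddSubgroup.subset_closure ⟨k, 0, ⟨1, SetLike.GradedOne.one_mem⟩, zero_add _, (act_one _ rfl rfl _).symm⟩

theorem finite_genSys [Finite κ] : Module.Finite A (genSys deg w hw).M := by
  classical
  let S := genSys deg w hw
  let v : κ → S.M := fun k => DirectSum.of (fun n => S.P n) (deg k) ⟨w k, mem_genSys deg w hw k⟩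
  refine ⟨⟨(Set.finite_range v).toFinset, eq_top_iff.2 fun m _ => ?_⟩⟩
  rw [Set.Finite.coe_toFinset]
  rename_i hm
  clear hm
  induction m using DirectSum.induction_on with
  | zero => exact zero_mem _
  | add m m' h h' => exact add_mem h h'
  | of n z =>
    obtain ⟨z, hz⟩ := z
    suffices h : ∃ hz' : z ∈ S.P n, DirectSum.of (fun n => S.P n) n ⟨z, hz'⟩ ∈ Submodule.span A (Set.range v) from h.2
    induction hz using AddSubgroup.closure_induction with
    | mem z hz =>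
      obtain ⟨k, e, a, rfl, rfl⟩ := hz
      refine ⟨S.act_mem a (mem_genSys deg w hw k), ?_⟩
      rw [← smul_of S a ⟨w k, mem_genSys deg w hw k⟩]
      exact Submodule.smul_mem _ _ (Submodule.subset_span ⟨k, rfl⟩)
    | zero => exact ⟨zero_mem _, (map_zero (DirectSum.of (fun n => S.P n) n)).symm ▸ zero_mem _⟩
    | add z z' _ _ h h' =>
      obtain ⟨h₁, h₂⟩ := h
      obtain ⟨h₁', h₂'⟩ := h'
      refine ⟨add_mem h₁ h₁', ?_⟩
      have := add_mem h₂ h₂'
      rw [← map_add] at this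
      exact this
    | neg z _ h =>
      obtain ⟨h₁, h₂⟩ := h
      refine ⟨neg_mem h₁, ?_⟩
      have := neg_mem h₂
      rw [← map_neg] at this
      exact this

end GenSys

/-- A finite set of sections over each chart generating all stalks. -/
theorem exists_finite_generators [Finite ι] [Coh.IsQCoh F] (hFT : CohB1.IsFT F)
    (hcov : ∀ x : Proj 𝒜, ∃ i, x ∈ Proj.basicOpen 𝒜 (g i).1) :
    ∃ (k : ℕ) (c : Fin k → ι) (z : ∀ j, Γ(F, Proj.basicOpen 𝒜 (g (c j)).1)),
      ∀ (x : Proj 𝒜) (y : F.presheaf.stalk x), y ∈ Submodule.span ((Proj 𝒜).presheaf.stalk x)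
        {v | ∃ (j : Fin k) (hj : x ∈ Proj.basicOpen 𝒜 (g (c j)).1), v = F.presheaf.germ _ x hj (z j)} := by
  classical
  cases nonempty_fintype ι
  have hfin : ∀ i, Module.Finite Γ(Proj 𝒜, Proj.basicOpen 𝒜 (g i).1) Γ(F, Proj.basicOpen 𝒜 (g i).1) :=
    fun i => QCohLib.finite_sections F hFT (isAffineOpen_chart (g i))
  choose T hT using fun i => (hfin i).fg_top
  let K := Σ i, (T i : Set Γ(F, Proj.basicOpen 𝒜 (g i).1))
  let e := Fintype.equivFin K
  refine ⟨Fintype.card K, fun j => (e.symm j).1, fun j => (e.symm j).2.1, fun x y => ?_⟩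
  obtain ⟨i, hi⟩ := hcov x
  obtain ⟨u, z, rfl⟩ := germ_mem_span hi y
  refine Submodule.smul_mem _ _ ?_
  have hz : z ∈ Submodule.span Γ(Proj 𝒜, Proj.basicOpen 𝒜 (g i).1) (T i : Set Γ(F, Proj.basicOpen 𝒜 (g i).1)) :=
    hT i ▸ Submodule.mem_top
  induction hz using Submodule.span_induction with
  | mem z hz =>
    obtain ⟨j, hj⟩ : ∃ j, e.symm j = ⟨i, ⟨z, hz⟩⟩ := ⟨e ⟨i, ⟨z, hz⟩⟩, e.symm_apply_apply _⟩
    have : ∀ (q : K) (hq : q = ⟨i, ⟨z, hz⟩⟩), ∃ hx : x ∈ Proj.basicOpen 𝒜 (g q.1).1,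
        F.presheaf.germ _ x hi z = F.presheaf.germ _ x hx q.2.1 := by
      rintro q rfl
      exact ⟨hi, rfl⟩
    obtain ⟨hx, h⟩ := this (e.symm j) hj
    exact Submodule.subset_span ⟨j, hx, h⟩
  | zero => rw [map_zero]; exact zero_mem _
  | add a b _ _ ha hb => rw [map_add]; exact add_mem ha hb
  | smul r a _ ha => rw [germ_smul']; exact Submodule.smul_mem _ _ ha

theorem exists_finite_module [Finite ι] [Coh.IsQCoh F] (hFT : CohB1.IsFT F)
    (hcov : ∀ x : Proj 𝒜, ∃ i, x ∈ Proj.basicOpen 𝒜 (g i).1) :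
    ∃ S : Sys g F, Spans S ∧ Module.Finite A S.M := by
  obtain ⟨k, c, z, hz⟩ := exists_finite_generators hFT hcov
  choose n₀ hn using fun j => exists_compat (c j) (z j)
  choose w hw hwc using fun j => hn j (n₀ j) le_rfl
  refine ⟨genSys n₀ w hw, fun x y => Submodule.span_mono ?_ (hz x y), finite_genSys n₀ w hw⟩
  rintro _ ⟨j, hj, rfl⟩
  exact ⟨c j, hj, n₀ j, ⟨w j, mem_genSys n₀ w hw j⟩, (congrArg (F.presheaf.germ _ x hj) (hwc j)).symm⟩

/-! ### Maps out of negative twists -/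

/-- The section `1 / g ^ n` of `O(-n)`. -/
def invPow (f : 𝒜 1) (n : ℕ) : Γ(Twist.twist 𝒜 (-(n : ℤ)), Proj.basicOpen 𝒜 f.1) :=
  ProjTwistLib.frac 𝒜 (⟨1, SetLike.GradedOne.one_mem⟩ : 𝒜 0) (gp f n) (-(n : ℤ)) (by simp) (le_gp le_rfl n)

theorem gen_invPow (f : 𝒜 1) (n : ℕ) : Gen (Proj.basicOpen 𝒜 f.1) (invPow f n) :=
  ProjTwistLib.gen_frac _ _ _ _ _ fun x _ => one_notMem x

theorem exists_hom_twist (hcov : ∀ x : Proj 𝒜, ∃ i, x ∈ Proj.basicOpen 𝒜 (g i).1) {n : ℕ} {z : Fams g F}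
    (hz : z ∈ compatFam g F n) :
    ∃ φ : Twist.twist 𝒜 (-(n : ℤ)) ⟶ F, ∀ i, φ.app _ (invPow (g i) n) = z i := by
  refine exists_hom_of_bases (U := fun i => Proj.basicOpen 𝒜 (g i).1) (s := fun i => invPow (g i) n) ?_
    (fun i => gen_invPow (g i) n) (fun i j => dh (g i) (gp (g j) n) inf_le_left) (fun i j => ?_)
    (fun i j => hz i j _ inf_le_left inf_le_right)
  · exact eq_top_iff.2 fun x _ => Opens.mem_iSup.2 (hcov x)
  · refine ProjTwist.sect_ext fun x => ?_
    rw [ProjTwist.valAt_smul]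
    show (Localization.mk (1 : A) _ : Twist.Loc 𝒜 x.1) = _ * Localization.mk (1 : A) _
    rw [dh, val_fracO, Localization.mk_mul, Localization.mk_eq_mk_iff, Localization.r_iff_exists]
    exact ⟨1, by simp [gp_coe]⟩

theorem exists_epi_negTwist [Finite ι] [Coh.IsQCoh F] (hFT : CohB1.IsFT F)
    (hcov : ∀ x : Proj 𝒜, ∃ i, x ∈ Proj.basicOpen 𝒜 (g i).1) :
    ∃ n₀ : ℕ, ∀ n : ℕ, n₀ ≤ n →
      ∃ (k : ℕ) (p : (∐ fun _ : Fin k => Twist.twist 𝒜 (-(n : ℤ))) ⟶ F), Epi p := by
  obtain ⟨k, c, z, hz⟩ := exists_finite_generators hFT hcov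
  choose m₀ hm using fun j => exists_compat (c j) (z j)
  refine ⟨Finset.univ.sup m₀, fun n hn => ?_⟩
  choose w hw hwc using fun j => hm j n ((Finset.le_sup (Finset.mem_univ j)).trans hn)
  choose φ hφ using fun j => exists_hom_twist hcov (hw j)
  refine ⟨k, Sigma.desc φ, ?_⟩
  rw [epi_iff_stalk]
  intro x y
  refine (Submodule.span_le.2 ?_ : _ ≤ LinearMap.range (stalkLin (Sigma.desc φ) x)) (hz x y)
  rintro _ ⟨j, hj, rfl⟩
  refine ⟨stalkLin (Sigma.ι (fun _ : Fin k => Twist.twist 𝒜 (-(n : ℤ))) j) x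
    ((Twist.twist 𝒜 (-(n : ℤ))).presheaf.germ _ x hj (invPow (g (c j)) n)), ?_⟩
  rw [← LinearMap.comp_apply, ← stalkLin_comp, Sigma.ι_desc, stalkLin_germ]
  exact congrArg (F.presheaf.germ _ x hj) ((hφ j (c j)).trans (hwc j))

end Groth.Agent.GrTildeLib
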