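import Groth.Agent.GrTildeLib.Basic

/-! The stalks of the sheaf of a graded module are modules of fractions. -/

set_option autoImplicit false
set_option linter.style.haveILetI false

universe u

open CategoryTheory TopologicalSpace AlgebraicGeometry Opposite

noncomputable section

namespace Groth.Agent.GrTildeLib

variable {R A : Type u} [CommRing R] [CommRing A] [Algebra R A] {𝒜 : ℕ → Submodule R A} [GradedAlgebra 𝒜]
variable {M : Type u} [AddCommGroup M] [Module R M] [Module A M]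
  {ℳ : ℕ → Submodule R M} [DirectSum.Decomposition ℳ] [SetLike.GradedSMul 𝒜 ℳ]

omit [DirectSum.Decomposition ℳ] in
theorem exists_rep {n : ℤ} {x : ProjectiveSpectrum 𝒜} {q : GrTilde.LocMod 𝒜 (M := M) x}
    (hq : q ∈ GrTilde.tildeAt 𝒜 ℳ n x) :
    ∃ (i j : ℕ) (m : ℳ i) (s : 𝒜 j) (hs : s.1 ∉ x.asHomogeneousIdeal),
      ((i : ℤ) = j + n ∨ m.1 = 0) ∧ q = LocalizedModule.mk m.1 ⟨s.1, hs⟩ := by
  induction hq using Submodule.span_induction with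
  | mem q hq =>
    obtain ⟨i, j, m, s, hs, he, rfl⟩ := hq
    exact ⟨i, j, m, s, hs, Or.inl he, rfl⟩
  | zero => exact ⟨0, 0, 0, ⟨1, SetLike.GradedOne.one_mem⟩, one_notMem x, Or.inr rfl, by simp⟩
  | add p q _ _ hp hq =>
    obtain ⟨i, j, a, s, hs, ha, rfl⟩ := hp
    obtain ⟨i', j', b, t, ht, hb, rfl⟩ := hq
    have nin : s.1 * t.1 ∉ x.asHomogeneousIdeal := fun h => (x.isPrime.mem_or_mem h).elim hs ht
    rcases ha with ha | ha
    · rcases hb with hb | hb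
      · refine ⟨j' + i, j + j', ⟨t.1 • a.1 + s.1 • b.1, add_mem (SetLike.GradedSMul.smul_mem t.2 a.2) ?_⟩,
          ⟨s.1 * t.1, SetLike.mul_mem_graded s.2 t.2⟩, nin, Or.inl (by push_cast; omega),
          LocalizedModule.mk_add_mk⟩
        have : j + i' = j' + i := by omega
        exact this ▸ SetLike.GradedSMul.smul_mem s.2 b.2
      · exact ⟨i, j, a, s, hs, Or.inl ha, by simp [hb]⟩
    · exact ⟨i', j', b, t, ht, hb, by simp [ha]⟩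
  | smul c q _ hq =>
    obtain ⟨i, j, a, s, hs, ha, rfl⟩ := hq
    obtain ⟨⟨k, r, t, ht⟩, rfl⟩ := HomogeneousLocalization.mk_surjective c
    refine ⟨k + i, k + j, ⟨r.1 • a.1, SetLike.GradedSMul.smul_mem r.2 a.2⟩,
      ⟨t.1 * s.1, SetLike.mul_mem_graded t.2 s.2⟩, fun h => (x.isPrime.mem_or_mem h).elim ht hs, ?_, ?_⟩
    · rcases ha with ha | ha
      · exact Or.inl (by push_cast; omega)
      · exact Or.inr (show r.1 • a.1 = 0 by rw [ha, smul_zero])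
    · rw [GrTilde.a0_smul_def, HomogeneousLocalization.val_mk, LocalizedModule.mk_smul_mk]
      rfl

omit [DirectSum.Decomposition ℳ] [SetLike.GradedSMul 𝒜 ℳ] in
/-- Near a point, equal fractions are equal. -/
theorem exists_nhd_eq {x : ProjectiveSpectrum 𝒜} {i i' j j' : ℕ} {m : ℳ i} {m' : ℳ i'}
    {s : 𝒜 j} {s' : 𝒜 j'}
    (hs : s.1 ∉ x.asHomogeneousIdeal) (hs' : s'.1 ∉ x.asHomogeneousIdeal)
    (h : (LocalizedModule.mk m.1 ⟨s.1, hs⟩ : GrTilde.LocMod 𝒜 (M := M) x) = LocalizedModule.mk m'.1 ⟨s'.1, hs'⟩) :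
    ∃ c : A, c ∉ x.asHomogeneousIdeal ∧ ∀ (y : ProjectiveSpectrum 𝒜) (hy : s.1 ∉ y.asHomogeneousIdeal)
      (hy' : s'.1 ∉ y.asHomogeneousIdeal), c ∉ y.asHomogeneousIdeal →
      (LocalizedModule.mk m.1 ⟨s.1, hy⟩ : GrTilde.LocMod 𝒜 (M := M) y) = LocalizedModule.mk m'.1 ⟨s'.1, hy'⟩ := by
  obtain ⟨⟨c, hc⟩, hcm⟩ := LocalizedModule.mk_eq.1 h
  exact ⟨c, hc, fun y hy hy' hcy => LocalizedModule.mk_eq.2 ⟨⟨c, hcy⟩, hcm⟩⟩

theorem stalkToFiber_bijective (n : ℤ) (p : ProjectiveSpectrum 𝒜) :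
    Function.Bijective (TopCat.stalkToFiber (GrTilde.isLocFrac 𝒜 ℳ n) p) := by
  refine ⟨TopCat.stalkToFiber_injective _ _ ?_, TopCat.stalkToFiber_surjective _ _ ?_⟩
  · intro U V fU hU fV hV he
    obtain ⟨V₁, hV₁, i₁, a, b, m, s, nin, hc, hw⟩ := hU ⟨p, U.2⟩
    obtain ⟨V₂, hV₂, i₂, a', b', m', s', nin', hc', hw'⟩ := hV ⟨p, V.2⟩
    have h : (LocalizedModule.mk m.1 ⟨s.1, nin ⟨p, hV₁⟩⟩ : GrTilde.LocMod 𝒜 (M := M) p) =
        LocalizedModule.mk m'.1 ⟨s'.1, nin' ⟨p, hV₂⟩⟩ :=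
      ((hw ⟨p, hV₁⟩).symm.trans (congrArg Subtype.val he)).trans (hw' ⟨p, hV₂⟩)
    obtain ⟨c, hcp, hc₂⟩ := exists_nhd_eq _ _ h
    refine ⟨⟨V₁ ⊓ V₂ ⊓ Proj.basicOpen 𝒜 c, ⟨hV₁, hV₂⟩, hcp⟩,
      homOfLE (inf_le_left.trans (inf_le_left.trans i₁.le)), homOfLE (inf_le_left.trans (inf_le_right.trans i₂.le)),
      fun w => ?_⟩
    exact Subtype.ext (((hw ⟨w.1, w.2.1.1⟩).trans (hc₂ w.1 (nin ⟨w.1, w.2.1.1⟩) (nin' ⟨w.1, w.2.1.2⟩) w.2.2)).trans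
      (hw' ⟨w.1, w.2.1.2⟩).symm)
  · rintro ⟨q, hq⟩
    obtain ⟨i, j, m, s, hs, he, rfl⟩ := exists_rep hq
    rcases he with he | he
    · exact ⟨⟨Proj.basicOpen 𝒜 s.1, hs⟩,
        fun y => ⟨LocalizedModule.mk m.1 ⟨s.1, y.2⟩, Submodule.subset_span ⟨i, j, m, s, y.2, he, rfl⟩⟩,
        fun y => ⟨Proj.basicOpen 𝒜 s.1, y.2, 𝟙 _, i, j, m, s, fun z => z.2, Or.inl he, fun z => rfl⟩, rfl⟩
    · exact ⟨⟨Proj.basicOpen 𝒜 s.1, hs⟩, fun y => 0,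
        GrTilde.zero_mem' n (op (Proj.basicOpen 𝒜 s.1)), Subtype.ext (by simp [he])⟩

end Groth.Agent.GrTildeLib
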