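import Groth.Agent.GrTildeLib.Families
import Groth.Agent.GrTildeLib.Stalk
import Groth.Agent.PullbackMod.Hom
import Groth.Agent.ParaFLib.Stalk

/-!
# The map from the sheaf of a graded module of compatible families
-/

set_option autoImplicit false
set_option linter.style.haveILetI false
set_option backward.isDefEq.respectTransparency false

universe u

open CategoryTheory TopologicalSpace AlgebraicGeometry Opposite DirectSum
open Groth.Agent.PullbackMod Groth.Agent.ParaFLib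

noncomputable section

namespace Groth.Agent.GrTildeLib

variable {R A : Type u} [CommRing R] [CommRing A] [Algebra R A] {𝒜 : ℕ → Submodule R A} [GradedAlgebra 𝒜]
variable {ι : Type u} {g : ι → 𝒜 1} {F : (Proj 𝒜).Modules}

/-- The germ of a family at `x`, in the chart `i`. -/
abbrev famGerm (z : Fams g F) {i : ι} {x : Proj 𝒜} (hi : x ∈ Proj.basicOpen 𝒜 (g i).1) : F.presheaf.stalk x :=
  F.presheaf.germ _ x hi (z i)

/-- The germ of `a / g i ^ e`. -/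
abbrev dhGerm (g : ι → 𝒜 1) {e : ℕ} (a : 𝒜 e) {i : ι} {x : Proj 𝒜} (hi : x ∈ Proj.basicOpen 𝒜 (g i).1) :
    (Proj 𝒜).presheaf.stalk x :=
  (Proj 𝒜).presheaf.germ _ x hi (dh (g i) a le_rfl)

theorem famGerm_act {e : ℕ} (a : 𝒜 e) (z : Fams g F) {i : ι} {x : Proj 𝒜} (hi : x ∈ Proj.basicOpen 𝒜 (g i).1) :
    famGerm (act a z) hi = dhGerm g a hi • famGerm z hi := germ_smul' x hi _ _

theorem dhGerm_mul {e e' k : ℕ} (a : 𝒜 e) (a' : 𝒜 e') (b : 𝒜 k) (he : e + e' = k) (hb : b.1 = a.1 * a'.1)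
    {i : ι} {x : Proj 𝒜} (hi : x ∈ Proj.basicOpen 𝒜 (g i).1) :
    dhGerm g a hi * dhGerm g a' hi = dhGerm g b hi := by
  rw [dhGerm, dhGerm, ← map_mul, dh_mul a a' b he hb]

theorem dhGerm_change {e : ℕ} (a : 𝒜 e) {i j : ι} {x : Proj 𝒜} (hi : x ∈ Proj.basicOpen 𝒜 (g i).1)
    (hj : x ∈ Proj.basicOpen 𝒜 (g j).1) :
    dhGerm g a hi = dhGerm g (gp (g j) e) hi * dhGerm g a hj := by
  have h := congrArg ((Proj 𝒜).presheaf.germ _ x (⟨hi, hj⟩ : x ∈ Proj.basicOpen 𝒜 (g i).1 ⊓ Proj.basicOpen 𝒜 (g j).1))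
    (dh_change a (V := Proj.basicOpen 𝒜 (g i).1 ⊓ Proj.basicOpen 𝒜 (g j).1) inf_le_left inf_le_right)
  rw [map_mul, ← dh_res a le_rfl inf_le_left, ← dh_res (gp (g j) e) le_rfl inf_le_left,
    ← dh_res a le_rfl inf_le_right] at h
  simp only [TopCat.Presheaf.germ_res_apply] at h
  exact h

theorem famGerm_change {n : ℕ} {z : Fams g F} (hz : z ∈ compatFam g F n) {i j : ι} {x : Proj 𝒜}
    (hi : x ∈ Proj.basicOpen 𝒜 (g i).1) (hj : x ∈ Proj.basicOpen 𝒜 (g j).1) :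
    famGerm z hi = dhGerm g (gp (g j) n) hi • famGerm z hj := by
  have h := congrArg (F.presheaf.germ _ x (⟨hi, hj⟩ : x ∈ Proj.basicOpen 𝒜 (g i).1 ⊓ Proj.basicOpen 𝒜 (g j).1))
    (hz i j _ inf_le_left inf_le_right)
  rw [germ_smul', ← dh_res (gp (g j) n) le_rfl inf_le_left] at h
  simp only [TopCat.Presheaf.germ_res_apply] at h
  exact h

theorem isUnit_dhGerm {e : ℕ} (a : 𝒜 e) {i : ι} {x : Proj 𝒜} (hi : x ∈ Proj.basicOpen 𝒜 (g i).1)
    (ha : a.1 ∉ (x : ProjectiveSpectrum 𝒜).asHomogeneousIdeal) : IsUnit (dhGerm g a hi) :=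
  isUnit_germ_dh a le_rfl hi ha

theorem dhGerm_gp_mem {j : ι} (e : ℕ) {x : Proj 𝒜} (hj : x ∈ Proj.basicOpen 𝒜 (g j).1) :
    (gp (g j) e).1 ∉ (x : ProjectiveSpectrum 𝒜).asHomogeneousIdeal := le_gp le_rfl e hj

variable (S : Sys g F)

/-- `y` is the value of the fraction `q`. -/
def Rel {x : Proj 𝒜} (q : GrTilde.LocMod 𝒜 (M := S.M) x) (y : F.presheaf.stalk x) : Prop :=
  ∃ (n : ℕ) (z : S.P n) (t : 𝒜 n) (ht : t.1 ∉ (x : ProjectiveSpectrum 𝒜).asHomogeneousIdeal),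
    q = LocalizedModule.mk (homog S z).1 ⟨t.1, ht⟩ ∧
      ∀ (i : ι) (hi : x ∈ Proj.basicOpen 𝒜 (g i).1), dhGerm g t hi • y = famGerm z.1 hi

theorem rel_all_of_one {n : ℕ} (z : S.P n) (t : 𝒜 n) {x : Proj 𝒜} (y : F.presheaf.stalk x) {i : ι}
    (hi : x ∈ Proj.basicOpen 𝒜 (g i).1) (h : dhGerm g t hi • y = famGerm z.1 hi) (j : ι)
    (hj : x ∈ Proj.basicOpen 𝒜 (g j).1) : dhGerm g t hj • y = famGerm z.1 hj := by
  refine (isUnit_dhGerm (gp (g j) n) hi (dhGerm_gp_mem n hj)).smul_left_cancel.1 ?_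
  rw [smul_smul, ← dhGerm_change t hi hj, h, famGerm_change (S.le n z.2) hi hj]

theorem Rel.add {x : Proj 𝒜} {q q' : GrTilde.LocMod 𝒜 (M := S.M) x} {y y' : F.presheaf.stalk x}
    (h : Rel S q y) (h' : Rel S q' y') : Rel S (q + q') (y + y') := by
  obtain ⟨n, z, t, ht, rfl, hy⟩ := h
  obtain ⟨n', z', t', ht', rfl, hy'⟩ := h'
  refine ⟨n' + n, ⟨act t' z.1 + act t z'.1, add_mem (S.act_mem t' z.2) (add_comm n n' ▸ S.act_mem t z'.2)⟩,
    ⟨t'.1 * t.1, SetLike.mul_mem_graded t'.2 t.2⟩,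
    fun hm => ((x : ProjectiveSpectrum 𝒜).isPrime.mem_or_mem hm).elim ht' ht, ?_, fun i hi => ?_⟩
  · rw [LocalizedModule.mk_add_mk]
    congr 1
    · show t'.1 • (homog S z).1 + t.1 • (homog S z').1 = _
      simp only [homog]
      rw [smul_of, smul_of, of_eq S (add_comm n n') (z' := (⟨act t z'.1, add_comm n n' ▸ S.act_mem t z'.2⟩ : S.P (n' + n))) rfl,
        ← map_add]
      rfl
    · exact Subtype.ext (mul_comm _ _)
  · rw [show famGerm (act t' z.1 + act t z'.1) hi = famGerm (act t' z.1) hi + famGerm (act t z'.1) hi from map_add _ _ _,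
      famGerm_act, famGerm_act, ← hy i hi, ← hy' i hi, smul_smul, smul_smul, smul_add,
      dhGerm_mul t' t (⟨t'.1 * t.1, SetLike.mul_mem_graded t'.2 t.2⟩ : 𝒜 (n' + n)) rfl rfl hi, dhGerm_mul t t' (⟨t'.1 * t.1, SetLike.mul_mem_graded t'.2 t.2⟩ : 𝒜 (n' + n))
        (add_comm n n') (mul_comm _ _) hi]

variable (hcov : ∀ x : Proj 𝒜, ∃ i, x ∈ Proj.basicOpen 𝒜 (g i).1)

include hcov in
theorem Rel.unique {x : Proj 𝒜} {q : GrTilde.LocMod 𝒜 (M := S.M) x} {y y' : F.presheaf.stalk x}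
    (h : Rel S q y) (h' : Rel S q y') : y = y' := by
  obtain ⟨i, hi⟩ := hcov x
  obtain ⟨n, z, t, ht, rfl, hy⟩ := h
  obtain ⟨n', z', t', ht', he, hy'⟩ := h'
  obtain ⟨e, c, hc, hce⟩ := exists_homogeneous_of_mk_eq (𝒜 := 𝒜) (ℳ := grade S) (m := homog S z) (m' := homog S z')
    (s := t) (s' := t') (add_comm n' n) ht ht' he
  rw [smul_sub, sub_eq_zero] at hce
  simp only [homog, smul_of] at hce
  have h1 := val_eq_of_of_eq S (by omega) hce
  have h2 : famGerm (act c (act t' z.1)) hi = famGerm (act c (act t z'.1)) hi := congrArg (famGerm · hi) h1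
  rw [famGerm_act, famGerm_act, famGerm_act, famGerm_act, ← hy i hi, ← hy' i hi, smul_smul, smul_smul, smul_smul,
    smul_smul] at h2
  refine (((isUnit_dhGerm c hi hc).mul (isUnit_dhGerm t' hi ht')).mul (isUnit_dhGerm t hi ht)).smul_left_cancel.1 ?_
  convert h2 using 2; ring

/-- The value on a fraction given by one formula near `x`. -/
theorem rel_frac {n : ℕ} (z : S.P n) (t : 𝒜 n) (i : ι) {V : (Proj 𝒜).Opens}
    (hV : V ≤ Proj.basicOpen 𝒜 t.1) (hi : V ≤ Proj.basicOpen 𝒜 (g i).1) {x : Proj 𝒜} (hx : x ∈ V) :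
    Rel S (x := x) (LocalizedModule.mk (homog S z).1 ⟨t.1, hV hx⟩)
      (F.presheaf.germ V x hx (fracO (gp (g i) n) t hV • F.presheaf.map (homOfLE hi).op (z.1 i))) := by
  refine ⟨n, z, t, hV hx, rfl, rel_all_of_one S z t _ (hi hx) ?_⟩
  rw [germ_smul', smul_smul, TopCat.Presheaf.germ_res_apply, dhGerm]
  rw [← TopCat.Presheaf.germ_res_apply (Proj 𝒜).presheaf (homOfLE hi) x hx (dh (g i) t le_rfl), ← map_mul,
    dh_res, dh, fracO_mul, fracO_self _ _ _ (mul_comm _ _), map_one, one_smul]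

theorem rel_zero (x : Proj 𝒜) : Rel S (x := x) 0 0 :=
  ⟨0, 0, ⟨1, SetLike.GradedOne.one_mem⟩, one_notMem (x : ProjectiveSpectrum 𝒜), by simp [homog],
    fun i hi => by rw [smul_zero]; exact (map_zero _).symm⟩

include hcov in
theorem exists_rel {x : Proj 𝒜} {q : GrTilde.LocMod 𝒜 (M := S.M) x} (hq : q ∈ GrTilde.tildeAt 𝒜 (grade S) 0 x) :
    ∃ y, Rel S q y := by
  obtain ⟨i, j, m, s, hs, hm, rfl⟩ := exists_rep hq
  rcases hm with hm | hm
  · obtain rfl : i = j := by omega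
    obtain ⟨_, z, rfl⟩ := m
    obtain ⟨k, hk⟩ := hcov x
    exact ⟨_, rel_frac S z s k (V := Proj.basicOpen 𝒜 s.1 ⊓ Proj.basicOpen 𝒜 (g k).1) inf_le_left inf_le_right
      ⟨hs, hk⟩⟩
  · exact ⟨0, by rw [hm, LocalizedModule.zero_mk]; exact rel_zero S x⟩

/-- The value of a fraction. -/
def psi (x : Proj 𝒜) (q : GrTilde.tildeAt 𝒜 (grade S) 0 x) : F.presheaf.stalk x :=
  (exists_rel S hcov q.2).choose

theorem psi_eq {x : Proj 𝒜} {q : GrTilde.tildeAt 𝒜 (grade S) 0 x} {y : F.presheaf.stalk x}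
    (h : Rel S q.1 y) : psi S hcov x q = y := Rel.unique S hcov (exists_rel S hcov q.2).choose_spec h

theorem rel_psi {x : Proj 𝒜} (q : GrTilde.tildeAt 𝒜 (grade S) 0 x) : Rel S q.1 (psi S hcov x q) :=
  (exists_rel S hcov q.2).choose_spec

theorem rel_fracO_smul {k : ℕ} (r u : 𝒜 k) {V : (Proj 𝒜).Opens} (hV : V ≤ Proj.basicOpen 𝒜 u.1) {x : Proj 𝒜}
    (hx : x ∈ V) {q : GrTilde.LocMod 𝒜 (M := S.M) x} {y : F.presheaf.stalk x} (h : Rel S q y) :
    Rel S ((Localization.mk r.1 ⟨u.1, hV hx⟩ : Twist.Loc 𝒜 x) • q)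
      ((Proj 𝒜).presheaf.germ V x hx (fracO r u hV) • y) := by
  obtain ⟨n, z, t, ht, rfl, hy⟩ := h
  refine ⟨k + n, ⟨act r z.1, S.act_mem r z.2⟩, ⟨u.1 * t.1, SetLike.mul_mem_graded u.2 t.2⟩,
    fun hm => ((x : ProjectiveSpectrum 𝒜).isPrime.mem_or_mem hm).elim (hV hx) ht, ?_, fun i hi => ?_⟩
  · rw [LocalizedModule.mk_smul_mk]
    congr 1
    simp only [homog]
    exact smul_of S r z
  · show dhGerm g _ hi • _ = famGerm (act r z.1) hi
    rw [famGerm_act, ← hy i hi, smul_smul, smul_smul, ← dhGerm_mul u t _ rfl rfl hi, mul_right_comm]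
    congr 2
    have hxV : x ∈ V ⊓ Proj.basicOpen 𝒜 (g i).1 := ⟨hx, hi⟩
    rw [dhGerm, dhGerm, ← TopCat.Presheaf.germ_res_apply (Proj 𝒜).presheaf (homOfLE inf_le_right) x hxV,
      ← TopCat.Presheaf.germ_res_apply (Proj 𝒜).presheaf (homOfLE inf_le_left) x hxV,
      ← TopCat.Presheaf.germ_res_apply (Proj 𝒜).presheaf (homOfLE inf_le_right) x hxV (dh (g i) r le_rfl),
      ← map_mul, dh_res, dh_res, fracO_res, dh, dh, fracO_mul]
    exact congrArg _ (fracO_eq _ _ _ _ _ _ (by simp only [gp_coe]; ring))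

theorem exists_unique_section (V : (Proj 𝒜).Opens) (σ : Γ(GrTilde.tilde 𝒜 (grade S) 0, V)) :
    ∃! w : Γ(F, V), ∀ (x : Proj 𝒜) (hx : x ∈ V),
      F.presheaf.germ V x hx w = psi S hcov x ((σ : GrTilde.sect 𝒜 (grade S) 0 (op V)).1 ⟨x, hx⟩) := by
  let Fs : TopCat.Sheaf Ab.{u} (Proj 𝒜) := ⟨F.presheaf, F.isSheaf⟩
  have loc : ∀ x : V, ∃ (W : (Proj 𝒜).Opens) (hW : W ≤ V) (w : Γ(F, W)), x.1 ∈ W ∧ ∀ (y : Proj 𝒜) (hy : y ∈ W),
      F.presheaf.germ W y hy w = psi S hcov y ((σ : GrTilde.sect 𝒜 (grade S) 0 (op V)).1 ⟨y, hW hy⟩) := by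
    intro x
    obtain ⟨W, hxW, iW, i, j, m, s, nin, hm, hval⟩ := (σ : GrTilde.sect 𝒜 (grade S) 0 (op V)).2 x
    rcases hm with hm | hm
    · obtain rfl : i = j := by omega
      obtain ⟨_, z, rfl⟩ := m
      obtain ⟨k, hk⟩ := hcov x.1
      refine ⟨W ⊓ Proj.basicOpen 𝒜 (g k).1, inf_le_left.trans iW.le,
        fracO (gp (g k) i) s (show W ⊓ Proj.basicOpen 𝒜 (g k).1 ≤ Proj.basicOpen 𝒜 s.1 from fun y hy => nin ⟨y, hy.1⟩) • F.presheaf.map (homOfLE inf_le_right).op (z.1 k),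
        ⟨hxW, hk⟩, fun y hy => (psi_eq S hcov ?_).symm⟩
      rw [show ((σ : GrTilde.sect 𝒜 (grade S) 0 (op V)).1 ⟨y, iW.le hy.1⟩).1 = _ from hval ⟨y, hy.1⟩]
      exact rel_frac S z s k (show W ⊓ Proj.basicOpen 𝒜 (g k).1 ≤ Proj.basicOpen 𝒜 s.1 from fun w hw => nin ⟨w, hw.1⟩) inf_le_right hy
    · refine ⟨W, iW.le, 0, hxW, fun y hy => (psi_eq S hcov ?_).symm⟩
      rw [map_zero, show ((σ : GrTilde.sect 𝒜 (grade S) 0 (op V)).1 ⟨y, iW.le hy⟩).1 = _ from hval ⟨y, hy⟩, hm,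
        LocalizedModule.zero_mk]
      exact rel_zero S y
  choose W hW w hxW hw using loc
  have hc : TopCat.Presheaf.IsCompatible Fs.presheaf W w := fun a b =>
    TopCat.Presheaf.section_ext Fs _ _ _ fun y hy => by
      show F.presheaf.germ _ y hy (F.presheaf.map _ _) = F.presheaf.germ _ y hy (F.presheaf.map _ _)
      rw [TopCat.Presheaf.germ_res_apply, TopCat.Presheaf.germ_res_apply, hw, hw]
  obtain ⟨v, hv, huniq⟩ := Fs.existsUnique_gluing' W V (fun a => homOfLE (hW a))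
    (fun y hy => Opens.mem_iSup.2 ⟨⟨y, hy⟩, hxW _⟩) w hc
  refine ⟨v, fun x hx => ?_, fun v' hv' => huniq v' fun a => TopCat.Presheaf.section_ext Fs _ _ _ fun y hy => ?_⟩
  · rw [← hw ⟨x, hx⟩ x (hxW _), ← hv ⟨x, hx⟩]
    exact (TopCat.Presheaf.germ_res_apply F.presheaf _ x (hxW _) v).symm
  · show F.presheaf.germ _ y hy (F.presheaf.map _ v') = F.presheaf.germ _ y hy (w a)
    rw [TopCat.Presheaf.germ_res_apply, hw, hv']

/-- The section with prescribed germs. -/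
def toF (V : (Proj 𝒜).Opens) (σ : Γ(GrTilde.tilde 𝒜 (grade S) 0, V)) : Γ(F, V) :=
  (exists_unique_section S hcov V σ).choose

theorem germ_toF (V : (Proj 𝒜).Opens) (σ : Γ(GrTilde.tilde 𝒜 (grade S) 0, V)) {x : Proj 𝒜} (hx : x ∈ V) :
    F.presheaf.germ V x hx (toF S hcov V σ) = psi S hcov x ((σ : GrTilde.sect 𝒜 (grade S) 0 (op V)).1 ⟨x, hx⟩) :=
  (exists_unique_section S hcov V σ).choose_spec.1 x hx

theorem psi_smul {V : (Proj 𝒜).Opens} (c : Γ(Proj 𝒜, V)) (σ : Γ(GrTilde.tilde 𝒜 (grade S) 0, V)) {x : Proj 𝒜}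
    (hx : x ∈ V) : psi S hcov x (((c • σ : Γ(GrTilde.tilde 𝒜 (grade S) 0, V)) : GrTilde.sect 𝒜 (grade S) 0 (op V)).1 ⟨x, hx⟩) =
      (Proj 𝒜).presheaf.germ V x hx c • psi S hcov x ((σ : GrTilde.sect 𝒜 (grade S) 0 (op V)).1 ⟨x, hx⟩) := by
  obtain ⟨W, hxW, iW, k, r, u, nin, hc⟩ := (c : Twist.O (𝒜 := 𝒜) (op V)).2 ⟨x, hx⟩
  have e : (Proj 𝒜).presheaf.map (homOfLE iW.le).op c = fracO r u (fun y hy => nin ⟨y, hy⟩) :=
    Subtype.ext (funext fun y => hc y)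
  refine psi_eq S hcov ?_
  rw [← TopCat.Presheaf.germ_res_apply (Proj 𝒜).presheaf (homOfLE iW.le) x hxW c, e]
  convert rel_fracO_smul S r u (fun y hy => nin ⟨y, hy⟩) hxW (rel_psi S hcov _) using 1
  refine (valAt_smul c σ ⟨x, hx⟩).trans ?_
  congr 1
  show ((c : Twist.O (𝒜 := 𝒜) (op V)).1 ⟨x, hx⟩).val = _
  rw [show (c : Twist.O (𝒜 := 𝒜) (op V)).1 ⟨x, hx⟩ = _ from hc ⟨x, hxW⟩, HomogeneousLocalization.val_mk]

/-- The canonical map `M~ ⟶ F`. -/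
def gammaHom : GrTilde.tilde 𝒜 (grade S) 0 ⟶ F :=
  ⟨PresheafOfModules.homMk
    { app := fun V => AddCommGrpCat.ofHom (AddMonoidHom.mk' (toF S hcov V.unop) fun a b =>
        TopCat.Presheaf.section_ext (⟨F.presheaf, F.isSheaf⟩ : TopCat.Sheaf Ab.{u} (Proj 𝒜)) _ _ _ fun x hx => by
          show F.presheaf.germ _ x hx _ = F.presheaf.germ _ x hx (_ + _)
          rw [map_add, germ_toF, germ_toF, germ_toF]
          exact psi_eq S hcov (Rel.add S (rel_psi S hcov _) (rel_psi S hcov _)))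
      naturality := fun {V W} f => by
        refine AddCommGrpCat.hom_ext (AddMonoidHom.ext fun σ => ?_)
        refine TopCat.Presheaf.section_ext (⟨F.presheaf, F.isSheaf⟩ : TopCat.Sheaf Ab.{u} (Proj 𝒜)) _ _ _ fun x hx => ?_
        show F.presheaf.germ _ x hx (toF S hcov W.unop _) = F.presheaf.germ _ x hx (F.presheaf.map f _)
        rw [germ_toF]
        refine Eq.trans ?_ (TopCat.Presheaf.germ_res_apply F.presheaf f.unop x hx (toF S hcov V.unop σ)).symm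
        exact (germ_toF S hcov V.unop σ (f.unop.le hx)).symm }
    fun V c σ => TopCat.Presheaf.section_ext (⟨F.presheaf, F.isSheaf⟩ : TopCat.Sheaf Ab.{u} (Proj 𝒜)) _ _ _ fun x hx => by
      show F.presheaf.germ _ x hx (toF S hcov V.unop (c • σ)) =
        F.presheaf.germ _ x hx ((show Γ(Proj 𝒜, V.unop) from c) • toF S hcov V.unop σ)
      rw [germ_smul', germ_toF, germ_toF]
      exact psi_smul S hcov (show Γ(Proj 𝒜, V.unop) from c) σ hx⟩

theorem gammaHom_germ {V : (Proj 𝒜).Opens} (σ : Γ(GrTilde.tilde 𝒜 (grade S) 0, V)) {x : Proj 𝒜} (hx : x ∈ V) :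
    stalkLin (gammaHom S hcov) x ((GrTilde.tilde 𝒜 (grade S) 0).presheaf.germ V x hx σ) =
      psi S hcov x ((σ : GrTilde.sect 𝒜 (grade S) 0 (op V)).1 ⟨x, hx⟩) := by
  rw [stalkLin_germ]
  exact germ_toF S hcov V σ hx

end Groth.Agent.GrTildeLib
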