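import Groth.Agent.GrTildeLib.GammaFin
import Groth.Agent.ProjTwistLib.Mul

/-! High twists of a quasi-coherent module of finite type are quotients of free modules. -/

set_option autoImplicit false
set_option linter.style.haveILetI false
set_option backward.isDefEq.respectTransparency false

universe u

open CategoryTheory CategoryTheory.Limits TopologicalSpace AlgebraicGeometry Opposite
open Groth.Agent.PullbackMod Groth.Agent.DCohLib Groth.Agent.ParaFLib Groth.Agent.AmpleLib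
open scoped TensorProduct

noncomputable section

namespace Groth.Agent.GrTildeLib

variable {R A : Type u} [CommRing R] [CommRing A] [Algebra R A] {𝒜 : ℕ → Submodule R A} [GradedAlgebra 𝒜]
variable {ι : Type u} {g : ι → 𝒜 1} {F : (Proj 𝒜).Modules}

theorem exists_stalk_preimage {X : Scheme.{u}} {N M M' : X.Modules} (T : X.Modules) (φ : M ⟶ M')
    (e : N ≅ CohB1.tensorMod M T) (x : X) (a : M.presheaf.stalk x) (b : T.presheaf.stalk x) :
    ∃ r, stalkLin (e.hom ≫ ProjTwistLib.stepHom φ (𝟙 (tmod M' T))) x r =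
      stalkTensor x M' T (stalkLin φ x a ⊗ₜ b) := by
  obtain ⟨r, hr⟩ := (ProjTwistLib.bijective_stalkLin_of_isIso e.hom x).2 (stalkTensor x M T (a ⊗ₜ b))
  refine ⟨r, ?_⟩
  rw [stalkLin_comp, LinearMap.comp_apply, hr, ProjTwistLib.stepHom, Category.comp_id]
  exact stalkTensor_natural_left x φ (a ⊗ₜ b)

theorem exists_epi_twistBy [Finite ι] [Coh.IsQCoh F] (hFT : CohB1.IsFT F)
    (hcov : ∀ x : Proj 𝒜, ∃ i, x ∈ Proj.basicOpen 𝒜 (g i).1) :
    ∃ n₀ : ℕ, ∀ n : ℕ, n₀ ≤ n →
      ∃ (k : ℕ) (p : FlatMod.freeMod (Proj 𝒜) k ⟶ Twist.twistBy 𝒜 F (n : ℤ)), Epi p := by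
  obtain ⟨k, c, z, hz⟩ := exists_finite_generators hFT hcov
  choose m₀ hm using fun j => exists_compat (c j) (z j)
  refine ⟨Finset.univ.sup m₀, fun n hn => ?_⟩
  choose w hw hwc using fun j => hm j n ((Finset.le_sup (Finset.mem_univ j)).trans hn)
  choose φ hφ using fun j => exists_hom_twist hcov (hw j)
  have hu : ∀ x : Proj 𝒜, ProjTwistLib.HasUnit 𝒜 (-(n : ℤ)) x := fun x => by
    obtain ⟨i, hi⟩ := hcov x
    simpa using (ProjTwistLib.hasUnit_of_mem (g i) hi).zmul (-(n : ℤ))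
  obtain ⟨e₀⟩ := ProjTwistLib.nonempty_zero_iso (𝒜 := 𝒜)
  let e : CohB1.tensorMod (Twist.twist 𝒜 (-(n : ℤ))) (Twist.twist 𝒜 (n : ℤ)) ≅ Coh.structureModule (Proj 𝒜) :=
    ProjTwistLib.mulIso (neg_add_cancel (n : ℤ)) hu ≪≫ e₀
  let q : ∀ j : Fin k, Coh.structureModule (Proj 𝒜) ⟶ Twist.twistBy 𝒜 F (n : ℤ) := fun j =>
    e.inv ≫ ProjTwistLib.stepHom (φ j) (𝟙 (tmod F (Twist.twist 𝒜 (n : ℤ))))
  refine ⟨k, Sigma.desc q, ?_⟩
  rw [epi_iff_stalk]
  intro x y
  let Rg := LinearMap.range (stalkLin (Sigma.desc q) x)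
  change y ∈ Rg
  obtain ⟨t, rfl⟩ := (stalkTensor x F (Twist.twist 𝒜 (n : ℤ))).surjective y
  induction t using TensorProduct.induction_on with
  | zero => rw [map_zero]; exact zero_mem _
  | add a b ha hb => rw [map_add]; exact add_mem ha hb
  | tmul a b =>
    have ha := hz x a
    induction ha using Submodule.span_induction with
    | mem v hv =>
      obtain ⟨j, hj, rfl⟩ := hv
      let c₀ := (Twist.twist 𝒜 (-(n : ℤ))).presheaf.germ _ x hj (invPow (g (c j)) n)
      have hc₀ : stalkLin (φ j) x c₀ = F.presheaf.germ _ x hj (z j) := by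
        rw [stalkLin_germ]
        exact congrArg (F.presheaf.germ _ x hj) ((hφ j (c j)).trans (hwc j))
      obtain ⟨r, hr⟩ := exists_stalk_preimage (Twist.twist 𝒜 (n : ℤ)) (φ j) e.symm x c₀ b
      refine ⟨stalkLin (Sigma.ι (fun _ : Fin k => Coh.structureModule (Proj 𝒜)) j) x r, ?_⟩
      rw [← LinearMap.comp_apply, ← stalkLin_comp, Sigma.ι_desc, ← hc₀]
      exact hr
    | zero => rw [TensorProduct.zero_tmul, map_zero]; exact zero_mem _
    | add a a' _ _ h h' => rw [TensorProduct.add_tmul, map_add]; exact add_mem h h'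
    | smul r a _ h => rw [← TensorProduct.smul_tmul', map_smul]; exact Submodule.smul_mem _ r h

end Groth.Agent.GrTildeLib
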