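import Groth.Agent.GrTildeLib.Biprod

/-!
# The sheaf of a finite graded module is a quotient of twists
-/

set_option autoImplicit false
set_option linter.style.haveILetI false
set_option backward.isDefEq.respectTransparency false

universe u

open DirectSum CategoryTheory CategoryTheory.Limits AlgebraicGeometry

noncomputable section

namespace Groth.Agent.GrTildeLib

variable {R A : Type u} [CommRing R] [CommRing A] [Algebra R A] {𝒜 : ℕ → Submodule R A} [GradedAlgebra 𝒜]

variable (𝒜) in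
/-- The ring with generator in degree `d`. -/
def shiftN (d : ℕ) : ℕ → Submodule R A := fun i => if d ≤ i then 𝒜 (i - d) else ⊥

omit [GradedAlgebra 𝒜] in
theorem mem_shiftN {d i : ℕ} {a : A} (h : a ∈ shiftN 𝒜 d i) : a = 0 ∨ ∃ l, i = l + d ∧ a ∈ 𝒜 l := by
  unfold shiftN at h
  split_ifs at h with hd
  · exact Or.inr ⟨i - d, by omega, h⟩
  · exact Or.inl h

omit [GradedAlgebra 𝒜] in
theorem shiftN_add (d l : ℕ) : shiftN 𝒜 d (l + d) = 𝒜 l := by
  simp [shiftN]

instance gradedSMul_shiftN (d : ℕ) : SetLike.GradedSMul 𝒜 (shiftN 𝒜 d) := ⟨by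
  intro i j a v ha hv
  rcases mem_shiftN hv with rfl | ⟨l, rfl, hl⟩
  · rw [smul_zero]; exact zero_mem _
  · rw [vadd_eq_add, ← add_assoc, shiftN_add]
    exact SetLike.GradedMul.mul_mem ha hl⟩

theorem regrades_shiftN (d : ℕ) :
    Regrades (shiftN 𝒜 d) 𝒜 0 (-(d : ℤ)) ∧ Regrades 𝒜 (shiftN 𝒜 d) (-(d : ℤ)) 0 := by
  constructor
  · intro i j m hm he hm0
    obtain ⟨l, rfl, hl⟩ := (mem_shiftN hm).resolve_left hm0
    exact ⟨l, by omega, hl⟩
  · intro i j m hm he _
    exact ⟨i + d, by omega, (shiftN_add d i).ge hm⟩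

variable (𝒜) in
/-- The sheaf of the shifted ring. -/
def shiftNIso (d : ℕ) : GrTilde.tilde 𝒜 (shiftN 𝒜 d) 0 ≅ Twist.twist 𝒜 (-(d : ℤ)) :=
  regradeIso (regrades_shiftN d).1 (regrades_shiftN d).2 ≪≫ (twistIso 𝒜 (-(d : ℤ))).symm

variable {M : Type u} [AddCommGroup M] [Module R M] [Module A M] [IsScalarTower R A M] {ℳ : ℕ → Submodule R M}
  [SetLike.GradedSMul 𝒜 ℳ] [Decomposition ℳ]

theorem decompose_smul_mem (a : A) {d : ℕ} {m : M} (hm : m ∈ ℳ d) (i : ℕ) :
    (decompose ℳ (a • m) i : M) = if d ≤ i then (decompose 𝒜 a (i - d) : A) • m else 0 := by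
  induction a using Decomposition.inductionOn 𝒜 with
  | zero => simp
  | add a b ha hb =>
    rw [add_smul, decompose_add, DFinsupp.add_apply, Submodule.coe_add, ha, hb, decompose_add, DFinsupp.add_apply,
      Submodule.coe_add, add_smul]
    split_ifs <;> simp
  | @homogeneous l a =>
    have h : a.1 • m ∈ ℳ (l + d) := SetLike.GradedSMul.smul_mem a.2 hm
    rcases eq_or_ne (l + d) i with rfl | hne
    · rw [decompose_of_mem_same ℳ h, if_pos (Nat.le_add_left d l), Nat.add_sub_cancel,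
        decompose_of_mem_same 𝒜 a.2]
    · rw [decompose_of_mem_ne ℳ h hne]
      split_ifs with hd
      · rw [decompose_of_mem_ne 𝒜 a.2 (by omega), zero_smul]
      · rfl

/-- A finite graded module gives a quotient of a coproduct of twists. -/
theorem exists_epi_twists [Module.Finite A M] :
    ∃ (r : ℕ) (d : Fin r → ℤ) (φ : (∐ fun j : Fin r => Twist.twist 𝒜 (d j)) ⟶ GrTilde.tilde 𝒜 ℳ 0), Epi φ := by
  classical
  obtain ⟨G, hG⟩ := Module.Finite.fg_top (R := A) (M := M)
  let T : Finset M := G.biUnion fun g => (decompose ℳ g).support.image fun i => (decompose ℳ g i : M)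
  have hdeg : ∀ m : T, ∃ i, m.1 ∈ ℳ i := by
    intro m
    obtain ⟨g, -, h⟩ := Finset.mem_biUnion.1 m.2
    obtain ⟨i, -, h⟩ := Finset.mem_image.1 h
    exact ⟨i, h ▸ (decompose ℳ g i).2⟩
  choose dT hdT using hdeg
  let w : Fin T.card → M := fun b => (T.equivFin.symm b).1
  let D : Fin T.card → ℕ := fun b => dT (T.equivFin.symm b)
  have hw : ∀ b, w b ∈ ℳ (D b) := fun b => hdT _
  let u : (Fin T.card → A) →ₗ[A] M := Fintype.linearCombination A w
  have hu_apply : ∀ v, u v = ∑ b, v b • w b := fun v => Fintype.linearCombination_apply A w v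
  have hu : IsDeg (piGr fun b => shiftN 𝒜 (D b)) ℳ u := by
    intro i v hv
    rw [hu_apply]
    refine Submodule.sum_mem _ fun b _ => ?_
    rcases mem_shiftN (mem_piGr.1 hv b) with h | ⟨l, rfl, hl⟩
    · rw [h, zero_smul]; exact zero_mem _
    · exact SetLike.GradedSMul.smul_mem hl (hw b)
  have htop : LinearMap.range u = ⊤ := by
    refine eq_top_iff.2 (hG ▸ Submodule.span_le.2 fun g hg => ?_)
    rw [SetLike.mem_coe, ← sum_support_decompose ℳ g]
    refine Submodule.sum_mem _ fun i hi => ?_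
    have hT : (decompose ℳ g i : M) ∈ T := Finset.mem_biUnion.2 ⟨g, hg, Finset.mem_image.2 ⟨i, hi, rfl⟩⟩
    refine ⟨Pi.single (T.equivFin ⟨_, hT⟩) 1, ?_⟩
    rw [hu_apply, Finset.sum_eq_single (T.equivFin ⟨_, hT⟩)]
    · simp [w]
    · exact fun b _ hb => by simp [Pi.single_eq_of_ne hb]
    · simp
  haveI : Epi (tmap 𝒜 _ _ u hu 0) := epi_tmap u hu 0 fun i z hz => by
    obtain ⟨v, hv⟩ := LinearMap.range_eq_top.1 htop z
    refine ⟨fun b => if D b ≤ i then (decompose 𝒜 (v b) (i - D b) : A) else 0, mem_piGr.2 fun b => ?_, ?_⟩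
    · show _ ∈ shiftN 𝒜 (D b) i
      unfold shiftN
      split_ifs with h
      · exact SetLike.coe_mem _
      · exact zero_mem _
    · rw [hu_apply, ← decompose_of_mem_same ℳ hz, ← hv, hu_apply, decompose_sum, DFinsupp.finsetSum_apply,
        Submodule.coe_sum]
      refine Finset.sum_congr rfl fun b _ => ?_
      rw [decompose_smul_mem (𝒜 := 𝒜) (v b) (hw b) i]
      split_ifs <;> simp
  let e : GrTilde.tilde 𝒜 (piGr fun b => shiftN 𝒜 (D b)) 0 ≅ ∐ fun b => Twist.twist 𝒜 (-(D b : ℤ)) :=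
    tildePiIso _ 0 ≪≫ Sigma.mapIso fun b => shiftNIso 𝒜 (D b)
  exact ⟨T.card, fun b => -(D b : ℤ), e.inv ≫ tmap 𝒜 _ _ u hu 0, epi_comp _ _⟩

end Groth.Agent.GrTildeLib
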