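import Groth.Agent.GrTildeLib.QCoh
import Groth.Agent.ParaFLib.Glue

/-! Degree zero fractions as functions on `Proj`. -/

set_option autoImplicit false
set_option linter.style.haveILetI false
set_option backward.isDefEq.respectTransparency false

universe u

open CategoryTheory TopologicalSpace AlgebraicGeometry Opposite
open HomogeneousLocalization

noncomputable section

namespace Groth.Agent.GrTildeLib

variable {R A : Type u} [CommRing R] [CommRing A] [Algebra R A] {𝒜 : ℕ → Submodule R A} [GradedAlgebra 𝒜]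

/-- The fraction `a / s` of degree zero as a function on `V`. -/
def fracO {e : ℕ} (a s : 𝒜 e) {V : (Proj 𝒜).Opens} (hV : V ≤ Proj.basicOpen 𝒜 s.1) : Γ(Proj 𝒜, V) :=
  (⟨fun x => HomogeneousLocalization.mk ⟨e, a, s, hV x.2⟩,
    fun x => ⟨V, x.2, 𝟙 _, e, a, s, fun y => hV y.2, fun _ => rfl⟩⟩ : Twist.O (𝒜 := 𝒜) (op V))

theorem val_fracO {e : ℕ} (a s : 𝒜 e) {V : (Proj 𝒜).Opens} (hV : V ≤ Proj.basicOpen 𝒜 s.1) (x : V) :
    ((fracO a s hV : Twist.O (𝒜 := 𝒜) (op V)).1 x).val = Localization.mk a.1 ⟨s.1, hV x.2⟩ := by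
  show (HomogeneousLocalization.mk _).val = _
  rw [HomogeneousLocalization.val_mk]

theorem O_ext {V : (Proj 𝒜).Opens} {c d : Γ(Proj 𝒜, V)}
    (h : ∀ x : V, ((c : Twist.O (𝒜 := 𝒜) (op V)).1 x).val = ((d : Twist.O (𝒜 := 𝒜) (op V)).1 x).val) : c = d :=
  Subtype.ext (funext fun x => HomogeneousLocalization.val_injective _ (h x))

theorem fracO_res {e : ℕ} (a s : 𝒜 e) {V W : (Proj 𝒜).Opens} (hV : V ≤ Proj.basicOpen 𝒜 s.1) (hW : W ≤ V) :
    (Proj 𝒜).presheaf.map (homOfLE hW).op (fracO a s hV) = fracO a s (hW.trans hV) := rfl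

theorem fracO_eq {e e' : ℕ} (a s : 𝒜 e) (a' s' : 𝒜 e') {V : (Proj 𝒜).Opens} (hV : V ≤ Proj.basicOpen 𝒜 s.1)
    (hV' : V ≤ Proj.basicOpen 𝒜 s'.1) (h : a.1 * s'.1 = a'.1 * s.1) : fracO a s hV = fracO a' s' hV' :=
  O_ext fun x => by
    rw [val_fracO, val_fracO, Localization.mk_eq_mk_iff, Localization.r_iff_exists]
    exact ⟨1, by simpa [mul_comm] using h⟩

theorem fracO_mul {e e' : ℕ} (a s : 𝒜 e) (a' s' : 𝒜 e') {V : (Proj 𝒜).Opens} (hV : V ≤ Proj.basicOpen 𝒜 s.1)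
    (hV' : V ≤ Proj.basicOpen 𝒜 s'.1) :
    fracO a s hV * fracO a' s' hV' = fracO ⟨a.1 * a'.1, SetLike.mul_mem_graded a.2 a'.2⟩
      (⟨s.1 * s'.1, SetLike.mul_mem_graded s.2 s'.2⟩ : 𝒜 (e + e'))
      (fun x hx hm => (x.isPrime.mem_or_mem hm).elim (hV hx) (hV' hx)) :=
  O_ext fun x => by
    show ((HomogeneousLocalization.mk _ : Twist.A0 𝒜 x.1) * HomogeneousLocalization.mk _).val = _
    rw [HomogeneousLocalization.val_mul, HomogeneousLocalization.val_mk, HomogeneousLocalization.val_mk,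
      Localization.mk_mul, val_fracO]
    rfl

theorem fracO_self {e : ℕ} (a s : 𝒜 e) {V : (Proj 𝒜).Opens} (hV : V ≤ Proj.basicOpen 𝒜 s.1) (h : a.1 = s.1) :
    fracO a s hV = 1 :=
  O_ext fun x => by
    show _ = (1 : Twist.A0 𝒜 x.1).val
    rw [val_fracO, HomogeneousLocalization.val_one]
    simp only [h]
    exact Localization.mk_self (⟨s.1, hV x.2⟩ : x.1.asHomogeneousIdeal.toIdeal.primeCompl)

theorem fracO_add {e : ℕ} (a b s : 𝒜 e) {V : (Proj 𝒜).Opens} (hV : V ≤ Proj.basicOpen 𝒜 s.1) :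
    fracO (a + b) s hV = fracO a s hV + fracO b s hV :=
  O_ext fun x => by
    show _ = ((HomogeneousLocalization.mk _ : Twist.A0 𝒜 x.1) + HomogeneousLocalization.mk _).val
    rw [HomogeneousLocalization.val_add, val_fracO, HomogeneousLocalization.val_mk, HomogeneousLocalization.val_mk,
      Localization.add_mk_self]
    rfl

/-! ### Dehomogenisation -/

variable {f g : 𝒜 1}

/-- The power of an element of degree one, in its degree. -/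
def gp (f : 𝒜 1) (e : ℕ) : 𝒜 e := ⟨f.1 ^ e, by simpa using SetLike.pow_mem_graded e f.2⟩

lemma gp_coe (f : 𝒜 1) (e : ℕ) : (gp f e).1 = f.1 ^ e := rfl

theorem le_gp {V : (Proj 𝒜).Opens} (hV : V ≤ Proj.basicOpen 𝒜 f.1) (e : ℕ) : V ≤ Proj.basicOpen 𝒜 (gp f e).1 :=
  fun x hx hm => hV hx (x.isPrime.mem_of_pow_mem e hm)

/-- `a / f ^ e`. -/
def dh (f : 𝒜 1) {e : ℕ} (a : 𝒜 e) {V : (Proj 𝒜).Opens} (hV : V ≤ Proj.basicOpen 𝒜 f.1) : Γ(Proj 𝒜, V) :=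
  fracO a (gp f e) (le_gp hV e)

theorem dh_res {e : ℕ} (a : 𝒜 e) {V W : (Proj 𝒜).Opens} (hV : V ≤ Proj.basicOpen 𝒜 f.1) (hW : W ≤ V) :
    (Proj 𝒜).presheaf.map (homOfLE hW).op (dh f a hV) = dh f a (hW.trans hV) := rfl

theorem dh_mul {e e' k : ℕ} (a : 𝒜 e) (a' : 𝒜 e') (b : 𝒜 k) (he : e + e' = k) (hb : b.1 = a.1 * a'.1)
    {V : (Proj 𝒜).Opens} (hV : V ≤ Proj.basicOpen 𝒜 f.1) : dh f a hV * dh f a' hV = dh f b hV := by
  rw [dh, dh, fracO_mul]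
  exact fracO_eq _ _ _ _ _ _ (by simp only [gp_coe, hb, ← pow_add, he])

theorem dh_self {e : ℕ} (a : 𝒜 e) (h : a.1 = f.1 ^ e) {V : (Proj 𝒜).Opens} (hV : V ≤ Proj.basicOpen 𝒜 f.1) :
    dh f a hV = 1 := fracO_self _ _ _ h

theorem dh_change {e : ℕ} (a : 𝒜 e) {V : (Proj 𝒜).Opens} (hV : V ≤ Proj.basicOpen 𝒜 f.1)
    (hV' : V ≤ Proj.basicOpen 𝒜 g.1) : dh f a hV = dh f (gp g e) hV * dh g a hV' := by
  rw [dh, dh, dh, fracO_mul]
  exact fracO_eq _ _ _ _ _ _ (by simp only [gp_coe]; ring)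

theorem dh_add {e : ℕ} (a b : 𝒜 e) {V : (Proj 𝒜).Opens} (hV : V ≤ Proj.basicOpen 𝒜 f.1) :
    dh f (a + b) hV = dh f a hV + dh f b hV := fracO_add _ _ _ _

theorem dh_pow {e k : ℕ} (a : 𝒜 e) (N : ℕ) (b : 𝒜 k) (hk : k = N * e) (hb : b.1 = a.1 ^ N)
    {V : (Proj 𝒜).Opens} (hV : V ≤ Proj.basicOpen 𝒜 f.1) : dh f a hV ^ N = dh f b hV := by
  induction N generalizing k with
  | zero =>
    subst hk
    rw [pow_zero]
    exact (dh_self b (by simp [hb]) hV).symm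
  | succ N ih =>
    rw [pow_succ, ih (k := N * e) ⟨a.1 ^ N, by simpa using SetLike.pow_mem_graded N a.2⟩ rfl rfl]
    exact dh_mul _ a b (by rw [hk]; ring) (by simp [hb, pow_succ]) hV

theorem dh_eq_awayToSection {e : ℕ} (a : 𝒜 e) :
    dh f a (le_refl (Proj.basicOpen 𝒜 f.1)) =
      Proj.awayToSection 𝒜 f.1 (Away.mk 𝒜 f.2 e a.1 (by simpa using a.2)) :=
  O_ext fun x => by
    rw [dh, val_fracO, val_awayToSection]
    rfl

theorem basicOpen_dh {e : ℕ} (a : 𝒜 e) {V : (Proj 𝒜).Opens} (hV : V ≤ Proj.basicOpen 𝒜 f.1) :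
    (Proj 𝒜).basicOpen (dh f a hV) = V ⊓ Proj.basicOpen 𝒜 a.1 := by
  have h : (Proj 𝒜).basicOpen (dh f a (le_refl (Proj.basicOpen 𝒜 f.1))) = Proj.basicOpen 𝒜 (f.1 * a.1) := by
    rw [dh_eq_awayToSection, basicOpen_awayToSection]
  rw [← dh_res a le_rfl hV, Scheme.basicOpen_res, h, Proj.basicOpen_mul, ← inf_assoc, inf_of_le_left hV]

theorem isUnit_germ_dh {e : ℕ} (a : 𝒜 e) {V : (Proj 𝒜).Opens} (hV : V ≤ Proj.basicOpen 𝒜 f.1) {x : Proj 𝒜}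
    (hx : x ∈ V) (ha : x ∈ Proj.basicOpen 𝒜 a.1) :
    IsUnit ((Proj 𝒜).presheaf.germ V x hx (dh f a hV)) :=
  (Scheme.mem_basicOpen _ _ x hx).1 (by rw [basicOpen_dh]; exact ⟨hx, ha⟩)

end Groth.Agent.GrTildeLib
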