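import Groth.Agent.GrTildeLib.Basic

/-! Every section over `D₊(f)` is a single fraction. -/

set_option autoImplicit false
set_option linter.style.haveILetI false

universe u

open CategoryTheory TopologicalSpace AlgebraicGeometry Opposite

noncomputable section

namespace Groth.Agent.GrTildeLib

variable {R A : Type u} [CommRing R] [CommRing A] [Algebra R A] {𝒜 : ℕ → Submodule R A} [GradedAlgebra 𝒜]
variable {M : Type u} [AddCommGroup M] [Module R M] [Module A M]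
  {ℳ : ℕ → Submodule R M} [DirectSum.Decomposition ℳ] [SetLike.GradedSMul 𝒜 ℳ]

omit [DirectSum.Decomposition ℳ] in
theorem exists_global_num {n : ℤ} {d : ℕ} {f : A} {α : Type*} (T : Finset α)
    (deg deg' : α → ℕ) (h : ∀ a, 𝒜 (deg a)) (m : ∀ a, ℳ (deg' a)) (hdeg : ∀ a, (deg' a : ℤ) = deg a + n)
    (hcompat : ∀ a ∈ T, ∀ b ∈ T, (h b).1 • (m a).1 = (h a).1 • (m b).1)
    (hf : f ∈ 𝒜 d) (hd : 0 < d) (hrad : f ∈ (Ideal.span ((fun a => (h a).1) '' (T : Set α))).radical) :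
    ∃ (p i : ℕ) (m₀ : ℳ i), (i : ℤ) = p * d + n ∧ ∀ b ∈ T, (h b).1 • m₀.1 = f ^ p • (m b).1 := by
  classical
  obtain ⟨p₀, hp₀⟩ := hrad
  let p := p₀ + n.natAbs
  have hp : f ^ p ∈ Ideal.span ((fun a => (h a).1) '' (T : Set α)) := by
    rw [pow_add]
    exact Ideal.mul_mem_right _ _ hp₀
  obtain ⟨c, hc⟩ := Submodule.mem_span_image_finset_iff_exists_fun' A |>.1 hp
  have hpdn : 0 ≤ (p : ℤ) * d + n := by
    have h1 : ((p₀ : ℤ) + n.natAbs) * 1 ≤ ((p₀ : ℤ) + n.natAbs) * d :=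
      mul_le_mul_of_nonneg_left (by exact_mod_cast hd) (by positivity)
    simp only [p, Nat.cast_add]
    omega
  obtain ⟨i, hi⟩ : ∃ i : ℕ, (i : ℤ) = p * d + n := ⟨((p : ℤ) * d + n).toNat, Int.toNat_of_nonneg hpdn⟩
  -- the components of the coefficients in the right degree
  let c' : α → A := fun a => if deg a ≤ p * d then (DirectSum.decompose 𝒜 (c a) (p * d - deg a) : A) else 0
  have hc' : f ^ p = ∑ a ∈ T, c' a * (h a).1 := by
    have h1 := congrArg (fun z => (DirectSum.decompose 𝒜 z (p * d) : A)) hc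
    have hfp : f ^ p ∈ 𝒜 (p * d) := by simpa [smul_eq_mul] using SetLike.pow_mem_graded p hf
    simp only [DirectSum.decompose_of_mem_same 𝒜 hfp] at h1
    let π : A →+ A := AddMonoidHom.mk' (fun z => ((DirectSum.decompose 𝒜 z (p * d) : 𝒜 (p * d)) : A))
      fun y z => by simp
    rw [show ((DirectSum.decompose 𝒜 (∑ a ∈ T, c a • (h a).1)) (p * d) : A) =
      π (∑ a ∈ T, c a • (h a).1) from rfl, map_sum] at h1
    rw [← h1]
    refine Finset.sum_congr rfl fun a _ => ?_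
    show ((DirectSum.decompose 𝒜 (c a * (h a).1)) (p * d) : A) = _
    rw [DirectSum.coe_decompose_mul_of_right_mem 𝒜 (p * d) (h a).2]
    simp only [c']
    split_ifs <;> simp
  let mterm : α → M := fun a => c' a • (m a).1
  have hmem : ∀ a, mterm a ∈ ℳ i := fun a => by
    simp only [mterm, c']
    split_ifs with hle
    · have : p * d - deg a + deg' a = i := by
        have := hdeg a
        omega
      exact this ▸ SetLike.GradedSMul.smul_mem (DirectSum.decompose 𝒜 (c a) (p * d - deg a)).2 (m a).2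
    · rw [zero_smul]; exact zero_mem _
  refine ⟨p, i, ⟨∑ a ∈ T, mterm a, sum_mem fun a _ => hmem a⟩, hi, fun b hb => ?_⟩
  show (h b).1 • ∑ a ∈ T, c' a • (m a).1 = _
  rw [Finset.smul_sum, hc', Finset.sum_smul]
  refine Finset.sum_congr rfl fun a ha => ?_
  rw [smul_comm, hcompat a ha b hb, smul_smul]

theorem exists_frac_eq {n : ℤ} {d : ℕ} (hd : 0 < d) {f : A} (hf : f ∈ 𝒜 d)
    (s : Γ(GrTilde.tilde 𝒜 ℳ n, Proj.basicOpen 𝒜 f)) :
    ∃ (p i : ℕ) (m : ℳ i), (i : ℤ) = p * d + n ∧ ∀ x : Proj.basicOpen 𝒜 f,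
      valAt s x = (LocalizedModule.mk m.1 ⟨f ^ p, fun h => x.2 (x.1.isPrime.mem_of_pow_mem p h)⟩ :
        GrTilde.LocMod 𝒜 (M := M) x.1) := by
  classical
  -- local fractions with a denominator of degree divisible by `d`
  have loc : ∀ x : Proj.basicOpen 𝒜 f, ∃ (e : ℕ) (h : 𝒜 e) (e' : ℕ) (m : ℳ e'), (e' : ℤ) = e + n ∧ 0 < e ∧
      x.1 ∈ Proj.basicOpen 𝒜 h.1 ∧ ∃ hle : Proj.basicOpen 𝒜 h.1 ≤ Proj.basicOpen 𝒜 f,
        ∀ y : Proj.basicOpen 𝒜 h.1, valAt s ⟨y.1, hle y.2⟩ = LocalizedModule.mk m.1 ⟨h.1, y.2⟩ := by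
    intro x
    obtain ⟨V, hxV, iV, i, j, m, t, tnin, hdeg, hval⟩ := (s : GrTilde.sect 𝒜 ℳ n _).2 x
    obtain ⟨_, ⟨g₀, rfl⟩, hxg, hgV⟩ := Opens.isBasis_iff_nbhd.1 (Proj.isBasis_basicOpen 𝒜) (U := V) (x := x.1) hxV
    obtain ⟨e, he⟩ : ∃ e, (DirectSum.decompose 𝒜 g₀ e : A) ∉ x.1.asHomogeneousIdeal := by
      by_contra hne
      push Not at hne
      refine hxg ?_
      show g₀ ∈ x.1.asHomogeneousIdeal.toIdeal
      rw [← DirectSum.sum_support_decompose 𝒜 g₀]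
      exact Ideal.sum_mem _ fun k _ => hne k
    set g : A := (DirectSum.decompose 𝒜 g₀ e : A)
    have hgle : Proj.basicOpen 𝒜 g ≤ Proj.basicOpen 𝒜 g₀ := fun y hy hy0 =>
      hy (y.asHomogeneousIdeal.isHomogeneous e hy0)
    let N := n.natAbs + 1
    let c : 𝒜 (e + N * d) := ⟨g * f ^ N, SetLike.mul_mem_graded (DirectSum.decompose 𝒜 g₀ e).2
      (by simpa [smul_eq_mul] using SetLike.pow_mem_graded N hf)⟩
    have hcx : c.1 ∉ x.1.asHomogeneousIdeal := fun hm =>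
      (x.1.isPrime.mem_or_mem hm).elim he fun h => x.2 (x.1.isPrime.mem_of_pow_mem N h)
    have hNd : n.natAbs < N * d := Nat.lt_of_lt_of_le (Nat.lt_succ_self _) (Nat.le_mul_of_pos_right N hd)
    obtain ⟨e', he'⟩ : ∃ e' : ℕ, (e' : ℤ) = ((e + N * d) + j : ℕ) + n :=
      ⟨((((e + N * d) + j : ℕ) : ℤ) + n).toNat, Int.toNat_of_nonneg (by omega)⟩
    have hm' : c.1 • m.1 ∈ ℳ e' := by
      rcases hdeg with hdeg | hdeg
      · have : e + N * d + i = e' := by omega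
        exact this ▸ SetLike.GradedSMul.smul_mem c.2 m.2
      · rw [hdeg, smul_zero]; exact zero_mem _
    refine ⟨e + N * d + j, ⟨c.1 * t.1, SetLike.mul_mem_graded c.2 t.2⟩, e', ⟨_, hm'⟩, he', by omega,
      fun hm => (x.1.isPrime.mem_or_mem hm).elim hcx (tnin ⟨x.1, hxV⟩), ?_, fun y => ?_⟩
    · intro y hy hfy
      refine hy (Ideal.mul_mem_right _ _ (Ideal.mul_mem_left _ _ ?_))
      rw [pow_succ]
      exact Ideal.mul_mem_left _ _ hfy
    · have hy : y.1 ∈ V := hgV (hgle fun hm => y.2 (Ideal.mul_mem_right _ _ (Ideal.mul_mem_right _ _ hm)))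
      refine (hval ⟨y.1, hy⟩).trans (LocalizedModule.mk_eq.2 ⟨1, ?_⟩)
      simp only [one_smul]
      show (c.1 * t.1) • m.1 = t.1 • c.1 • m.1
      rw [mul_comm, mul_smul]
  choose e h e' m hdeg hepos hxh hle hval using loc
  -- a finite part suffices
  have hI : ∀ T : Set (Proj.basicOpen 𝒜 f), Ideal.IsHomogeneous 𝒜 (Ideal.span ((fun a => (h a).1) '' T)) :=
    fun T => Ideal.homogeneous_span _ _ fun _ ⟨a, _, ha⟩ => ha ▸ ⟨e a, (h a).2⟩
  obtain ⟨k₀, hk₀⟩ := mem_radical_of_forall_basicOpen 𝒜 ⟨_, hI Set.univ⟩ hd hf fun x hx hIle =>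
    hxh ⟨x, hx⟩ (hIle (show (h ⟨x, hx⟩).1 ∈ Ideal.span _ from Ideal.subset_span ⟨_, trivial, rfl⟩))
  replace hk₀ : f ^ k₀ ∈ Submodule.span A (Set.range fun a => (h a).1) := Set.image_univ ▸ hk₀
  obtain ⟨c, hc⟩ := Finsupp.mem_span_range_iff_exists_finsupp.1 hk₀
  let T := c.support
  have hT : f ^ k₀ ∈ Ideal.span ((fun a => (h a).1) '' (SetLike.coe T)) := by
    rw [← hc]
    exact Submodule.sum_mem _ fun a ha => Submodule.smul_mem _ _ (Submodule.subset_span ⟨a, ha, rfl⟩)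
  -- compatibility on overlaps
  have hpair : ∀ a b, ∃ N : ℕ, ((h a).1 * (h b).1) ^ N • ((h b).1 • (m a).1 - (h a).1 • (m b).1) = 0 := by
    intro a b
    have hmem : (h b).1 • (m a).1 - (h a).1 • (m b).1 ∈ ℳ (e b + e' a) :=
      sub_mem (SetLike.GradedSMul.smul_mem (h b).2 (m a).2) (by
        have : e a + e' b = e b + e' a := by have := hdeg a; have := hdeg b; omega
        exact this ▸ SetLike.GradedSMul.smul_mem (h a).2 (m b).2)
    refine exists_pow_smul_eq_zero (d := e a + e b) (by have := hepos a; omega)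
      (SetLike.mul_mem_graded (h a).2 (h b).2) (⟨_, hmem⟩ : ℳ _) fun x hx => ?_
    have hxa : (h a).1 ∉ x.asHomogeneousIdeal := fun hm => hx (Ideal.mul_mem_right _ _ hm)
    have hxb : (h b).1 ∉ x.asHomogeneousIdeal := fun hm => hx (Ideal.mul_mem_left _ _ hm)
    obtain ⟨⟨t, ht⟩, htm⟩ := LocalizedModule.mk_eq.1 ((hval a ⟨x, hxa⟩).symm.trans (hval b ⟨x, hxb⟩))
    exact ⟨t, ht, by rw [smul_sub, sub_eq_zero]; exact htm⟩
  choose N hN using hpair
  let K := (T ×ˢ T).sup fun q => N q.1 q.2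
  have hK : ∀ a ∈ T, ∀ b ∈ T, ((h a).1 * (h b).1) ^ K • ((h b).1 • (m a).1 - (h a).1 • (m b).1) = 0 := by
    intro a ha b hb
    have hle' : N a b ≤ K := Finset.le_sup (f := fun q : _ × _ => N q.1 q.2) (Finset.mem_product.2 ⟨ha, hb⟩ : (a, b) ∈ T ×ˢ T)
    rw [← Nat.sub_add_cancel hle', pow_add, mul_smul, hN, smul_zero]
  -- powers
  let h' : ∀ a, 𝒜 ((K + 1) * e a) := fun a =>
    ⟨(h a).1 ^ (K + 1), by simpa [smul_eq_mul] using SetLike.pow_mem_graded (K + 1) (h a).2⟩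
  let m' : ∀ a, ℳ (K * e a + e' a) := fun a =>
    ⟨(h a).1 ^ K • (m a).1, SetLike.GradedSMul.smul_mem
      (by simpa [smul_eq_mul] using SetLike.pow_mem_graded K (h a).2) (m a).2⟩
  have hcompat : ∀ a ∈ T, ∀ b ∈ T, (h' b).1 • (m' a).1 = (h' a).1 • (m' b).1 := fun a ha b hb => by
    have h1 := hK a ha b hb
    rw [smul_sub, sub_eq_zero, smul_smul, smul_smul] at h1
    simp only [h', m', smul_smul]
    convert h1 using 2 <;> ring
  obtain ⟨p, i, m₀, hi, hm₀⟩ := exists_global_num (ℳ := ℳ) (n := n) (f := f) T (fun a => (K + 1) * e a)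
    (fun a => K * e a + e' a) h' m' (fun a => by have := hdeg a; push_cast; linarith) hcompat hf hd (by
      refine Ideal.radical_isRadical _ ⟨k₀, (Ideal.span_le.2 ?_) hT⟩
      rintro _ ⟨a, ha, rfl⟩
      exact ⟨K + 1, Ideal.subset_span ⟨a, ha, rfl⟩⟩)
  refine ⟨p, i, m₀, hi, fun x => ?_⟩
  obtain ⟨b, hb, hxb⟩ : ∃ b ∈ T, (h b).1 ∉ x.1.asHomogeneousIdeal := by
    by_contra hne
    push Not at hne
    refine x.2 (x.1.isPrime.mem_of_pow_mem k₀ ((Ideal.span_le.2 ?_) hT))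
    rintro _ ⟨a, ha, rfl⟩
    exact hne a ha
  refine (hval b ⟨x.1, hxb⟩).trans (LocalizedModule.mk_eq.2 ⟨⟨(h b).1 ^ K, fun hm => hxb
    (x.1.isPrime.mem_of_pow_mem K hm)⟩, ?_⟩)
  show (h b).1 ^ K • f ^ p • (m b).1 = (h b).1 ^ K • (h b).1 • m₀.1
  rw [smul_comm, smul_smul ((h b).1 ^ K), ← pow_succ]
  exact (hm₀ b hb).symm

end Groth.Agent.GrTildeLib
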