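import Groth.Agent.GrTildeLib.Section
import Groth.Agent.GrTildeLib.Stalk

/-! When the sheaf of a graded module vanishes. -/

set_option autoImplicit false
set_option linter.style.haveILetI false
set_option backward.isDefEq.respectTransparency false

universe u

open CategoryTheory CategoryTheory.Limits TopologicalSpace AlgebraicGeometry Opposite

noncomputable section

namespace Groth.Agent.GrTildeLib

variable {R A : Type u} [CommRing R] [CommRing A] [Algebra R A] {𝒜 : ℕ → Submodule R A} [GradedAlgebra 𝒜]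
variable {M : Type u} [AddCommGroup M] [Module R M] [Module A M]
  {ℳ : ℕ → Submodule R M} [DirectSum.Decomposition ℳ] [SetLike.GradedSMul 𝒜 ℳ]

omit [Algebra R A] in
theorem exists_pow_smul_all {P : A} (h : ∀ (i : ℕ) (m : ℳ i), ∃ k : ℕ, P ^ k • m.1 = 0) (z : M) :
    ∃ k : ℕ, P ^ k • z = 0 := by
  classical
  choose k hk using fun i => h i (DirectSum.decompose ℳ z i)
  obtain ⟨K, hK⟩ : ∃ K, ∀ i ∈ (DirectSum.decompose ℳ z).support, k i ≤ K := ⟨_, fun i hi => Finset.le_sup hi⟩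
  refine ⟨K, ?_⟩
  rw [← DirectSum.sum_support_decompose ℳ z, Finset.smul_sum]
  refine Finset.sum_eq_zero fun i hi => ?_
  rw [← Nat.sub_add_cancel (hK i hi), pow_add, mul_smul, hk, smul_zero]

omit [DirectSum.Decomposition ℳ] in
theorem isZero_tilde {n : ℤ} (h : ∀ (z : M) (d : ℕ) (f : A), 0 < d → f ∈ 𝒜 d → ∃ k : ℕ, f ^ k • z = 0) :
    IsZero (GrTilde.tilde 𝒜 ℳ n) := by
  classical
  have hval : ∀ {V : (Proj 𝒜).Opens} (f : Γ(GrTilde.tilde 𝒜 ℳ n, V)) (x : V), valAt f x = 0 := by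
    intro V f x
    obtain ⟨i, j, m, s, hs, -, hq⟩ := exists_rep ((f : GrTilde.sect 𝒜 ℳ n (op V)).1 x).2
    obtain ⟨e, g, he, hg, hxg⟩ : ∃ (e : ℕ) (g : A), 0 < e ∧ g ∈ 𝒜 e ∧ g ∉ x.1.asHomogeneousIdeal := by
      by_contra hne
      push Not at hne
      refine x.1.not_irrelevant_le fun a ha => ?_
      show a ∈ x.1.asHomogeneousIdeal.toIdeal
      rw [← DirectSum.sum_support_decompose 𝒜 a]
      refine Ideal.sum_mem _ fun k _ => ?_
      rcases Nat.eq_zero_or_pos k with rfl | hk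
      · rw [show (DirectSum.decompose 𝒜 a 0 : A) = 0 from (HomogeneousIdeal.mem_irrelevant_iff 𝒜 a).1 ha]
        exact zero_mem _
      · exact hne k _ hk (DirectSum.decompose 𝒜 a k).2
    obtain ⟨k, hk⟩ := h m.1 e g he hg
    show ((f : GrTilde.sect 𝒜 ℳ n (op V)).1 x).1 = 0
    rw [hq, mk_eq_zero]
    exact ⟨g ^ k, fun hm => hxg (x.1.isPrime.mem_of_pow_mem k hm), hk⟩
  rw [IsZero.iff_id_eq_zero]
  refine Scheme.Modules.hom_ext _ _ fun V => ?_
  refine ConcreteCategory.hom_ext _ _ fun f => sect_ext fun x => ?_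
  rw [hval, hval]

theorem exists_pow_smul_eq_zero_of_isZero (hgen : (HomogeneousIdeal.irrelevant 𝒜).toIdeal = Ideal.span (𝒜 1 : Set A))
    (h : IsZero (GrTilde.tilde 𝒜 ℳ 0)) (z : M) {d : ℕ} {f : A} (hd : 0 < d) (hf : f ∈ 𝒜 d) :
    ∃ k : ℕ, f ^ k • z = 0 := by
  refine exists_pow_smul_all (ℳ := ℳ) (fun i m => ?_) z
  have hzero : ∀ {V : (Proj 𝒜).Opens} (s : Γ(GrTilde.tilde 𝒜 ℳ 0, V)), s = 0 := fun {V} s => by
    have := congrArg (fun φ : GrTilde.tilde 𝒜 ℳ 0 ⟶ GrTilde.tilde 𝒜 ℳ 0 => φ.app V s) ((IsZero.iff_id_eq_zero _).1 h)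
    exact this
  have hrad : f ∈ (annHom 𝒜 m).toIdeal.radical := by
    refine (show (HomogeneousIdeal.irrelevant 𝒜).toIdeal ≤ _ from ?_) (HomogeneousIdeal.mem_irrelevant_of_mem 𝒜 hd hf)
    rw [hgen, Ideal.span_le]
    intro g hg
    have h0 := hzero (frac 𝒜 ℳ m (⟨g ^ i, by simpa using SetLike.pow_mem_graded i hg⟩ : 𝒜 i) 0 (by simp)
      (V := Proj.basicOpen 𝒜 g) (fun x hx hm => hx (x.isPrime.mem_of_pow_mem i hm)))
    obtain ⟨N, hN⟩ := exists_pow_smul_eq_zero' one_pos hg m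
      (fun x => ⟨g ^ i, fun hm => x.2 (x.1.isPrime.mem_of_pow_mem i hm)⟩)
      fun x => congrArg (fun s => valAt s x) h0
    exact ⟨N, mem_annHom.2 hN⟩
  obtain ⟨N, hN⟩ := hrad
  exact ⟨N, mem_annHom.1 hN⟩

theorem mem_pow_irrelevant (hgen : (HomogeneousIdeal.irrelevant 𝒜).toIdeal = Ideal.span (𝒜 1 : Set A)) :
    ∀ (j : ℕ) {a : A}, a ∈ 𝒜 j → a ∈ (HomogeneousIdeal.irrelevant 𝒜).toIdeal ^ j := by
  classical
  intro j
  induction j with
  | zero => intro a _; simp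
  | succ j ih =>
    intro a ha
    have ha' : a ∈ (HomogeneousIdeal.irrelevant 𝒜).toIdeal :=
      HomogeneousIdeal.mem_irrelevant_of_mem 𝒜 j.succ_pos ha
    rw [hgen] at ha'
    obtain ⟨c, hc⟩ := Finsupp.mem_span_range_iff_exists_finsupp.1
      (show a ∈ Submodule.span A (Set.range (Subtype.val : 𝒜 1 → A)) from by
        rw [show Set.range (Subtype.val : 𝒜 1 → A) = (𝒜 1 : Set A) from Subtype.range_coe]; exact ha')
    let π : A →+ A := AddMonoidHom.mk' (fun z => ((DirectSum.decompose 𝒜 z (j + 1) : 𝒜 (j + 1)) : A))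
      fun y z => by simp
    have h1 := congrArg π hc
    rw [Finsupp.sum, map_sum] at h1
    rw [show π a = a from DirectSum.decompose_of_mem_same 𝒜 ha] at h1
    rw [← h1, pow_succ]
    refine Ideal.sum_mem _ fun g _ => ?_
    show ((DirectSum.decompose 𝒜 (c g * (g : A)) (j + 1) : 𝒜 (j + 1)) : A) ∈ _
    rw [DirectSum.coe_decompose_mul_of_right_mem 𝒜 (j + 1) g.2, if_pos (by omega : 1 ≤ j + 1), Nat.add_sub_cancel]
    exact Ideal.mul_mem_mul (ih (DirectSum.decompose 𝒜 (c g) j).2)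
      (HomogeneousIdeal.mem_irrelevant_of_mem 𝒜 one_pos g.2)

theorem isTN_of_isZero (hfg : (HomogeneousIdeal.irrelevant 𝒜).toIdeal.FG)
    (hgen : (HomogeneousIdeal.irrelevant 𝒜).toIdeal = Ideal.span (𝒜 1 : Set A))
    (hTF : ∃ n : ℕ, (Submodule.span A (⋃ k ∈ Set.Ici n, (ℳ k : Set M))).FG)
    (h : IsZero (GrTilde.tilde 𝒜 ℳ 0)) : ∃ n : ℕ, ∀ k : ℕ, n ≤ k → ℳ k = ⊥ := by
  classical
  set I := (HomogeneousIdeal.irrelevant 𝒜).toIdeal
  obtain ⟨n, hn⟩ := hTF
  obtain ⟨G, hGsub, hG⟩ := (Submodule.fg_span_iff_fg_span_finset_subset _).1 hn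
  have hGmem : ∀ g ∈ G, ∃ k, g ∈ ℳ k := fun g hg => by
    have := hGsub hg
    simp only [Set.mem_iUnion, Set.mem_Ici] at this
    obtain ⟨k, _, hk⟩ := this
    exact ⟨k, hk⟩
  -- a power of the irrelevant ideal kills all generators
  obtain ⟨K, hK⟩ : ∃ K : ℕ, ∀ g ∈ G, ∀ a ∈ I ^ K, a • g = 0 := by
    have hex : ∀ g : M, ∃ K : ℕ, ∀ a ∈ I ^ K, a • g = 0 := fun g => by
      have hle : I ≤ Ideal.radical (LinearMap.ker (LinearMap.toSpanSingleton A M g) : Ideal A) := by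
        rw [hgen, Ideal.span_le]
        intro a ha
        obtain ⟨k, hk⟩ := exists_pow_smul_eq_zero_of_isZero hgen h g one_pos ha
        exact ⟨k, LinearMap.mem_ker.2 hk⟩
      obtain ⟨K, hK⟩ := Ideal.exists_pow_le_of_le_radical_of_fg hle hfg
      exact ⟨K, fun a ha => LinearMap.mem_ker.1 (hK ha)⟩
    choose K hK using hex
    exact ⟨G.sup K, fun g hg a ha => hK g a (Ideal.pow_le_pow_right (Finset.le_sup hg) ha)⟩
  choose deg hdeg using hGmem
  refine ⟨n + (G.attach.sup fun g => deg g.1 g.2) + K, fun k hk => ?_⟩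
  rw [Submodule.eq_bot_iff]
  intro z hz
  have hzs : z ∈ Submodule.span A (Set.range fun g : G => (g : M)) := by
    rw [show Set.range (fun g : G => (g : M)) = (G : Set M) from Subtype.range_coe, ← hG]
    exact Submodule.subset_span (Set.mem_iUnion₂.2 ⟨k, by simp only [Set.mem_Ici]; omega, hz⟩)
  obtain ⟨c, hc⟩ := (Submodule.mem_span_range_iff_exists_fun A).1 hzs
  let π : M →+ M := AddMonoidHom.mk' (fun w => ((DirectSum.decompose ℳ w k : ℳ k) : M)) fun y w => by simp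
  have h1 := congrArg π hc
  rw [map_sum, show π z = z from DirectSum.decompose_of_mem_same ℳ hz] at h1
  rw [← h1]
  refine Finset.sum_eq_zero fun g _ => ?_
  have hd : deg g.1 g.2 ≤ G.attach.sup fun g => deg g.1 g.2 :=
    Finset.le_sup (f := fun g : {x // x ∈ G} => deg g.1 g.2) (Finset.mem_attach G g)
  let π' : A →+ M := AddMonoidHom.mk' (fun a => π (a • (g : M))) fun y w => by simp only [add_smul, map_add]
  show π' (c g) = 0
  conv_lhs => rw [← DirectSum.sum_support_decompose 𝒜 (c g)]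
  rw [map_sum]
  refine Finset.sum_eq_zero fun i _ => ?_
  show ((DirectSum.decompose ℳ ((DirectSum.decompose 𝒜 (c g) i : A) • (g : M)) k : ℳ k) : M) = 0
  have hmem : (DirectSum.decompose 𝒜 (c g) i : A) • (g : M) ∈ ℳ (i + deg g.1 g.2) :=
    SetLike.GradedSMul.smul_mem (DirectSum.decompose 𝒜 (c g) i).2 (hdeg g.1 g.2)
  by_cases hik : i + deg g.1 g.2 = k
  · have hI : (DirectSum.decompose 𝒜 (c g) i : A) ∈ I ^ K :=
      Ideal.pow_le_pow_right (by omega) (mem_pow_irrelevant hgen i (DirectSum.decompose 𝒜 (c g) i).2)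
    rw [hK g.1 g.2 _ hI]
    simp
  · exact DirectSum.decompose_of_mem_ne ℳ hmem hik

theorem pow_smul_eq_zero_of_TN (h : ∃ n : ℕ, ∀ k : ℕ, n ≤ k → ℳ k = ⊥) (z : M) {d : ℕ} {f : A}
    (hd : 0 < d) (hf : f ∈ 𝒜 d) : ∃ k : ℕ, f ^ k • z = 0 := by
  obtain ⟨n, hn⟩ := h
  refine exists_pow_smul_all (ℳ := ℳ) (fun i m => ⟨n, ?_⟩) z
  have hmem : f ^ n • m.1 ∈ ℳ (n * d + i) :=
    SetLike.GradedSMul.smul_mem (by simpa [smul_eq_mul] using SetLike.pow_mem_graded n hf) m.2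
  rw [hn _ ((Nat.le_mul_of_pos_right n hd).trans (Nat.le_add_right _ _))] at hmem
  exact (Submodule.mem_bot R).1 hmem

end Groth.Agent.GrTildeLib
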